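import Cfsg.Agent.Lib.Helper1.CD3.Defs
import Cfsg.Agent.Lib.Helper74.LinChar
import Mathlib

/-!
# CD3B (Q2) `index_of_extension` for helper1's server (S4460)
-/

set_option autoImplicit false

namespace Cfsg.Agent.Helper58.CD3B

open Cfsg Cfsg.Agent.Helper81 Cfsg.Agent.Helper1.CD3

universe u

/-- The trivial function is an irreducible character. -/
theorem h58_isIrr_one {W : Type u} [Group W] : IsIrrCharacter W (fun _ => (1 : ℂ)) := by
  have h := (Cfsg.Agent.Helper74.Lin.ofHom (1 : W →* ℂˣ)).2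
  have e : ((Cfsg.Agent.Helper74.Lin.ofHom (1 : W →* ℂˣ)) : W → ℂ) = fun _ => (1 : ℂ) := by
    funext g
    simp
  rw [e] at h
  exact h

/-- An irreducible character of `G` whose restriction to `W` contains a nontrivial irreducible
`ν` is not constant on `W`. -/
theorem h58_not_const {G : Type u} [Group G] [Fintype G] (W : Subgroup G) [Fintype W]
    {χ : G → ℂ} {ν : W → ℂ} (hν : IsIrrCharacter W ν) (hne : ν ≠ fun _ => 1)
    (hc : classInner (fun w : W => χ w) ν ≠ 0) : ∃ w : W, χ w ≠ χ 1 := by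
  by_contra hcon
  have hall : ∀ w : W, χ w = χ 1 := by
    intro w
    by_contra h
    exact hcon ⟨w, h⟩
  have e : (fun w : W => χ w) = (χ 1) • (fun _ : W => (1 : ℂ)) := by
    funext w
    simp [hall w]
  apply hc
  rw [e, classInner_smul_left, irr_orthonormal h58_isIrr_one hν, if_neg (fun h => hne h.symm),
    mul_zero]

theorem index_of_extension {G : Type u} [Group G] [Fintype G] (W : Subgroup G) [Fintype W] (hW : W.Normal) (n : ℕ)
    (ha : ∀ χ : G → ℂ, IsIrrCharacter G χ → (∃ w : W, χ w ≠ χ 1) → χ 1 = (n : ℂ))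
    (ν : W → ℂ) (hν : IsIrrCharacter W ν) (hne : ν ≠ fun _ => 1)
    (hle : W ≤ stab W hW ν) (μ : stab W hW ν → ℂ) (hμ : IsIrrCharacter (stab W hW ν) μ) (hμ1 : μ 1 = 1)
    (hext : ∀ w : W, μ ⟨(w : G), hle w.2⟩ = ν w) :
    (stab W hW ν).index = n := by
  classical
  haveI : Fintype (stab W hW ν) := Fintype.ofFinite _
  have hres : resTo hle μ = ν := by
    funext w
    exact hext w
  have hne' : classInner (resTo hle μ) ν ≠ 0 := by
    rw [hres, irr_orthonormal hν hν, if_pos rfl]
    exact one_ne_zero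
  obtain ⟨hirr, hin⟩ := clifford_corr_irr W (stab W hW ν) hW hle hν
    (fun g => mem_stab W hW ν g) hμ hne'
  have hc : classInner (fun w : W => indFun (stab W hW ν) μ (w : G)) ν ≠ 0 := by
    rw [hin]
    exact hne'
  have hnc := h58_not_const W hν hne hc
  have h1 := ha _ hirr hnc
  rw [indFun_one, hμ1, mul_one] at h1
  exact_mod_cast h1

end Cfsg.Agent.Helper58.CD3B
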