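import Mathlib
import Cfsg.Agent.Lib.Helper48.BG36EndCtx
import Cfsg.Agent.Lib.Helper24.Omega1
import Cfsg.Agent.Lib.Helper50.Hyperplane

/-!
# BG Theorem 3.6, endgame: case (A) `⟨a⟩ ≠ R`  (helper58, for helper48's assembly of S1444)
-/

set_option autoImplicit false

namespace Cfsg.Agent.Helper58.BG36

open Subgroup Cfsg.Agent.Helper48.BG36
open scoped commutatorElement

section aux

variable {G : Type*} [Group G]

/-- an element of a `p`-subgroup and of a subgroup of order prime to `p` is trivial -/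
theorem eq_one_of_mem_pgroup_of_coprime {p : ℕ} {N Q : Subgroup G} [Finite Q]
    (hN : IsPGroup p N) (hQ : (Nat.card Q).Coprime p) {c : G} (hcN : c ∈ N) (hcQ : c ∈ Q) :
    c = 1 := by
  obtain ⟨k, hk⟩ := hN ⟨c, hcN⟩
  have hk' : c ^ (p ^ k) = 1 := by
    have := congrArg Subtype.val hk
    simpa using this
  have h1 : orderOf c ∣ p ^ k := orderOf_dvd_of_pow_eq_one hk'
  have h2 : orderOf c ∣ Nat.card Q := Subgroup.orderOf_dvd_natCard Q hcQ
  have h3 : (Nat.card Q).Coprime (p ^ k) := Nat.Coprime.pow_right k hQ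
  have h4 : orderOf c = 1 := Nat.eq_one_of_dvd_coprimes h3 h2 h1
  exact orderOf_eq_one_iff.mp h4

/-- In a finite cyclic group, an element killed by `p` lies in any subgroup of order `p`. -/
theorem mem_zpowers_of_pow_eq_one_cyc {C : Type*} [Group C] [Finite C] [IsCyclic C] {p : ℕ}
    (hp : 0 < p) (y z : C) (hz : orderOf z = p) (hy : y ^ p = 1) : y ∈ Subgroup.zpowers z := by
  classical
  have := Fintype.ofFinite C
  have h1 := IsCyclic.card_pow_eq_one_le (α := C) hp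
  have hsub : (Finset.univ.filter (fun a : C => a ∈ Subgroup.zpowers z)) ⊆
      (Finset.univ.filter (fun a : C => a ^ p = 1)) := by
    intro a ha
    rw [Finset.mem_filter] at ha ⊢
    refine ⟨Finset.mem_univ _, ?_⟩
    obtain ⟨k, rfl⟩ := Subgroup.mem_zpowers_iff.mp ha.2
    rw [← zpow_natCast, ← zpow_mul, mul_comm, zpow_mul, zpow_natCast, ← hz, pow_orderOf_eq_one,
      one_zpow]
  have hcard : (Finset.univ.filter (fun a : C => a ∈ Subgroup.zpowers z)).card = p := by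
    rw [← Fintype.card_subtype, ← Nat.card_eq_fintype_card]
    exact (Nat.card_zpowers z).trans hz
  have heq := Finset.eq_of_subset_of_card_le hsub (by rw [hcard]; exact h1)
  have hy' : y ∈ Finset.univ.filter (fun a : C => a ^ p = 1) := by
    rw [Finset.mem_filter]; exact ⟨Finset.mem_univ _, hy⟩
  rw [← heq, Finset.mem_filter] at hy'
  exact hy'.2

/-- the same inside a cyclic subgroup -/
theorem mem_zpowers_of_cyclic_sub [Finite G] {p : ℕ} (hp : 0 < p) {B : Subgroup G}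
    (hB : IsCyclic B) {z x : G} (hz : z ∈ B) (hx : x ∈ B) (hzo : orderOf z = p)
    (hxp : x ^ p = 1) : x ∈ Subgroup.zpowers z := by
  have h := mem_zpowers_of_pow_eq_one_cyc (C := B) hp
    ⟨x, hx⟩ ⟨z, hz⟩ (by rw [← hzo]; exact Subgroup.orderOf_mk z hz)
    (Subtype.ext (by simpa using hxp))
  obtain ⟨k, hk⟩ := h
  refine ⟨k, ?_⟩
  have := congrArg Subtype.val hk
  simpa using this

/-- commutators centralize a cyclic normal subgroup -/
theorem commutatorElement_mul_comm_of_normal_cyclic (Q : Subgroup G) [Q.Normal]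
    (hQ : IsCyclic Q) (u w : G) {q : G} (hq : q ∈ Q) : ⁅u, w⁆ * q = q * ⁅u, w⁆ := by
  have := hQ
  let e := IsCyclic.mulAutMulEquiv Q
  let f : G →* (ZMod (Nat.card Q))ˣ := e.toMonoidHom.comp (MulAut.conjNormal (H := Q))
  have h1 : f ⁅u, w⁆ = 1 := by
    rw [map_commutatorElement]
    exact commutatorElement_eq_one_iff_commute.mpr (Commute.all _ _)
  have h2 : MulAut.conjNormal (H := Q) ⁅u, w⁆ = 1 := by
    have : e (MulAut.conjNormal (H := Q) ⁅u, w⁆) = 1 := h1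
    exact (MulEquiv.map_eq_one_iff e).mp this
  have h3 := congrArg (fun σ : MulAut Q => ((σ ⟨q, hq⟩ : Q) : G)) h2
  simp only [MulAut.conjNormal_apply, MulAut.one_apply] at h3
  generalize ⁅u, w⁆ = c at h3 ⊢
  calc c * q = (c * q * c⁻¹) * c := by group
    _ = q * c := by rw [h3]

/-- conjugation invariance passes to joins -/
theorem conj_mem_sup_of_conj_mem {A B : Subgroup G} {g : G}
    (hA : ∀ v ∈ A, g * v * g⁻¹ ∈ A) (hB : ∀ v ∈ B, g * v * g⁻¹ ∈ B) :
    ∀ v ∈ A ⊔ B, g * v * g⁻¹ ∈ A ⊔ B := by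
  have hle : A ⊔ B ≤ (A ⊔ B).comap (MulAut.conj g).toMonoidHom := by
    apply sup_le
    · intro v hv
      rw [mem_comap]
      exact (le_sup_left : A ≤ A ⊔ B) (by simpa using hA v hv)
    · intro v hv
      rw [mem_comap]
      exact (le_sup_right : B ≤ A ⊔ B) (by simpa using hB v hv)
  intro v hv
  have := hle hv
  rw [mem_comap] at this
  simpa using this

/-- invariance under a subgroup gives containment in the normalizer -/
theorem le_normalizer_of_conj_mem {K R : Subgroup G}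
    (h : ∀ ρ ∈ R, ∀ y ∈ K, ρ * y * ρ⁻¹ ∈ K) : R ≤ normalizer (K : Set G) := by
  intro ρ hρ
  rw [mem_normalizer_iff]
  intro y
  constructor
  · exact h ρ hρ y
  · intro hy
    have := h ρ⁻¹ (R.inv_mem hρ) _ hy
    have e : ρ⁻¹ * (ρ * y * ρ⁻¹) * ρ⁻¹⁻¹ = y := by group
    rwa [e] at this

end aux

variable {Γ : Type*} [Group Γ] [Finite Γ] [Group.IsSolvable Γ]
  {p : ℕ} [Fact p.Prime] {W : Type*} [AddCommGroup W] [Module (ZMod p) W] [Finite W]

/-- (caseA) `⟨a⟩ ≠ R`. -/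
theorem caseA (hodd : Odd (Nat.card Γ)) (φ : Γ →* Module.End (ZMod p) W) (L R : Subgroup Γ)
    [L.Normal] (a : Γ) {r : ℕ} (h : EndCtx φ L R a r) (hT : TailProp φ a r)
    (hRa : R ≠ Subgroup.zpowers a)
    (Q P : Subgroup Γ) (hQn : Q.Normal) (hQL : Q ≤ L) (hQp : (Nat.card Q).Coprime p)
    (hCQ : ∀ u ∈ L, (∀ q ∈ Q, u * q = q * u) → u ∈ Q)
    (hPL : P ≤ L) (hPp : IsPGroup p P) (hP1 : P ≠ ⊥)
    (hRP : ∀ ρ ∈ R, ∀ x ∈ P, ρ * x * ρ⁻¹ ∈ P) (hPR : P ≤ ⁅P, R⁆) : False := by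
  have hp : p.Prime := Fact.out
  have : Fact r.Prime := ⟨h.conf.prime⟩
  -- `p` divides `|P|`, `|L|`, `|Γ|`; `p` is odd
  have hpP : p ∣ Nat.card P := by
    obtain ⟨k, hk⟩ := IsPGroup.iff_card.mp hPp
    have hk0 : k ≠ 0 := by
      rintro rfl
      rw [pow_zero] at hk
      exact hP1 (Subgroup.card_eq_one.mp hk)
    rw [hk]; exact dvd_pow_self p hk0
  have hpL : p ∣ Nat.card L := hpP.trans (Subgroup.card_dvd_of_le hPL)
  have hpΓ : p ∣ Nat.card Γ := hpL.trans (Subgroup.card_subgroup_dvd_card L)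
  have hp2 : p ≠ 2 := by
    intro h2
    apply Nat.not_even_iff_odd.mpr hodd
    rw [even_iff_two_dvd, ← h2]
    exact hpΓ
  have hRcop : (Nat.card R).Coprime p :=
    (Nat.Coprime.coprime_dvd_left hpL h.conf.cop).symm
  have hQR : (Nat.card Q).Coprime (Nat.card R) :=
    Nat.Coprime.coprime_dvd_left (Subgroup.card_dvd_of_le hQL) h.conf.cop
  -- Step 1: `a` centralizes `P`
  have hzaR : zpowers a ≤ R := zpowers_le.mpr h.conf.mem
  have haP : ∀ u ∈ P, a * u = u * a := by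
    have hcomm_le : ⁅P, zpowers a⁆ ≤ P := by
      rw [Subgroup.commutator_le]
      intro g₁ hg₁ g₂ hg₂
      have h1 : g₂ * g₁⁻¹ * g₂⁻¹ ∈ P := hRP g₂ (hzaR hg₂) g₁⁻¹ (P.inv_mem hg₁)
      have h2 : ⁅g₁, g₂⁆ = g₁ * (g₂ * g₁⁻¹ * g₂⁻¹) := by
        rw [commutatorElement_def]; group
      rw [h2]; exact P.mul_mem hg₁ h1
    obtain ⟨N, hNL, hNp, hNinv, hPN⟩ := h.ihc L (zpowers a) le_rfl hzaR (mem_zpowers a)
      (fun ρ _ u hu => ‹L.Normal›.conj_mem u hu ρ) (Or.inr (Ne.symm hRa))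
      ⁅P, zpowers a⁆ (Subgroup.commutator_mono hPL le_rfl) (hPp.to_le hcomm_le)
    have hN : N = ⊥ := h.op N hNL hNp hNinv
    have hbot : ⁅P, zpowers a⁆ = ⊥ := by
      rw [hN] at hPN; exact le_bot_iff.mp hPN
    intro u hu
    have h3 := (Subgroup.commutator_eq_bot_iff_le_centralizer.mp hbot) hu
    exact (Subgroup.mem_centralizer_iff.mp h3) a (mem_zpowers a)
  -- Step 2: `P` is cyclic
  have hPcyc : IsCyclic P := h.conf.cyc p hp P hPL hPp haP
  -- Step 3: `x` of order `p`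
  obtain ⟨x, hxP, hxo⟩ : ∃ x ∈ P, orderOf x = p := by
    obtain ⟨y, hy⟩ := exists_prime_orderOf_dvd_card' (G := P) p hpP
    exact ⟨y, y.2, by rw [← hy]; exact Subgroup.orderOf_coe y⟩
  have hxp : x ^ p = 1 := by rw [← hxo]; exact pow_orderOf_eq_one x
  have hx1 : x ≠ 1 := by
    intro h1
    rw [h1, orderOf_one] at hxo
    exact hp.one_lt.ne hxo
  have hU : ∀ y ∈ P, y ^ p = 1 → y ∈ zpowers x := fun y hy hyp =>
    mem_zpowers_of_cyclic_sub hp.pos hPcyc hxP hy hxo hyp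
  have hxL : x ∈ L := hPL hxP
  have hxa : x * a = a * x := (haP x hxP).symm
  have hzxP : zpowers x ≤ P := zpowers_le.mpr hxP
  have hpow : ∀ y ∈ zpowers x, y ^ p = 1 := by
    intro y hy
    obtain ⟨k, rfl⟩ := mem_zpowers_iff.mp hy
    rw [← zpow_natCast, ← zpow_mul, mul_comm, zpow_mul, zpow_natCast, hxp, one_zpow]
  -- Step 4: `R` normalizes `⟨x⟩`
  have hRx : ∀ ρ ∈ R, ∀ y ∈ zpowers x, ρ * y * ρ⁻¹ ∈ zpowers x := by
    intro ρ hρ y hy
    apply hU _ (hRP ρ hρ y (hzxP hy))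
    rw [conj_pow, hpow y hy, mul_one, mul_inv_cancel]
  have hRnorm : R ≤ normalizer (zpowers x : Set Γ) := le_normalizer_of_conj_mem hRx
  -- Step 5: `x ∈ [⟨x⟩, R]`
  have hxcomm : x ∈ ⁅zpowers x, R⁆ := by
    by_cases hc : ∀ ρ ∈ R, ρ * x = x * ρ
    · exfalso
      have hRnP : R ≤ normalizer (P : Set Γ) := le_normalizer_of_conj_mem hRP
      have hRcP : R ≤ centralizer (P : Set Γ) :=
        Cfsg.Agent.Helper24.le_centralizer_of_centralizes_omega_one p hp2 R hRcop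
          (Nat.card P) P rfl hPp hRnP (by
            intro y hy hyp ρ hρ
            obtain ⟨k, rfl⟩ := mem_zpowers_iff.mp (hU y hy hyp)
            have hcm : Commute ρ x := hc ρ hρ
            exact hcm.zpow_right k)
      have hbot : ⁅P, R⁆ = ⊥ := by
        rw [Subgroup.commutator_comm]
        exact Subgroup.commutator_eq_bot_iff_le_centralizer.mpr hRcP
      rw [hbot] at hPR
      exact hP1 (le_bot_iff.mp hPR)
    · push Not at hc
      obtain ⟨ρ, hρ, hne⟩ := hc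
      have hcmem : ⁅x, ρ⁆ ∈ ⁅zpowers x, R⁆ :=
        Subgroup.commutator_mem_commutator (mem_zpowers x) hρ
      have hcx : ⁅x, ρ⁆ ∈ zpowers x := by
        have h1 : ρ * x⁻¹ * ρ⁻¹ ∈ zpowers x :=
          hRx ρ hρ x⁻¹ ((zpowers x).inv_mem (mem_zpowers x))
        have e : ⁅x, ρ⁆ = x * (ρ * x⁻¹ * ρ⁻¹) := by rw [commutatorElement_def]; group
        rw [e]; exact (zpowers x).mul_mem (mem_zpowers x) h1
      have hc1 : ⁅x, ρ⁆ ≠ 1 := by
        intro h1
        exact hne (commutatorElement_eq_one_iff_mul_comm.mp h1).symm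
      have hcardx : Nat.card (zpowers x) = p := by rw [Nat.card_zpowers, hxo]
      have h4 := mem_zpowers_of_prime_card (G := zpowers x) hcardx
        (g := ⟨⁅x, ρ⁆, hcx⟩) (g' := ⟨x, mem_zpowers x⟩) (by
          intro h1; exact hc1 (congrArg Subtype.val h1))
      obtain ⟨k, hk⟩ := mem_zpowers_iff.mp h4
      have hk' : ⁅x, ρ⁆ ^ k = x := by
        have := congrArg Subtype.val hk
        simpa using this
      have h5 := Subgroup.zpow_mem _ hcmem k
      rwa [hk'] at h5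
  -- Step 6: the group `Y = ⟨x⟩ R`
  set Y : Subgroup Γ := zpowers x ⊔ R with hYdef
  have hxY : x ∈ Y := (le_sup_left : zpowers x ≤ Y) (mem_zpowers x)
  have hRY : R ≤ Y := le_sup_right
  have hYnorm : Y ≤ normalizer (zpowers x : Set Γ) := sup_le le_normalizer hRnorm
  have hYx : ∀ y ∈ Y, y * x * y⁻¹ ∈ zpowers x := by
    intro y hy
    exact (mem_normalizer_iff.mp (hYnorm hy) x).mp (mem_zpowers x)
  have hQr : (Nat.card Q).Coprime r := by
    have hr : r ∣ Nat.card R := by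
      have h1 : orderOf a = r := orderOf_eq_prime h.conf.pow h.conf.ne
      rw [← h1]; exact Subgroup.orderOf_dvd_natCard R h.conf.mem
    exact Nat.Coprime.coprime_dvd_right hr hQR
  have hQY : (Nat.card Q).Coprime (Nat.card Y) := by
    have hd : Nat.card Y ∣ Nat.card (zpowers x) * Nat.card R :=
      Cfsg.Agent.Helper50.card_sup_dvd_of_le_normalizer (zpowers x) R hRnorm
    rw [Nat.card_zpowers, hxo] at hd
    exact Nat.Coprime.coprime_dvd_right hd (Nat.Coprime.mul_right hQp hQR)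
  -- Step 7: minimality
  have hmin : ∀ Q₁ : Subgroup Γ, Q₁ ≤ Q → (∀ y ∈ Y, ∀ u ∈ Q₁, y * u * y⁻¹ ∈ Q₁) → Q₁ ≠ Q →
      ∀ u ∈ Q₁, x * u = u * x := by
    intro Q₁ hQ₁Q hQ₁Y hQ₁ne u hu
    have hXL : Q₁ ⊔ zpowers x ≤ L := sup_le (hQ₁Q.trans hQL) (zpowers_le.mpr hxL)
    have hzxn : zpowers x ≤ normalizer (Q₁ : Set Γ) :=
      le_normalizer_of_conj_mem (fun ρ hρ v hv => hQ₁Y ρ ((le_sup_left : zpowers x ≤ Y) hρ) v hv)
    have hXne : Q₁ ⊔ zpowers x ≠ L := by
      intro hXL'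
      apply hQ₁ne
      have hd : Nat.card ↥(Q₁ ⊔ zpowers x) ∣ Nat.card Q₁ * Nat.card (zpowers x) :=
        Cfsg.Agent.Helper50.card_sup_dvd_of_le_normalizer Q₁ (zpowers x) hzxn
      rw [Nat.card_zpowers, hxo, hXL'] at hd
      have h1 : Nat.card Q ∣ Nat.card Q₁ * p := (Subgroup.card_dvd_of_le hQL).trans hd
      have h2 : Nat.card Q ∣ Nat.card Q₁ := Nat.Coprime.dvd_of_dvd_mul_right hQp h1
      exact Subgroup.eq_of_le_of_card_ge hQ₁Q (Nat.le_of_dvd Nat.card_pos h2)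
    have hXR : ∀ ρ ∈ R, ∀ v ∈ Q₁ ⊔ zpowers x, ρ * v * ρ⁻¹ ∈ Q₁ ⊔ zpowers x := by
      intro ρ hρ
      exact conj_mem_sup_of_conj_mem (fun v hv => hQ₁Y ρ (hRY hρ) v hv) (hRx ρ hρ)
    obtain ⟨N, hNX, hNp, hNinv, hxN⟩ := h.ihc (Q₁ ⊔ zpowers x) R hXL le_rfl h.conf.mem hXR
      (Or.inl hXne) (zpowers x)
      (zpowers_le.mpr (Subgroup.commutator_mono le_sup_right le_rfl hxcomm))
      (hPp.to_le hzxP)
    have hxN' : x ∈ N := hxN (mem_zpowers x)
    have huX : u ∈ Q₁ ⊔ zpowers x := (le_sup_left : Q₁ ≤ Q₁ ⊔ zpowers x) hu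
    have hc1 : x * u * x⁻¹ * u⁻¹ ∈ N := by
      have h1 : u * x⁻¹ * u⁻¹ ∈ N := hNinv u huX x⁻¹ (N.inv_mem hxN')
      have e : x * u * x⁻¹ * u⁻¹ = x * (u * x⁻¹ * u⁻¹) := by group
      rw [e]; exact N.mul_mem hxN' h1
    have hc2 : x * u * x⁻¹ * u⁻¹ ∈ Q :=
      Q.mul_mem (hQ₁Q (hQ₁Y x hxY u hu)) (Q.inv_mem (hQ₁Q hu))
    have hc : x * u * x⁻¹ * u⁻¹ = 1 := eq_one_of_mem_pgroup_of_coprime hNp hQp hc1 hc2
    calc x * u = (x * u * x⁻¹ * u⁻¹) * (u * x) := by group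
      _ = u * x := by rw [hc, one_mul]
  -- Step 8: `x` does not centralize `Q`
  have hne : ∃ u ∈ Q, x * u ≠ u * x := by
    by_contra hcon
    push Not at hcon
    have hxQ : x ∈ Q := hCQ x hxL hcon
    exact hx1 (eq_one_of_mem_pgroup_of_coprime hPp hQp hxP hxQ)
  -- Step 9: apply the tail
  obtain ⟨⟨s, hs, hQs⟩, haQ⟩ := hT Q hQn hQp hQr (fun u hu => h.faith u (hQL hu))
    (fun q hq T hTQ hTq hTa => h.conf.cyc q hq T (hTQ.trans hQL) hTq hTa)
    x hxp hxa Y hxY hYx hQY hmin hne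
  have hQcyc : IsCyclic Q := h.conf.cyc s hs Q hQL hQs haQ
  obtain ⟨u, hu, hux⟩ := hne
  apply hux
  have hQn' : Q.Normal := hQn
  have hle : ⁅zpowers x, R⁆ ≤ centralizer (Q : Set Γ) := by
    rw [Subgroup.commutator_le]
    intro g₁ _ g₂ _
    rw [mem_centralizer_iff]
    intro q hq
    exact (commutatorElement_mul_comm_of_normal_cyclic Q hQcyc g₁ g₂ hq).symm
  exact ((mem_centralizer_iff.mp (hle hxcomm)) u hu).symm

end Cfsg.Agent.Helper58.BG36
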