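import Mathlib
import Cfsg.Agent.S1350
import Cfsg.Agent.S1403
import Cfsg.Agent.Lib.Helper95.BG15.FitSigma

/-!
# BG section 11, request (W3) of helper24: `M_σ ≠ 1` for every maximal subgroup `M` of a minimal
simple group of odd order (wrapper around `Helper95.BG15.FitSigma.sigmaCore_ne_bot`, with the
Uniqueness Theorem S1403 and the Hall property S1350 plugged in).
-/

set_option autoImplicit false

universe u

namespace Cfsg.Agent.Helper58.BG11

theorem sigmaCore_ne_bot {G : Type u} [Group G] [Finite G] (hG : Cfsg.IsMinSimpleOddOrder G)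
    (M : Subgroup G) (hM : IsCoatom M) : Cfsg.sigmaCore M ≠ ⊥ :=
  Cfsg.Agent.Helper95.BG15.FitSigma.sigmaCore_ne_bot hG
    (fun K hK h1 h2 => Cfsg.Agent.S1403.result hG K hK h1 h2) hM
    (Cfsg.Agent.S1350.result hG M hM).1

/-- `σ(M)` is nonempty. -/
theorem exists_mem_sigma {G : Type u} [Group G] [Finite G] (hG : Cfsg.IsMinSimpleOddOrder G)
    (M : Subgroup G) (hM : IsCoatom M) : ∃ q, q ∈ Cfsg.sigma M :=
  Cfsg.Agent.Helper95.BG15.FitSigma.exists_mem_sigma hG
    (fun K hK h1 h2 => Cfsg.Agent.S1403.result hG K hK h1 h2) hM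

end Cfsg.Agent.Helper58.BG11
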