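import Mathlib
import Cfsg.Agent.Lib.Helper48.HallHigmanPCore

/-!
# BG section 11, request (W1) of helper24: a fixed-point-free element of prime order `p` acting on a
nilpotent `{p,r}'`-group `K`: `[R, x]` centralizes `K` for every `x`-invariant `r`-group `R`
normalizing `K` (`r` odd).
-/

set_option autoImplicit false

universe u

namespace Cfsg.Agent.Helper58.BG11

open Subgroup

theorem fpf_comm_centralizes {G : Type u} [Group G] [Finite G] {p r : ℕ} (hp : p.Prime)
    (hr : r.Prime) (hpr : p ≠ r) (hr2 : r ≠ 2) (K R : Subgroup G) (x : G)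
    (hKnil : Group.IsNilpotent K) (hRK : R ≤ normalizer (K : Set G))
    (hxK : x ∈ normalizer (K : Set G)) (hR : IsPGroup r R) (hxp : x ^ p = 1)
    (hxR : ∀ u ∈ R, x * u * x⁻¹ ∈ R) (hcr : ¬ r ∣ Nat.card K) (hcp : ¬ p ∣ Nat.card K)
    (hfix : K ⊓ centralizer ({x} : Set G) = ⊥) :
    ∀ u ∈ R, x * u * x⁻¹ * u⁻¹ ∈ centralizer (K : Set G) := by
  classical
  intro u hu
  -- work inside `N = N_G(K)`
  set N : Subgroup G := normalizer (K : Set G) with hN
  have hKN : K ≤ N := le_normalizer
  set K' : Subgroup N := K.subgroupOf N with hK'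
  have hK'n : K'.Normal := normal_in_normalizer
  have hK'nil : Group.IsNilpotent K' :=
    Group.nilpotent_of_mulEquiv (Subgroup.subgroupOfEquivOfLe hKN).symm
  have hcardK' : Nat.card K' = Nat.card K :=
    Nat.card_congr (Subgroup.subgroupOfEquivOfLe hKN).toEquiv
  set x' : N := ⟨x, hxK⟩ with hx'
  set u' : N := ⟨u, hRK hu⟩ with hu'
  set R' : Subgroup N := R.subgroupOf N with hR'
  have hR'r : IsPGroup r R' := hR.comap_subtype
  have hx'p : x' ^ p = 1 := Subtype.ext (by simpa using hxp)
  have hx'R : ∀ w ∈ R', x' * w * x'⁻¹ ∈ R' := by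
    intro w hw
    rw [hR', mem_subgroupOf] at hw ⊢
    simpa using hxR _ hw
  have hu'R : u' ∈ R' := by
    rw [hR', mem_subgroupOf]
    exact hu
  set c' : N := x' * u' * x'⁻¹ * u'⁻¹ with hc'
  -- the subgroup of `K'` centralized by `c'`
  set T : Subgroup N := K' ⊓ centralizer ({c'} : Set N) with hT
  have hTK : T ≤ K' := inf_le_left
  have hdvd : Nat.card K' ∣ Nat.card T := by
    rw [Nat.dvd_iff_prime_pow_dvd_dvd]
    intro q k hq hqk
    by_cases hk0 : k = 0
    · rw [hk0, pow_zero]; exact one_dvd _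
    have hqK : q ∣ Nat.card K := by
      rw [← hcardK']
      exact (dvd_pow_self q hk0).trans hqk
    have hqp : q ≠ p := fun h => hcp (h ▸ hqK)
    have hqr : q ≠ r := fun h => hcr (h ▸ hqK)
    have : Fact q.Prime := ⟨hq⟩
    obtain ⟨P⟩ : Nonempty (Sylow q K') := inferInstance
    have hPn : (P : Subgroup K').Normal := inferInstance
    have hPc : (P : Subgroup K').Characteristic := Sylow.characteristic_of_normal P hPn
    set PN : Subgroup N := (P : Subgroup K').map K'.subtype with hPN
    have hPNn : PN.Normal := ConjAct.normal_of_characteristic_of_normal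
    have hPNq : IsPGroup q PN := P.isPGroup'.map K'.subtype
    have hPNK : PN ≤ K' := by
      rintro _ ⟨v, _, rfl⟩
      exact v.2
    have hPNfix : PN ⊓ centralizer ({x'} : Set N) = ⊥ := by
      rw [eq_bot_iff]
      rintro v ⟨hv1, hv2⟩
      rw [mem_bot]
      have hvK : (v : G) ∈ K := by
        have := hPNK hv1
        rwa [hK', mem_subgroupOf] at this
      have hvx : (v : G) ∈ centralizer ({x} : Set G) := by
        have hv2' : v ∈ centralizer ({x'} : Set N) := hv2
        rw [mem_centralizer_singleton_iff] at hv2' ⊢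
        have := congrArg Subtype.val hv2'
        simpa using this
      have : (v : G) ∈ K ⊓ centralizer ({x} : Set G) := ⟨hvK, hvx⟩
      rw [hfix, mem_bot] at this
      exact Subtype.ext this
    have key := Cfsg.Agent.Helper48.HHC.commutator_centralizes_normal_pgroup hq hr hp hqr hqp
      hpr.symm hr2 PN R' hPNq x' hx'p hPNfix hR'r hx'R u' hu'R
    have hPNT : PN ≤ T := by
      intro v hv
      refine ⟨hPNK hv, ?_⟩
      show v ∈ centralizer ({c'} : Set N)
      rw [mem_centralizer_singleton_iff]
      exact (mem_centralizer_iff.mp key v hv)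
    have h1 : q ^ k ∣ Nat.card P := P.pow_dvd_card_of_pow_dvd_card hqk
    have h2 : Nat.card PN = Nat.card P :=
      Subgroup.card_map_of_injective (Subgroup.subtype_injective K')
    rw [← h2] at h1
    exact h1.trans (Subgroup.card_dvd_of_le hPNT)
  have hTeq : T = K' :=
    Subgroup.eq_of_le_of_card_ge hTK (Nat.le_of_dvd Nat.card_pos hdvd)
  rw [mem_centralizer_iff]
  intro k hk
  have hk' : (⟨k, hKN hk⟩ : N) ∈ T := by
    rw [hTeq, hK', mem_subgroupOf]
    exact hk
  have hk2 : (⟨k, hKN hk⟩ : N) ∈ centralizer ({c'} : Set N) := hk'.2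
  rw [mem_centralizer_singleton_iff] at hk2
  have := congrArg Subtype.val hk2
  simpa [hc', hx', hu'] using this

end Cfsg.Agent.Helper58.BG11
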