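import Mathlib
import Cfsg.Agent.S1415
import Cfsg.Agent.Lib.Helper1.Hall

/-!
# Request (R12) of helper53's S1378 route (B–G 13.9)

If `τ₂(M) = ∅`, a complement `E` of `M_σ` in `M` with a Hall `τ₁(M)`-subgroup `E₁` has a Hall
`τ₃(M)`-subgroup `E₃` with `E = E₃ E₁`, the two orders coprime.
-/

set_option autoImplicit false

namespace Cfsg.Agent.Helper58.BG139Req

open Cfsg

/-- every prime divisor of the order of a complement `E` of `M_σ` lies in `τ₁(M) ∪ τ₃(M)` when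
`τ₂(M) = ∅`. -/
theorem mem_tau1_or_tau3_of_dvd {G : Type*} [Group G] [Finite G] (hG : Cfsg.IsMinSimpleOddOrder G)
    (M : Subgroup G) (hM : IsCoatom M) (h2 : Cfsg.tau2 M = ∅) (E : Subgroup G)
    (hE : Cfsg.IsComplIn E (Cfsg.sigmaCore M) M) (p : ℕ) (hp : p.Prime) (hpd : p ∣ Nat.card E) :
    p ∈ Cfsg.tau1 M ∨ p ∈ Cfsg.tau3 M := by
  have hσ : IsPiHallOf (sigma M) (sigmaCore M) M := (Cfsg.Agent.S1350.result hG M hM).1
  have hU : Cfsg.Agent.Helper34.BG.UniqHyp G :=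
    fun K hK h1 h3 => Cfsg.Agent.S1403.result hG K hK h1 h3
  have h1 : p ∉ sigma M := Cfsg.Agent.Helper78.BG121.not_mem_sigma_of_dvd hσ hE hp hpd
  have hα : p ∉ alpha M := fun h => h1 (Cfsg.Agent.Helper34.BG.alpha_subset_sigma hG hU hM h)
  have h3 : PRankLE p 2 ↥M := by
    by_contra hn
    exact hα ⟨hp, hn⟩
  have h4 : PRankLE p 1 ↥M := by
    by_contra hn
    have : p ∈ tau2 M := ⟨hp, h1, h3, hn⟩
    rw [h2] at this
    exact this
  have hpM : p ∣ Nat.card M := hpd.trans (Subgroup.card_dvd_of_le hE.1)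
  by_cases hc : p ∣ Nat.card ↥⁅M, M⁆
  · exact Or.inr ⟨hp, h1, hc, h4⟩
  · exact Or.inl ⟨hp, h1, hpM, hc, h4⟩

theorem exists_hall_tau3 {G : Type*} [Group G] [Finite G] (hG : Cfsg.IsMinSimpleOddOrder G)
    (M : Subgroup G) (hM : IsCoatom M) (h2 : Cfsg.tau2 M = ∅) (E : Subgroup G)
    (hE : Cfsg.IsComplIn E (Cfsg.sigmaCore M) M) (E1 : Subgroup G)
    (hE1 : Cfsg.IsPiHallOf (Cfsg.tau1 M) E1 E) :
    ∃ E3 : Subgroup G, Cfsg.IsPiHallOf (Cfsg.tau3 M) E3 E ∧ E ≤ E3 ⊔ E1 ∧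
      (Nat.card E3).Coprime (Nat.card E1) ∧ Nat.card E = Nat.card E3 * Nat.card E1 := by
  have hne : E ≠ ⊤ := Cfsg.Agent.Helper34.BG.ne_top_of_le_coatom hM hE.1
  have : Group.IsSolvable ↥E := Cfsg.Agent.Helper34.BG.solvable_of_ne_top hG hne
  have hcard : Nat.card ↥E = E1.relIndex E * Nat.card E1 := by
    have h := Subgroup.card_mul_index (E1.subgroupOf E)
    rw [Cfsg.Agent.Helper34.BG.card_subgroupOf_of_le hE1.1] at h
    rw [Subgroup.relIndex, mul_comm]
    exact h.symm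
  have hmn : (E1.relIndex E).Coprime (Nat.card E1) := by
    apply Nat.Coprime.symm
    apply Nat.coprime_of_dvd
    intro p hp hpd
    exact hE1.2.2 p hp (hE1.2.1 p hp hpd)
  obtain ⟨H, hH, -⟩ :=
    Cfsg.Agent.Helper1.hall_exists_dominant (E1.relIndex E) (Nat.card E1) hcard hmn
  have hcE3 : Nat.card (H.map E.subtype) = E1.relIndex E := by
    rw [Subgroup.card_map_of_injective E.subtype_injective]
    exact hH
  have hE3E : H.map E.subtype ≤ E := Subgroup.map_subtype_le H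
  have hrel : (H.map E.subtype).relIndex E = Nat.card E1 := by
    have h := Subgroup.card_mul_index ((H.map E.subtype).subgroupOf E)
    rw [Cfsg.Agent.Helper34.BG.card_subgroupOf_of_le hE3E, hcE3, hcard] at h
    have hpos : 0 < E1.relIndex E := by
      rcases Nat.eq_zero_or_pos (E1.relIndex E) with h0 | h0
      · rw [h0, zero_mul] at hcard
        exact absurd hcard (Nat.card_pos).ne'
      · exact h0
    exact Nat.eq_of_mul_eq_mul_left hpos h
  refine ⟨H.map E.subtype, ⟨hE3E, ?_, ?_⟩, ?_, ?_, ?_⟩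
  · intro p hp hpd
    rw [hcE3] at hpd
    have hpE : p ∣ Nat.card E := by
      rw [hcard]
      exact hpd.mul_right _
    rcases mem_tau1_or_tau3_of_dvd hG M hM h2 E hE p hp hpE with h | h
    · exact absurd hpd (hE1.2.2 p hp h)
    · exact h
  · intro p hp hp3 hpd
    rw [hrel] at hpd
    exact (hE1.2.1 p hp hpd).2.2.2.1 hp3.2.2.1
  · have hK : H.map E.subtype ⊔ E1 ≤ E := sup_le hE3E hE1.1
    have hd1 : Nat.card (H.map E.subtype) ∣ Nat.card ↥(H.map E.subtype ⊔ E1) :=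
      Subgroup.card_dvd_of_le le_sup_left
    have hd2 : Nat.card E1 ∣ Nat.card ↥(H.map E.subtype ⊔ E1) :=
      Subgroup.card_dvd_of_le le_sup_right
    rw [hcE3] at hd1
    have hd : E1.relIndex E * Nat.card E1 ∣ Nat.card ↥(H.map E.subtype ⊔ E1) :=
      Nat.Coprime.mul_dvd_of_dvd_of_dvd hmn hd1 hd2
    rw [← hcard] at hd
    exact (Subgroup.eq_of_le_of_card_ge hK (Nat.le_of_dvd Nat.card_pos hd)).ge
  · rw [hcE3]
    exact hmn
  · rw [hcE3]
    exact hcard

end Cfsg.Agent.Helper58.BG139Req
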