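import Mathlib
import Cfsg.Agent.Lib.Helper2.SS0

/-!
# SS piece (G1) `seed_gen` (helper2's server for S2411)
`sympT (v + lam • e0) c * sympT v (-c) = eich e0 ((c*lam) • v) (c*lam^2)`.
-/

set_option autoImplicit false

namespace Cfsg.Agent.Helper58.SS

open Matrix Cfsg Cfsg.Agent.Helper13 Cfsg.Agent.Helper84.SpRoot Cfsg.Agent.Helper5.SpAut
open Cfsg.Agent.Helper2.SR Cfsg.Agent.Helper2.SS

section G
variable {F : Type*} [Field F] {n : ℕ}
  {H : Subgroup (Matrix.symplecticGroup (Fin n) F)} {e0 : Fin n ⊕ Fin n → F}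

theorem seed_gen {v : Fin n ⊕ Fin n → F} {c lam : F} (hv : Cfsg.sympForm n F v e0 = 0)
    (h1 : sympT (v + lam • e0) c ∈ H) (h2 : sympT v c ∈ H) : (c * lam) • v ∈ QQ H e0 := by
  have h0 : Cfsg.sympForm n F ((c * lam) • v) e0 = 0 := by
    rw [sympForm_smul_left, hv, mul_zero]
  refine ⟨h0, c * lam ^ 2, ?_⟩
  have h2' : sympT v (-c) ∈ H := by
    rw [← sympT_inv]
    exact H.inv_mem h2
  have key : sympT (v + lam • e0) c * sympT v (-c) = eich e0 ((c * lam) • v) (c * lam ^ 2) := by
    apply sp_ext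
    intro x
    rw [mul_act, sympT_act, sympT_act, eich_act h0]
    simp only [sympForm_add_left, sympForm_add_right, sympForm_smul_left, sympForm_smul_right,
      sympForm_self, hv]
    module
  rw [← key]
  exact H.mul_mem h1 h2'

end G

end Cfsg.Agent.Helper58.SS
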