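import Mathlib
import Cfsg.Agent.Lib.Helper17.S4017Defs
import Cfsg.Agent.Lib.Helper17.S4017FDefs
import Cfsg.Agent.Lib.Helper90.CYCC10

/-!
# S4017F (SE) for helper17's S4017F server: `no_even_normal`.
-/

set_option autoImplicit false

namespace Cfsg.Agent.Helper58.S4017F

open Subgroup Cfsg.Agent.Helper17.S4017

universe u

variable {G : Type u} [Group G] [Finite G] {p q : ℕ}

/-- for a normal subgroup `N`, `|Z ⊔ N|` divides `|Z| * |N|` -/
theorem h58_card_sup_dvd_of_normal (Z N : Subgroup G) [hN : N.Normal] :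
    Nat.card (Z ⊔ N : Subgroup G) ∣ Nat.card Z * Nat.card N := by
  apply Cfsg.Agent.Helper90.CYC.card_sup_dvd_of_le_normalizer
  rw [Subgroup.normalizer_eq_top_iff.mpr hN]
  exact le_top

/-- piece (SE): a proper normal subgroup of order divisible by `q` is impossible -/
theorem no_even_normal (hq : q.Prime) (hstar : Star p q G) (hU : NoNormalQ q G) (r : ℕ) (hr : r.Prime)
    (hrG : r ∣ Nat.card G) (hrp : r ≠ p) (hrq : r ≠ q) (N : Subgroup G) [N.Normal] (hN : N ≠ ⊤)
    (hqN : q ∣ Nat.card N) : False := by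
  have : Fact q.Prime := ⟨hq⟩
  obtain ⟨T0⟩ : Nonempty (Sylow q N) := inferInstance
  obtain ⟨T, hT⟩ : ∃ T : Subgroup G, T = (T0 : Subgroup N).map N.subtype := ⟨_, rfl⟩
  have hTq : IsPGroup q T := by
    rw [hT]
    exact T0.isPGroup'.map _
  have hcardT : Nat.card T = Nat.card (T0 : Subgroup N) := by
    rw [hT]
    exact Subgroup.card_map_of_injective N.subtype_injective
  have hqT : q ∣ Nat.card T := by
    rw [hcardT]
    exact T0.dvd_card_of_dvd_card hqN
  have hT1 : T ≠ ⊥ := by
    intro hbot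
    rw [hbot, Subgroup.card_bot] at hqT
    exact hq.one_lt.ne' (Nat.dvd_one.mp hqT)
  have hNT : normalizer (T : Set G) ≠ ⊤ := hU T hTq hT1
  have hqNT : q ∣ Nat.card (normalizer (T : Set G)) :=
    hqT.trans (Subgroup.card_dvd_of_le Subgroup.le_normalizer)
  have hfrat : normalizer (T : Set G) ⊔ N = ⊤ := by
    rw [hT]
    exact Sylow.normalizer_sup_eq_top T0
  have hdvd := h58_card_sup_dvd_of_normal (normalizer (T : Set G)) N
  rw [hfrat, Subgroup.card_top] at hdvd
  have hr' : r ∣ Nat.card (normalizer (T : Set G)) * Nat.card N := hrG.trans hdvd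
  rcases (Nat.Prime.dvd_mul hr).mp hr' with h1 | h1
  · rcases hstar _ hNT hqNT r hr h1 with h2 | h2
    · exact hrp h2
    · exact hrq h2
  · rcases hstar N hN hqN r hr h1 with h2 | h2
    · exact hrp h2
    · exact hrq h2

end Cfsg.Agent.Helper58.S4017F
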