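import Mathlib
import Cfsg.Agent.Lib.Helper17.S4017Defs
import Cfsg.Agent.Lib.Helper17.S4017FDefs
import Cfsg.Agent.Lib.Helper17.Counting

/-!
# S4017F (U) for helper17's S4017F server: `noNormalQ`.
-/

set_option autoImplicit false

namespace Cfsg.Agent.Helper58.S4017F

open Subgroup Cfsg.Agent.Helper17.S4017

universe u

variable {G : Type u} [Group G] [Finite G] {p q : ℕ}

/-- a subgroup whose order is divisible by `q` and `r` and divides `q ^ i * r ^ j` contradicts
`Hyp` (it is "mixed" and `p`-free). -/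
theorem h58_mixed_false (h : Hyp p q G) (r : ℕ) (hr : r.Prime) (hrp : r ≠ p) (hrq : r ≠ q)
    (M : Subgroup G) (hqM : q ∣ Nat.card M) (hrM : r ∣ Nat.card M) (i j : ℕ)
    (hM : Nat.card M ∣ q ^ i * r ^ j) : False := by
  have hnotq : ¬ IsPGroup q M := by
    intro hM'
    have : Fact q.Prime := ⟨h.hq⟩
    obtain ⟨k, hk⟩ := hM'.exists_card_eq
    rw [hk] at hrM
    exact hrq ((Nat.prime_dvd_prime_iff_eq hr h.hq).mp (hr.dvd_of_dvd_pow hrM))
  have hpM : p ∣ Nat.card M := by
    by_cases hMtop : M = ⊤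
    · rw [hMtop, Subgroup.card_top]
      exact h.hpG
    · exact h.hmix M hMtop hnotq hqM
  have hp1 : p ∣ q ^ i * r ^ j := hpM.trans hM
  rcases (Nat.Prime.dvd_mul h.hp).mp hp1 with h1 | h1
  · exact h.hpq ((Nat.prime_dvd_prime_iff_eq h.hp h.hq).mp (h.hp.dvd_of_dvd_pow h1))
  · exact hrp ((Nat.prime_dvd_prime_iff_eq h.hp hr).mp (h.hp.dvd_of_dvd_pow h1)).symm

/-- piece (U): no nontrivial `q`-subgroup is normal -/
theorem noNormalQ (h : Hyp p q G) (r : ℕ) (hr : r.Prime) (hrG : r ∣ Nat.card G) (hrp : r ≠ p)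
    (hrq : r ≠ q) : NoNormalQ q G := by
  intro U hUq hU1 hUn
  have hUnorm : U.Normal := Subgroup.normalizer_eq_top_iff.mp hUn
  have : Fact q.Prime := ⟨h.hq⟩
  have : Fact r.Prime := ⟨hr⟩
  obtain ⟨i, hi⟩ := hUq.exists_card_eq
  have hqU : q ∣ Nat.card U := by
    rw [hi]
    apply dvd_pow_self
    rintro rfl
    rw [pow_zero] at hi
    exact hU1 (Subgroup.eq_bot_of_card_eq U hi)
  obtain ⟨R⟩ : Nonempty (Sylow r G) := inferInstance
  have hRcard : Nat.card (R : Subgroup G) = r ^ (Nat.card G).factorization r :=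
    R.card_eq_multiplicity
  have hrR : r ∣ Nat.card (R : Subgroup G) := R.dvd_card_of_dvd_card hrG
  have hco : (Nat.card (R : Subgroup G)).Coprime (Nat.card U) := by
    rw [hRcard, hi]
    exact Nat.Coprime.pow _ _ ((Nat.coprime_primes hr h.hq).mpr hrq)
  have hcard := Cfsg.Agent.Helper17.card_sup_of_normal_coprime (R : Subgroup G) U hco
  refine h58_mixed_false h r hr hrp hrq ((R : Subgroup G) ⊔ U) ?_ ?_ i
    ((Nat.card G).factorization r) ?_
  · exact hqU.trans (Subgroup.card_dvd_of_le le_sup_right)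
  · exact hrR.trans (Subgroup.card_dvd_of_le le_sup_left)
  · rw [hcard, hi, hRcard]

end Cfsg.Agent.Helper58.S4017F
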