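import Mathlib
import Cfsg.Agent.Lib.Helper17.S4017Defs
import Cfsg.Agent.Lib.Helper17.S4017FDefs
import Cfsg.Agent.Lib.Helper90.CYCC10
import Cfsg.Agent.Lib.Helper58.S4017FU
import Cfsg.Agent.Lib.Helper58.S4017FSE

/-!
# S4017F (FRAT) for helper17's S4017F server: `noNormalCompl`.
-/

set_option autoImplicit false

namespace Cfsg.Agent.Helper58.S4017F

open Subgroup Cfsg.Agent.Helper17.S4017

universe u

variable {G : Type u} [Group G] [Finite G] {p q : ℕ}

/-- piece (FRAT): no normal `q`-complement -/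
theorem noNormalCompl (h : Hyp p q G) (r : ℕ) (hr : r.Prime) (hrG : r ∣ Nat.card G) (hrp : r ≠ p)
    (hrq : r ≠ q) : NoNormalCompl q G := by
  intro K hKn hK
  have : Fact q.Prime := ⟨h.hq⟩
  have : Fact r.Prime := ⟨hr⟩
  have hGpos : 0 < Nat.card G := Nat.card_pos
  have hKpos : 0 < Nat.card K := Nat.card_pos
  -- `r ∣ |K|`
  have hrK : r ∣ Nat.card K := by
    rw [← hK] at hrG
    rcases (Nat.Prime.dvd_mul hr).mp hrG with h1 | h1
    · exact h1
    · exact absurd ((Nat.prime_dvd_prime_iff_eq hr h.hq).mp (hr.dvd_of_dvd_pow h1)) hrq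
  -- `q ∣ q ^ a`
  have ha : (Nat.card G).factorization q ≠ 0 := by
    intro h0
    have := (Nat.factorization_eq_zero_iff _ _).mp h0
    rcases this with h1 | h1 | h1
    · exact h1 h.hq
    · exact h1 h.hqG
    · exact hGpos.ne' h1
  obtain ⟨R0⟩ : Nonempty (Sylow r K) := inferInstance
  obtain ⟨R, hR⟩ : ∃ R : Subgroup G, R = (R0 : Subgroup K).map K.subtype := ⟨_, rfl⟩
  have hcardR : Nat.card R = Nat.card (R0 : Subgroup K) := by
    rw [hR]
    exact Subgroup.card_map_of_injective K.subtype_injective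
  have hRcard : Nat.card R = r ^ (Nat.card K).factorization r := by
    rw [hcardR]
    exact R0.card_eq_multiplicity
  have hrR : r ∣ Nat.card R := by
    rw [hcardR]
    exact R0.dvd_card_of_dvd_card hrK
  have hfrat : normalizer (R : Set G) ⊔ K = ⊤ := by
    rw [hR]
    exact Sylow.normalizer_sup_eq_top R0
  have hdvd := h58_card_sup_dvd_of_normal (normalizer (R : Set G)) K
  rw [hfrat, Subgroup.card_top, ← hK, mul_comm (Nat.card K)] at hdvd
  have hqa : q ^ (Nat.card G).factorization q ∣ Nat.card (normalizer (R : Set G)) :=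
    Nat.dvd_of_mul_dvd_mul_right hKpos hdvd
  have hqNR : q ∣ Nat.card (normalizer (R : Set G)) := (dvd_pow_self q ha).trans hqa
  -- a Sylow `q`-subgroup of `N(R)`
  obtain ⟨Q0⟩ : Nonempty (Sylow q (normalizer (R : Set G))) := inferInstance
  obtain ⟨Q', hQ'⟩ : ∃ Q' : Subgroup G,
      Q' = (Q0 : Subgroup (normalizer (R : Set G))).map (normalizer (R : Set G)).subtype :=
    ⟨_, rfl⟩
  have hcardQ' : Nat.card Q' = Nat.card (Q0 : Subgroup (normalizer (R : Set G))) := by
    rw [hQ']
    exact Subgroup.card_map_of_injective (normalizer (R : Set G)).subtype_injective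
  have hQ'card : Nat.card Q' = q ^ (Nat.card (normalizer (R : Set G))).factorization q := by
    rw [hcardQ']
    exact Q0.card_eq_multiplicity
  have hqQ' : q ∣ Nat.card Q' := by
    rw [hcardQ']
    exact Q0.dvd_card_of_dvd_card hqNR
  have hQ'le : Q' ≤ normalizer (R : Set G) := by
    rw [hQ']
    exact Subgroup.map_subtype_le _
  have hdvd2 := Cfsg.Agent.Helper90.CYC.card_sup_dvd_of_le_normalizer Q' R hQ'le
  refine h58_mixed_false h r hr hrp hrq (Q' ⊔ R) ?_ ?_
    ((Nat.card (normalizer (R : Set G))).factorization q) ((Nat.card K).factorization r) ?_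
  · exact hqQ'.trans (Subgroup.card_dvd_of_le le_sup_left)
  · exact hrR.trans (Subgroup.card_dvd_of_le le_sup_right)
  · rw [← hQ'card, ← hRcard]
    exact hdvd2

end Cfsg.Agent.Helper58.S4017F
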