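import Mathlib
import Cfsg.Agent.S1415
import Cfsg.Agent.Lib.Helper58.BG139R12
import Cfsg.Agent.Lib.Helper82.BG139R3
import Cfsg.Agent.Lib.Helper22.BG11W2
import Cfsg.Agent.Lib.Helper55.BGHall
import Cfsg.Agent.Lib.Helper50.Hyperplane

/-!
# Request (R8) of helper53's S1378 route (B–G 13.9)

If `τ₂(M) = ∅`, no subgroup of `M` of prime order `t ∉ σ(M)`, `t ∤ |F|`, centralizes a Hall
`τ₁(M)`-subgroup `F` of `M`.
-/

set_option autoImplicit false

namespace Cfsg.Agent.Helper58.BG139Req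

open Cfsg

theorem false_of_centralizes_hall_tau1 {G : Type*} [Group G] [Finite G] (hG : Cfsg.IsMinSimpleOddOrder G)
    (M : Subgroup G) (hM : IsCoatom M) (h2 : Cfsg.tau2 M = ∅) (F R : Subgroup G)
    (hF : Cfsg.IsPiHallOf (Cfsg.tau1 M) F M) (hRM : R ≤ M) (t : ℕ) (ht : t.Prime) (hR : Nat.card R = t)
    (htσ : t ∉ Cfsg.sigma M) (htF : ¬ t ∣ Nat.card F) (hRF : R ≤ Subgroup.centralizer (F : Set G)) :
    False := by
  have hσ : IsPiHallOf (sigma M) (sigmaCore M) M := (Cfsg.Agent.S1350.result hG M hM).1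
  obtain ⟨E0, hE0⟩ := Cfsg.Agent.Helper55.BGB.exists_compl_sigmaCore hσ
  -- `X = R F` is a `σ(M)'`-subgroup of `M`
  have hXM : R ⊔ F ≤ M := sup_le hRM hF.1
  have hFnR : F ≤ Subgroup.normalizer (R : Set G) := by
    intro f hf
    rw [Subgroup.mem_normalizer_iff]
    intro r
    have hcomm : ∀ r' ∈ R, f * r' * f⁻¹ = r' := by
      intro r' hr'
      have h := (Subgroup.mem_centralizer_iff.mp (hRF hr')) f hf
      -- h : f * r' = r' * f
      rw [h, mul_inv_cancel_right]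
    constructor
    · intro hr
      rw [hcomm r hr]
      exact hr
    · intro hr
      have h1 : f⁻¹ * (f * r * f⁻¹) * f = r := by group
      have h2 := hcomm _ hr
      -- f * (f r f⁻¹) * f⁻¹ = f r f⁻¹, so conj is identity on it; deduce r ∈ R
      have h3 : f * r * f⁻¹ = r := by
        have h4 : f * (f * r * f⁻¹) * f⁻¹ = f * r * f⁻¹ := h2
        have h5 : f * r * f⁻¹ = f⁻¹ * (f * (f * r * f⁻¹) * f⁻¹) * f := by group
        rw [h4, h1] at h5
        exact h5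
      rw [← h3]
      exact hr
  have hXcard : Nat.card ↥(R ⊔ F) ∣ Nat.card R * Nat.card F :=
    Cfsg.Agent.Helper50.card_sup_dvd_of_le_normalizer R F hFnR
  have hcop : (Nat.card (sigmaCore M)).Coprime (Nat.card ↥(R ⊔ F)) := by
    apply Nat.coprime_of_dvd
    intro p hp hpd hpX
    have hpσ : p ∈ sigma M := hσ.2.1 p hp hpd
    have h1 := hpX.trans hXcard
    rcases (Nat.Prime.dvd_mul hp).mp h1 with h | h
    · rw [hR] at h
      have : p = t := (Nat.prime_dvd_prime_iff_eq hp ht).mp h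
      exact htσ (this ▸ hpσ)
    · exact (hF.2.1 p hp h).2.1 hpσ
  have hKsolv : Group.IsSolvable ↥(sigmaCore M) :=
    Cfsg.Agent.Helper34.BG.solvable_of_ne_top hG
      (Cfsg.Agent.Helper34.BG.ne_top_of_le_coatom hM hE0.2.1)
  obtain ⟨E, hE, hXE⟩ := Cfsg.Agent.Helper22.BG11.exists_compl_ge E0 hE0
    (Cfsg.Agent.Helper55.BGB.le_normalizer_sigmaCore M) hXM (Or.inl hKsolv) hcop
  have hFE : F ≤ E := le_sup_right.trans hXE
  have hRE : R ≤ E := le_sup_left.trans hXE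
  have hFHall : IsPiHallOf (tau1 M) F E := by
    refine ⟨hFE, hF.2.1, fun p hp hpτ hd => hF.2.2 p hp hpτ ?_⟩
    exact hd.trans (Dvd.intro _ (Subgroup.relIndex_mul_relIndex F E M hFE hE.1))
  obtain ⟨E3, hE3, hgen, hcop31, hcardE⟩ := exists_hall_tau3 hG M hM h2 E hE F hFHall
  obtain ⟨-, h1c, h3c⟩ := Cfsg.Agent.S1415.result hG M hM E hE
  have hFcyc : IsCyclic ↥F := h1c F hFHall
  obtain ⟨hE3cyc, hE3le, hE3n⟩ := h3c E3 hE3
  have hc3 : IsMulCommutative ↥E3 := by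
    obtain ⟨g, hg⟩ := hE3cyc.exists_generator
    refine ⟨⟨fun a b => ?_⟩⟩
    obtain ⟨i, rfl⟩ := Subgroup.mem_zpowers_iff.mp (hg a)
    obtain ⟨j, rfl⟩ := Subgroup.mem_zpowers_iff.mp (hg b)
    exact (Commute.zpow_zpow_self g i j).eq
  have hc1 : IsMulCommutative ↥F := by
    obtain ⟨g, hg⟩ := hFcyc.exists_generator
    refine ⟨⟨fun a b => ?_⟩⟩
    obtain ⟨i, rfl⟩ := Subgroup.mem_zpowers_iff.mp (hg a)
    obtain ⟨j, rfl⟩ := Subgroup.mem_zpowers_iff.mp (hg b)
    exact (Commute.zpow_zpow_self g i j).eq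
  have hbot : E3 ⊓ Subgroup.centralizer (F : Set G) = ⊥ :=
    Cfsg.Agent.Helper82.BG139Req.inf_centralizer_eq_bot_of_le_commutator E F E3 hFE hE3.1 hgen hE3n
      hc3 hc1 hcop31 hE3le
  -- `|E : E3| = |F|`
  have hrel : E3.relIndex E = Nat.card F := by
    have h := Subgroup.card_mul_index (E3.subgroupOf E)
    rw [Cfsg.Agent.Helper34.BG.card_subgroupOf_of_le hE3.1, hcardE] at h
    exact Nat.eq_of_mul_eq_mul_left Nat.card_pos h
  have hRE3 : R ≤ E3 := by
    apply Cfsg.Agent.Helper78.BG121.le_of_coprime_relIndex hE3.1 hRE hE3n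
    rw [hR, hrel]
    exact (Nat.Prime.coprime_iff_not_dvd ht).mpr htF
  have hRbot : R ≤ ⊥ := by
    rw [← hbot]
    exact le_inf hRE3 hRF
  have hR1 : Nat.card R = 1 := by
    rw [le_bot_iff.mp hRbot]
    exact Subgroup.card_bot
  rw [hR] at hR1
  exact ht.one_lt.ne' hR1

end Cfsg.Agent.Helper58.BG139Req
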