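import Mathlib
import Cfsg.Agent.Lib.Helper2.SS0

/-!
# SS piece (G2) `split_gen` (helper2's server for S2411)
If `y` commutes with all `sympT e0 c`, `y ^ r = 1`, `(r : F) ≠ 0` and `sympT e0 1 * y ∈ H`, then both
`sympT e0 r` and `y` lie in `H`.
-/

set_option autoImplicit false

namespace Cfsg.Agent.Helper58.SS

open Matrix Cfsg Cfsg.Agent.Helper13 Cfsg.Agent.Helper84.SpRoot Cfsg.Agent.Helper5.SpAut
open Cfsg.Agent.Helper2.SR Cfsg.Agent.Helper2.SS

section G
variable {F : Type*} [Field F] {n : ℕ}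
  {H : Subgroup (Matrix.symplecticGroup (Fin n) F)} {e0 : Fin n ⊕ Fin n → F}

theorem h58_sympT_pow (p : Fin n ⊕ Fin n → F) (a : F) (k : ℕ) :
    (sympT p a) ^ k = sympT p ((k : F) * a) := by
  induction k with
  | zero => rw [pow_zero, Nat.cast_zero, zero_mul, sympT_zero]
  | succ k ih =>
    rw [pow_succ, ih, sympT_mul]
    congr 1
    push_cast
    ring

theorem split_gen [Finite F] {y : Matrix.symplecticGroup (Fin n) F} {r : ℕ}
    (hcomm : ∀ c : F, sympT e0 c * y = y * sympT e0 c) (hy : y ^ r = 1) (hr : (r : F) ≠ 0)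
    (hb : sympT e0 1 * y ∈ H) : sympT e0 (r : F) ∈ H ∧ y ∈ H := by
  have hc1 : Commute (sympT e0 (1 : F)) y := hcomm 1
  have hpow : (sympT e0 (1 : F) * y) ^ r = sympT e0 (r : F) := by
    rw [hc1.mul_pow, hy, mul_one, h58_sympT_pow, mul_one]
  have h1 : sympT e0 (r : F) ∈ H := by
    rw [← hpow]
    exact H.pow_mem hb r
  refine ⟨h1, ?_⟩
  -- `(r : F)⁻¹` is the cast of a natural number
  haveI : Fintype F := Fintype.ofFinite F
  have hcard : 2 ≤ Fintype.card F := Fintype.one_lt_card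
  have hinv : ((r ^ (Fintype.card F - 2) : ℕ) : F) * (r : F) = 1 := by
    push_cast
    rw [← pow_succ]
    have : Fintype.card F - 2 + 1 = Fintype.card F - 1 := by omega
    rw [this]
    exact FiniteField.pow_card_sub_one_eq_one (r : F) hr
  have h2 : sympT e0 (1 : F) ∈ H := by
    have := H.pow_mem h1 (r ^ (Fintype.card F - 2))
    rwa [h58_sympT_pow, hinv] at this
  have : y = (sympT e0 (1 : F))⁻¹ * (sympT e0 1 * y) := by
    rw [inv_mul_cancel_left]
  rw [this]
  exact H.mul_mem (H.inv_mem h2) hb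

end G

end Cfsg.Agent.Helper58.SS
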