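import Mathlib
import Cfsg.Agent.Lib.Helper31.SGDefs
import Cfsg.Agent.Lib.Helper31.HHCore5

/-!
# Shult–Gross (S3793), piece (BC) for helper31: from the representation form to the group form
by base change to the algebraic closure of `ZMod r`.
-/

set_option autoImplicit false

namespace Cfsg.Agent.Helper58.SG

open Module Subgroup Cfsg.Agent.Helper31.SG

universe u uG uK uV

/-- `x` centralising no nontrivial element of the `x`-invariant finite `Q` acts fixed-point-freely
on every invariant section. -/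
theorem h58_fpfOn_of_fixed {G : Type*} [Group G] [Finite G] (x : G) (Q : Subgroup G)
    (hxQ : ∀ g ∈ Q, x * g * x⁻¹ = g → g = 1) : FpfOn x Q := by
  have hinj : ∀ g ∈ Q, ∀ h ∈ Q, x * g * x⁻¹ * g⁻¹ = x * h * x⁻¹ * h⁻¹ → g = h := by
    intro g hg h hh e
    have h1 : h⁻¹ * g ∈ Q := Q.mul_mem (Q.inv_mem hh) hg
    have h2 : x * (h⁻¹ * g) * x⁻¹ = h⁻¹ * g := by
      have h3 : (x * h * x⁻¹)⁻¹ * (x * g * x⁻¹) = h⁻¹ * g := by
        calc (x * h * x⁻¹)⁻¹ * (x * g * x⁻¹)
            = (x * h * x⁻¹)⁻¹ * (x * g * x⁻¹ * g⁻¹) * g := by group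
          _ = (x * h * x⁻¹)⁻¹ * (x * h * x⁻¹ * h⁻¹) * g := by rw [e]
          _ = h⁻¹ * g := by group
      calc x * (h⁻¹ * g) * x⁻¹ = (x * h * x⁻¹)⁻¹ * (x * g * x⁻¹) := by group
        _ = h⁻¹ * g := h3
    have h4 := hxQ _ h1 h2
    exact (inv_mul_eq_one.mp h4).symm
  intro Q₂ hQ₂ hinv g hg hc
  let f : ↥Q₂ → ↥Q₂ := fun a =>
    ⟨x * (a : G) * x⁻¹ * (a : G)⁻¹, Q₂.mul_mem (hinv a a.2) (Q₂.inv_mem a.2)⟩
  have hf : Function.Injective f := by
    intro a b hab
    apply Subtype.ext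
    exact hinj a (hQ₂ a.2) b (hQ₂ b.2) (congrArg Subtype.val hab)
  obtain ⟨a, ha⟩ := Finite.surjective_of_injective hf ⟨_, hc⟩
  have hga : g = a := hinj g hg a (hQ₂ a.2) (congrArg Subtype.val ha).symm
  rw [hga]
  exact a.2

section

variable (V : Type u) [CommGroup V] (r : ℕ) [Module (ZMod r) (Additive V)]

/-- automorphisms of `V` act `ZMod r`-linearly on `Additive V`. -/
noncomputable def h58_toEnd : MulAut V →* Module.End (ZMod r) (Additive V) where
  toFun g := (MonoidHom.toAdditive ((g : V ≃* V) : V →* V)).toZModLinearMap r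
  map_one' := by
    apply LinearMap.ext
    intro w
    rfl
  map_mul' a b := by
    apply LinearMap.ext
    intro w
    rfl

theorem h58_toEnd_apply (g : MulAut V) (v : V) :
    h58_toEnd V r g (Additive.ofMul v) = Additive.ofMul (g v) := rfl

theorem h58_toEnd_injective : Function.Injective (h58_toEnd V r) := by
  intro a b hab
  apply MulEquiv.ext
  intro v
  have := congrArg (fun f : Module.End (ZMod r) (Additive V) => f (Additive.ofMul v)) hab
  exact this

end

open TensorProduct in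
theorem h58_lin_K {p q : ℕ} (V : Type u) [CommGroup V] [Finite V] (r : ℕ) [Fact r.Prime]
    [Module (ZMod r) (Additive V)] (K : Type) [Field K] [Algebra (ZMod r) K]
    (hS : ∀ N, SGStmt.{u, 0, u} K p q N)
    (Q : Subgroup (MulAut V)) (hQ : IsPGroup q Q) (x : MulAut V) (n : ℕ)
    (hx : x ^ p ^ (n + 1) = 1) (hQx : ∀ g ∈ Q, x * g * x⁻¹ ∈ Q) (hfix : ∀ v : V, x v = v → v = 1)
    (hxQ : ∀ g ∈ Q, x * g * x⁻¹ = g → g = 1) : ∀ g ∈ Q, g * x ^ p ^ n = x ^ p ^ n * g := by
  classical
  set φ := h58_toEnd V r with hφ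
  set Φ : Module.End (ZMod r) (Additive V) →ₐ[ZMod r] Module.End K (K ⊗[ZMod r] Additive V) :=
    Module.End.baseChangeHom (ZMod r) K (Additive V) with hΦ
  have hΦinj : Function.Injective Φ := LinearMap.baseChangeHom_injective (ZMod r) (Additive V) K
  set ρ : Representation K (MulAut V) (K ⊗[ZMod r] Additive V) :=
    (Φ : Module.End (ZMod r) (Additive V) →* Module.End K (K ⊗[ZMod r] Additive V)).comp φ
    with hρ
  have hρinj : Function.Injective ρ := fun a b hab => h58_toEnd_injective V r (hΦinj hab)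
  -- no fixed vectors
  have hker : LinearMap.ker (φ x - 1) = ⊥ := by
    rw [LinearMap.ker_eq_bot']
    intro w hw
    have h1 : φ x w = w := by
      have : φ x w - w = 0 := hw
      exact sub_eq_zero.mp this
    have h2 : x w.toMul = w.toMul := congrArg Additive.toMul h1
    have h3 := hfix _ h2
    exact congrArg Additive.ofMul h3
  have hunit : IsUnit (φ x - 1) := (LinearMap.isUnit_iff_ker_eq_bot _).mpr hker
  have hunit' : IsUnit (ρ x - 1) := by
    have h1 : ρ x - 1 = Φ (φ x - 1) := by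
      rw [map_sub, map_one]; rfl
    rw [h1]
    exact hunit.map Φ
  have hfix' : ∀ v : K ⊗[ZMod r] Additive V, ρ x v = v → v = 0 := by
    intro v hv
    have hbij := (Module.End.isUnit_iff _).mp hunit'
    apply hbij.1
    rw [map_zero, LinearMap.sub_apply, hv]
    exact sub_self v
  have hFpf : FpfOn x Q := h58_fpfOn_of_fixed x Q hxQ
  intro g hg
  have key := hS (finrank K (K ⊗[ZMod r] Additive V) + Nat.card Q)
    (K ⊗[ZMod r] Additive V) (MulAut V) ρ Q x n le_rfl hQ hQx hx hfix' hFpf g hg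
  apply hρinj
  rw [map_mul, map_mul]
  exact key

theorem h58_lin_comm {p : ℕ} (hp : p.Prime)
    (STMT : ∀ (q r : ℕ), q.Prime → r.Prime → p ≠ q → q ≠ r → p ≠ r →
      ∀ (K : Type) [Field K] [IsAlgClosed K] [CharP K r] (N : ℕ), SGStmt.{u, 0, u} K p q N)
    (V : Type u) [CommGroup V] [Finite V] (q r : ℕ) (hq : q.Prime) (hr : r.Prime) (hpq : p ≠ q)
    (hqr : q ≠ r) (hpr : p ≠ r) (hexp : ∀ v : V, v ^ r = 1)
    (Q : Subgroup (MulAut V)) (hQ : IsPGroup q Q) (x : MulAut V) (n : ℕ)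
    (hx : x ^ p ^ (n + 1) = 1) (hQx : ∀ g ∈ Q, x * g * x⁻¹ ∈ Q) (hfix : ∀ v : V, x v = v → v = 1)
    (hxQ : ∀ g ∈ Q, x * g * x⁻¹ = g → g = 1) : ∀ g ∈ Q, g * x ^ p ^ n = x ^ p ^ n * g := by
  haveI : Fact r.Prime := ⟨hr⟩
  letI : Module (ZMod r) (Additive V) := AddCommGroup.zmodModule (n := r) (fun w => by
    show Additive.ofMul (w.toMul ^ r) = 0
    rw [hexp]; rfl)
  haveI : CharP (AlgebraicClosure (ZMod r)) r :=
    charP_of_injective_algebraMap (algebraMap (ZMod r) (AlgebraicClosure (ZMod r))).injective r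
  exact h58_lin_K V r (AlgebraicClosure (ZMod r))
    (fun N => STMT q r hq hr hpq hqr hpr (AlgebraicClosure (ZMod r)) N) Q hQ x n hx hQx hfix hxQ

/-- (BC) from the representation form to the group form. -/
theorem lin_of_stmt {p : ℕ} (hp : p.Prime)
    (STMT : ∀ (q r : ℕ), q.Prime → r.Prime → p ≠ q → q ≠ r → p ≠ r →
      ∀ (K : Type) [Field K] [IsAlgClosed K] [CharP K r] (N : ℕ), SGStmt.{u, 0, u} K p q N) :
    LinStmt.{u} p := by
  intro V instG instF hcomm q r hq hr hpq hqr hpr hexp Q hQ x n hx hQx hfix hxQ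
  let _ : CommGroup V := { instG with mul_comm := hcomm }
  exact h58_lin_comm hp STMT V q r hq hr hpq hqr hpr hexp Q hQ x n hx hQx hfix hxQ

end Cfsg.Agent.Helper58.SG
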