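import Mathlib
import Cfsg.Agent.Lib.Helper31.G2Defs
import Cfsg.Agent.Lib.Helper31.SGAll
import Cfsg.Agent.Lib.Helper58.SGBC

/-!
# Gross `p = 2` (S3795), piece (TBC) for helper31: group form of the three-level statement by base
change to the algebraic closure of `ZMod r`.
-/

set_option autoImplicit false

namespace Cfsg.Agent.Helper58.G2

open Module Subgroup Cfsg.Agent.Helper31.SG Cfsg.Agent.Helper31.G2 Cfsg.Agent.Helper58.SG

universe u uG uK uV

section

open TensorProduct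

variable (V : Type u) [CommGroup V] (r : ℕ) [Fact r.Prime] [Module (ZMod r) (Additive V)]
  (K : Type) [Field K] [Algebra (ZMod r) K]

/-- the base-changed representation of `MulAut V` on `K ⊗ Additive V` -/
noncomputable def h58_rho : Representation K (MulAut V) (K ⊗[ZMod r] Additive V) :=
  ((Module.End.baseChangeHom (ZMod r) K (Additive V) :
      Module.End (ZMod r) (Additive V) →ₐ[ZMod r] Module.End K (K ⊗[ZMod r] Additive V)) :
    Module.End (ZMod r) (Additive V) →* Module.End K (K ⊗[ZMod r] Additive V)).comp (h58_toEnd V r)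

theorem h58_rho_injective : Function.Injective (h58_rho V r K) := by
  have hΦinj : Function.Injective (Module.End.baseChangeHom (ZMod r) K (Additive V)) :=
    LinearMap.baseChangeHom_injective (ZMod r) (Additive V) K
  intro a b hab
  exact h58_toEnd_injective V r (hΦinj hab)

theorem h58_rho_fixed [Finite V] (x : MulAut V) (hfix : ∀ v : V, x v = v → v = 1)
    (w : K ⊗[ZMod r] Additive V) (hw : h58_rho V r K x w = w) : w = 0 := by
  set φ := h58_toEnd V r with hφ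
  set Φ : Module.End (ZMod r) (Additive V) →ₐ[ZMod r] Module.End K (K ⊗[ZMod r] Additive V) :=
    Module.End.baseChangeHom (ZMod r) K (Additive V) with hΦ
  have hker : LinearMap.ker (φ x - 1) = ⊥ := by
    rw [LinearMap.ker_eq_bot']
    intro w hw
    have h1 : φ x w = w := by
      have : φ x w - w = 0 := hw
      exact sub_eq_zero.mp this
    have h2 : x w.toMul = w.toMul := congrArg Additive.toMul h1
    have h3 := hfix _ h2
    exact congrArg Additive.ofMul h3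
  have hunit : IsUnit (φ x - 1) := (LinearMap.isUnit_iff_ker_eq_bot _).mpr hker
  have hunit' : IsUnit (h58_rho V r K x - 1) := by
    have h1 : h58_rho V r K x - 1 = Φ (φ x - 1) := by
      rw [map_sub, map_one]; rfl
    rw [h1]
    exact hunit.map Φ
  have hbij := (Module.End.isUnit_iff _).mp hunit'
  apply hbij.1
  rw [map_zero, LinearMap.sub_apply, hw]
  exact sub_self w

end

open TensorProduct in
theorem h58_tower_K {q s : ℕ} (V : Type u) [CommGroup V] [Finite V] (r : ℕ) [Fact r.Prime]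
    [Module (ZMod r) (Additive V)] (K : Type) [Field K] [Algebra (ZMod r) K]
    (hS : ∀ N, TTStmt.{u, 0, u} K q s N)
    (S Q : Subgroup (MulAut V)) (hSs : IsPGroup s S) (hQ : IsPGroup q Q)
    (hQS : ∀ g ∈ Q, ∀ a ∈ S, g * a * g⁻¹ ∈ S)
    (x : MulAut V) (n : ℕ) (hx : x ^ 2 ^ (n + 1) = 1)
    (hSx : ∀ a ∈ S, x * a * x⁻¹ ∈ S) (hQx : ∀ g ∈ Q, x * g * x⁻¹ ∈ Q)
    (hfix : ∀ v : V, x v = v → v = 1) (hxS : ∀ a ∈ S, x * a * x⁻¹ = a → a = 1)
    (hxQ : ∀ g ∈ Q, x * g * x⁻¹ = g → g = 1) :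
    ∀ g ∈ Q, ∀ a ∈ S, cm (x ^ 2 ^ n) g * a = a * cm (x ^ 2 ^ n) g := by
  intro g hg a ha
  have key := hS (Nat.card S + Nat.card Q) (K ⊗[ZMod r] Additive V) (MulAut V) (h58_rho V r K)
    S Q x n le_rfl hSs hQ hQS hSx hQx hx (h58_rho_fixed V r K x hfix)
    (h58_fpfOn_of_fixed x S hxS) (h58_fpfOn_of_fixed x Q hxQ) g hg a ha
  apply h58_rho_injective V r K
  rw [map_mul, map_mul]
  exact key

theorem h58_tower_comm
    (STMT : ∀ (q s r : ℕ), q.Prime → s.Prime → r.Prime → q ≠ 2 → s ≠ 2 → r ≠ 2 → q ≠ s → s ≠ r →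
      ∀ (K : Type) [Field K] [IsAlgClosed K] [CharP K r] (N : ℕ), TTStmt.{u, 0, u} K q s N)
    (V : Type u) [CommGroup V] [Finite V] (q s r : ℕ) (hq : q.Prime) (hs : s.Prime) (hr : r.Prime)
    (hq2 : q ≠ 2) (hs2 : s ≠ 2) (hr2 : r ≠ 2) (hqs : q ≠ s) (hsr : s ≠ r)
    (hexp : ∀ v : V, v ^ r = 1)
    (S Q : Subgroup (MulAut V)) (hSs : IsPGroup s S) (hQ : IsPGroup q Q)
    (hQS : ∀ g ∈ Q, ∀ a ∈ S, g * a * g⁻¹ ∈ S)
    (x : MulAut V) (n : ℕ) (hx : x ^ 2 ^ (n + 1) = 1)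
    (hSx : ∀ a ∈ S, x * a * x⁻¹ ∈ S) (hQx : ∀ g ∈ Q, x * g * x⁻¹ ∈ Q)
    (hfix : ∀ v : V, x v = v → v = 1) (hxS : ∀ a ∈ S, x * a * x⁻¹ = a → a = 1)
    (hxQ : ∀ g ∈ Q, x * g * x⁻¹ = g → g = 1) :
    ∀ g ∈ Q, ∀ a ∈ S, cm (x ^ 2 ^ n) g * a = a * cm (x ^ 2 ^ n) g := by
  have : Fact r.Prime := ⟨hr⟩
  let _ : Module (ZMod r) (Additive V) := AddCommGroup.zmodModule (n := r) (fun w => by
    show Additive.ofMul (w.toMul ^ r) = 0
    rw [hexp]; rfl)
  have : CharP (AlgebraicClosure (ZMod r)) r :=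
    charP_of_injective_algebraMap (algebraMap (ZMod r) (AlgebraicClosure (ZMod r))).injective r
  exact h58_tower_K V r (AlgebraicClosure (ZMod r))
    (fun N => STMT q s r hq hs hr hq2 hs2 hr2 hqs hsr (AlgebraicClosure (ZMod r)) N)
    S Q hSs hQ hQS x n hx hSx hQx hfix hxS hxQ

/-- (TBC) group form of the three-level statement by base change. -/
theorem g2_tower
    (STMT : ∀ (q s r : ℕ), q.Prime → s.Prime → r.Prime → q ≠ 2 → s ≠ 2 → r ≠ 2 → q ≠ s → s ≠ r →
      ∀ (K : Type) [Field K] [IsAlgClosed K] [CharP K r] (N : ℕ), TTStmt.{u, 0, u} K q s N) :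
    TowerStmt.{u} := by
  intro V instG instF hcomm q s r hq hs hr hq2 hs2 hr2 hqs hsr hexp S Q hSs hQ hQS x n hx hSx hQx
    hfix hxS hxQ
  let _ : CommGroup V := { instG with mul_comm := hcomm }
  exact h58_tower_comm STMT V q s r hq hs hr hq2 hs2 hr2 hqs hsr hexp S Q hSs hQ hQS x n hx hSx hQx
    hfix hxS hxQ

end Cfsg.Agent.Helper58.G2
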