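import Mathlib
import Cfsg.Agent.Lib.Helper31.G2Defs
import Cfsg.Agent.Lib.Helper31.SGAll
import Cfsg.Agent.Lib.Helper58.G2TBC

/-!
# Gross `p = 2` (S3795), piece (BC2) for helper31: group form of (TOP) by base change to the
algebraic closure of `ZMod s`.
-/

set_option autoImplicit false

namespace Cfsg.Agent.Helper58.G2

open Module Subgroup Cfsg.Agent.Helper31.SG Cfsg.Agent.Helper31.G2 Cfsg.Agent.Helper58.SG

universe u uG uK uV

section core

open TensorProduct

variable {F : Type*} [Field F] (K : Type*) [Field K] [Algebra F K]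
  {M : Type*} [AddCommGroup M] [Module F M] [Module.Finite F M]

/-- the range of a base-changed endomorphism has dimension at most that of the range. -/
theorem h58_finrank_range_baseChange_le (f : M →ₗ[F] M) :
    finrank K (LinearMap.range (f.baseChange K)) ≤ finrank F (LinearMap.range f) := by
  have h1 : f = (LinearMap.range f).subtype ∘ₗ f.rangeRestrict := by
    ext m; rfl
  have h2 : f.baseChange K =
      ((LinearMap.range f).subtype.baseChange K) ∘ₗ (f.rangeRestrict.baseChange K) := by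
    conv_lhs => rw [h1]
    exact LinearMap.baseChange_comp ..
  have h3 : LinearMap.range (f.baseChange K) ≤
      LinearMap.range ((LinearMap.range f).subtype.baseChange K) := by
    rw [h2]; exact LinearMap.range_comp_le_range _ _
  calc finrank K (LinearMap.range (f.baseChange K))
      ≤ finrank K (LinearMap.range ((LinearMap.range f).subtype.baseChange K)) :=
        Submodule.finrank_mono h3
    _ ≤ finrank K (K ⊗[F] (LinearMap.range f)) := LinearMap.finrank_range_le _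
    _ = finrank F (LinearMap.range f) := Module.finrank_baseChange

theorem h58_top_core [IsAlgClosed K] (h2 : (2 : K) ≠ 0) (T : Module.End F M) (n : ℕ) (hn : 1 ≤ n)
    (hT : T ^ 2 ^ (n + 1) = 1)
    (hE : ∀ ζ : K, ζ ^ 2 ^ (n + 1) = 1 → ζ ^ 2 ^ (n - 1) ≠ 1 →
      ∃ v : K ⊗[F] M, v ≠ 0 ∧ (T.baseChange K) v = ζ • v) :
    2 ^ n ≤ finrank F (LinearMap.range (T ^ 2 ^ n - 1)) ∧
    ∃ m : M, (T ^ 2 ^ n) m = m ∧ (T ^ 2 ^ (n - 1)) m ≠ m := by
  classical
  have : NeZero ((2 : ℕ) : K) := ⟨by simpa using h2⟩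
  obtain ⟨ω, hω⟩ := HasEnoughRootsOfUnity.exists_primitiveRoot K (2 ^ (n + 1))
  have hω1 : ω ^ 2 ^ n = -1 := by
    have hprim : IsPrimitiveRoot (ω ^ 2 ^ n) 2 := hω.pow (by positivity) (by rw [pow_succ])
    exact hprim.eq_neg_one_of_two_right
  have hne : (-1 : K) ≠ 1 := by
    intro h
    apply h2
    have h3 : (2 : K) = 1 - (-1) := by ring
    rw [h3, h]; ring
  have hn1 : n - 1 + 1 = n := by omega
  have h2n : 2 ^ n = 2 ^ (n - 1) * 2 := by rw [← pow_succ, hn1]
  set TK := T.baseChange K with hTK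
  have hpow : ∀ (ζ : K) (v : K ⊗[F] M), TK v = ζ • v → ∀ k : ℕ, (TK ^ k) v = ζ ^ k • v := by
    intro ζ v hv k
    induction k with
    | zero => simp
    | succ k ih =>
      rw [pow_succ, Module.End.mul_apply, hv, map_smul, ih, smul_smul, pow_succ, mul_comm]
  refine ⟨?_, ?_⟩
  · -- (A1)
    let μ : Fin (2 ^ n) → K := fun j => ω ^ (2 * (j : ℕ) + 1)
    have hμinj : Function.Injective μ := by
      intro a b hab
      have ha := a.2
      have hb := b.2
      have h22 : 2 ^ (n + 1) = 2 * 2 ^ n := pow_succ' 2 n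
      have := hω.pow_inj (by omega) (by omega) hab
      apply Fin.ext
      omega
    have hμ1 : ∀ j, μ j ^ 2 ^ n = -1 := by
      intro j
      show (ω ^ (2 * (j : ℕ) + 1)) ^ 2 ^ n = -1
      rw [← pow_mul, mul_comm, pow_mul, hω1]
      exact Odd.neg_one_pow ⟨j, rfl⟩
    have hex : ∀ j, ∃ v : K ⊗[F] M, v ≠ 0 ∧ TK v = μ j • v := by
      intro j
      apply hE
      · rw [pow_succ, pow_mul, hμ1]; norm_num
      · intro h
        have h5 : μ j ^ 2 ^ n = 1 := by
          rw [h2n, pow_mul, h, one_pow]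
        rw [hμ1] at h5; exact hne h5
    choose v hv0 hv using hex
    have hind : LinearIndependent K v :=
      Module.End.eigenvectors_linearIndependent' TK μ hμinj v
        (fun j => ⟨Module.End.mem_eigenspace_iff.mpr (hv j), hv0 j⟩)
    have hmem : ∀ j, v j ∈ LinearMap.range ((T ^ 2 ^ n - 1).baseChange K) := by
      intro j
      have h1 : ((T ^ 2 ^ n - 1).baseChange K) (v j) = (-2 : K) • v j := by
        rw [LinearMap.baseChange_sub, LinearMap.baseChange_pow, LinearMap.baseChange_one,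
          LinearMap.sub_apply, hpow _ _ (hv j), hμ1, Module.End.one_apply]
        module
      refine ⟨(-2 : K)⁻¹ • v j, ?_⟩
      rw [map_smul, h1, smul_smul, inv_mul_cancel₀ (by simpa using h2), one_smul]
    have hle : 2 ^ n ≤ finrank K (LinearMap.range ((T ^ 2 ^ n - 1).baseChange K)) := by
      have hspan : Submodule.span K (Set.range v) ≤
          LinearMap.range ((T ^ 2 ^ n - 1).baseChange K) := by
        rw [Submodule.span_le]; rintro _ ⟨j, rfl⟩; exact hmem j
      have h6 := Submodule.finrank_mono hspan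
      rw [finrank_span_eq_card hind, Fintype.card_fin] at h6
      exact h6
    exact hle.trans (h58_finrank_range_baseChange_le K _)
  · -- (A2)
    set ζ := ω ^ 2 with hζ
    have hζ1 : ζ ^ 2 ^ (n - 1) = -1 := by
      rw [hζ, ← pow_mul, ← pow_succ', hn1]; exact hω1
    obtain ⟨v, hv0, hv⟩ := hE ζ (by
        have h7 : 2 ^ (n + 1) = 2 ^ (n - 1) * 4 := by
          have h8 : n + 1 = (n - 1) + 2 := by omega
          rw [h8, pow_add]; norm_num
        rw [h7, pow_mul, hζ1]; norm_num) (by rw [hζ1]; exact hne)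
    have hτv : (TK ^ 2 ^ n) v = v := by
      rw [hpow _ _ hv, h2n, pow_mul, hζ1]; norm_num
    have hυv : (TK ^ 2 ^ (n - 1)) v = -v := by
      rw [hpow _ _ hv, hζ1]
      exact neg_one_smul K v
    by_contra hcon
    push Not at hcon
    have hzero : (T ^ 2 ^ (n - 1) - 1) * (T ^ 2 ^ n + 1) = 0 := by
      apply LinearMap.ext
      intro m
      have h1 : (T ^ 2 ^ n) ((T ^ 2 ^ n + 1 : Module.End F M) m) =
          (T ^ 2 ^ n + 1 : Module.End F M) m := by
        have h9 : T ^ 2 ^ n * (T ^ 2 ^ n + 1) = T ^ 2 ^ n + 1 := by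
          rw [mul_add, mul_one, ← pow_add, ← two_mul, ← pow_succ', hT, add_comm]
        calc (T ^ 2 ^ n) ((T ^ 2 ^ n + 1 : Module.End F M) m)
            = (T ^ 2 ^ n * (T ^ 2 ^ n + 1) : Module.End F M) m := rfl
          _ = _ := by rw [h9]
      have h3 := hcon _ h1
      show (T ^ 2 ^ (n - 1) - 1 : Module.End F M) ((T ^ 2 ^ n + 1 : Module.End F M) m) = 0
      rw [LinearMap.sub_apply, h3]; simp
    have hK := congrArg (fun g : Module.End F M => (g.baseChange K) v) hzero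
    simp only [LinearMap.baseChange_mul, LinearMap.baseChange_sub, LinearMap.baseChange_add,
      LinearMap.baseChange_pow, LinearMap.baseChange_one, LinearMap.baseChange_zero] at hK
    rw [Module.End.mul_apply, LinearMap.add_apply, ← hTK, hτv, Module.End.one_apply, map_add,
      LinearMap.sub_apply, hυv, Module.End.one_apply] at hK
    apply hv0
    have h4 : (4 : K) • v = 0 := by
      have h10 : (4 : K) • v = -((-v - v) + (-v - v)) := by module
      rw [h10, hK]; simp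
    have h4ne : (4 : K) ≠ 0 := by
      have h11 : (4 : K) = 2 * 2 := by norm_num
      rw [h11]; exact mul_ne_zero h2 h2
    exact (smul_eq_zero.mp h4).resolve_left h4ne

end core

open TensorProduct in
theorem h58_top_K {q : ℕ} (W : Type u) [CommGroup W] [Finite W] (s : ℕ) [Fact s.Prime]
    (hs2 : s ≠ 2) [Module (ZMod s) (Additive W)] (K : Type) [Field K] [Algebra (ZMod s) K]
    [IsAlgClosed K] [CharP K s]
    (hS : ∀ N, TopStmt.{u, 0, u} K q N)
    (Γ : Type u) [Group Γ] [Finite Γ] (φ : Γ →* MulAut W) (Q : Subgroup Γ) (hQ : IsPGroup q Q)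
    (x : Γ) (n : ℕ) (hn : 1 ≤ n) (hx : x ^ 2 ^ (n + 1) = 1) (hQx : ∀ g ∈ Q, x * g * x⁻¹ ∈ Q)
    (hfix : ∀ w : W, φ x w = w → w = 1) (hfpf : FpfOn x Q)
    (hnc : ∃ g ∈ Q, φ g * φ (x ^ 2 ^ n) ≠ φ (x ^ 2 ^ n) * φ g) :
    s ^ 2 ^ n ≤ Nat.card {w : W // φ (x ^ 2 ^ n) w = w⁻¹} ∧
    ∃ w : W, φ (x ^ 2 ^ n) w = w ∧ φ (x ^ 2 ^ (n - 1)) w ≠ w := by
  classical
  have : Finite (Additive W) := ‹Finite W›
  have : Module.Finite (ZMod s) (Additive W) := Module.Finite.of_finite
  set ρ : Representation K Γ (K ⊗[ZMod s] Additive W) := (h58_rho W s K).comp φ with hρ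
  have hfix' : ∀ v, ρ x v = v → v = 0 := fun v hv => h58_rho_fixed W s K (φ x) hfix v hv
  have hnc' : ∃ g ∈ Q, ρ g * ρ (x ^ 2 ^ n) ≠ ρ (x ^ 2 ^ n) * ρ g := by
    obtain ⟨g, hg, hne⟩ := hnc
    refine ⟨g, hg, fun h => hne ?_⟩
    apply h58_rho_injective W s K
    rw [map_mul, map_mul]; exact h
  have hE := hS (finrank K (K ⊗[ZMod s] Additive W) + Nat.card Q) (K ⊗[ZMod s] Additive W) Γ ρ Q x
    n le_rfl hn hQ hQx hx hfix' hfpf hnc'
  set T : Module.End (ZMod s) (Additive W) := h58_toEnd W s (φ x) with hT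
  have hTpow : ∀ k : ℕ, T ^ k = h58_toEnd W s (φ (x ^ k)) := by
    intro k; rw [map_pow, map_pow]
  have hT1 : T ^ 2 ^ (n + 1) = 1 := by rw [hTpow, hx, map_one, map_one]
  have h2 : (2 : K) ≠ 0 := by
    intro h
    have h3 : ((2 : ℕ) : K) = 0 := by exact_mod_cast h
    rw [CharP.cast_eq_zero_iff K s 2] at h3
    rcases (Nat.dvd_prime Nat.prime_two).mp h3 with h4 | h4
    · exact (Fact.out : s.Prime).one_lt.ne' h4
    · exact hs2 h4
  have hE' : ∀ ζ : K, ζ ^ 2 ^ (n + 1) = 1 → ζ ^ 2 ^ (n - 1) ≠ 1 →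
      ∃ v : K ⊗[ZMod s] Additive W, v ≠ 0 ∧ (T.baseChange K) v = ζ • v := hE
  obtain ⟨hA1, m, hm1, hm2⟩ := h58_top_core K h2 T n hn hT1 hE'
  refine ⟨?_, ?_⟩
  · have hcard : Nat.card (LinearMap.range (T ^ 2 ^ n - 1)) =
        s ^ finrank (ZMod s) (LinearMap.range (T ^ 2 ^ n - 1)) := by
      rw [Module.natCard_eq_pow_finrank (K := ZMod s), Nat.card_zmod]
    have hmemr : ∀ r : LinearMap.range (T ^ 2 ^ n - 1),
        φ (x ^ 2 ^ n) (r : Additive W).toMul = ((r : Additive W).toMul)⁻¹ := by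
      intro r
      obtain ⟨u, hu⟩ := r.2
      have h5 : (T ^ 2 ^ n) (r : Additive W) = -(r : Additive W) := by
        rw [← hu]
        have hh : T ^ 2 ^ n * (T ^ 2 ^ n - 1) = -(T ^ 2 ^ n - 1) := by
          rw [mul_sub, mul_one, ← pow_add, ← two_mul, ← pow_succ', hT1]; abel
        calc (T ^ 2 ^ n) ((T ^ 2 ^ n - 1 : Module.End (ZMod s) (Additive W)) u)
            = (T ^ 2 ^ n * (T ^ 2 ^ n - 1) : Module.End (ZMod s) (Additive W)) u := rfl
          _ = -((T ^ 2 ^ n - 1 : Module.End (ZMod s) (Additive W)) u) := by rw [hh]; rfl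
      have h5' : h58_toEnd W s (φ (x ^ 2 ^ n)) (r : Additive W) = -(r : Additive W) := by
        rw [← hTpow]; exact h5
      exact congrArg Additive.toMul h5'
    have hinj : Nat.card (LinearMap.range (T ^ 2 ^ n - 1)) ≤
        Nat.card {w : W // φ (x ^ 2 ^ n) w = w⁻¹} := by
      apply Nat.card_le_card_of_injective
        (fun r : LinearMap.range (T ^ 2 ^ n - 1) =>
          (⟨(r : Additive W).toMul, hmemr r⟩ : {w : W // φ (x ^ 2 ^ n) w = w⁻¹}))
      intro a b hab
      apply Subtype.ext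
      have h6 := congrArg Subtype.val hab
      exact Additive.toMul.injective h6
    calc s ^ 2 ^ n ≤ s ^ finrank (ZMod s) (LinearMap.range (T ^ 2 ^ n - 1)) :=
          Nat.pow_le_pow_right (Fact.out : s.Prime).pos hA1
      _ = _ := hcard.symm
      _ ≤ _ := hinj
  · refine ⟨m.toMul, ?_, ?_⟩
    · rw [hTpow] at hm1; exact congrArg Additive.toMul hm1
    · intro h; apply hm2; rw [hTpow]; exact congrArg Additive.ofMul h

theorem h58_top_comm
    (STMT : ∀ (q s : ℕ), q.Prime → s.Prime → q ≠ 2 → s ≠ 2 → q ≠ s →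
      ∀ (K : Type) [Field K] [IsAlgClosed K] [CharP K s] (N : ℕ), TopStmt.{u, 0, u} K q N)
    (W : Type u) [CommGroup W] [Finite W] (q s : ℕ) (hq : q.Prime) (hs : s.Prime)
    (hq2 : q ≠ 2) (hs2 : s ≠ 2) (hqs : q ≠ s) (hexp : ∀ w : W, w ^ s = 1)
    (Γ : Type u) [Group Γ] [Finite Γ] (φ : Γ →* MulAut W) (Q : Subgroup Γ) (hQ : IsPGroup q Q)
    (x : Γ) (n : ℕ) (hn : 1 ≤ n) (hx : x ^ 2 ^ (n + 1) = 1) (hQx : ∀ g ∈ Q, x * g * x⁻¹ ∈ Q)
    (hfix : ∀ w : W, φ x w = w → w = 1) (hfpf : FpfOn x Q)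
    (hnc : ∃ g ∈ Q, φ g * φ (x ^ 2 ^ n) ≠ φ (x ^ 2 ^ n) * φ g) :
    s ^ 2 ^ n ≤ Nat.card {w : W // φ (x ^ 2 ^ n) w = w⁻¹} ∧
    ∃ w : W, φ (x ^ 2 ^ n) w = w ∧ φ (x ^ 2 ^ (n - 1)) w ≠ w := by
  have : Fact s.Prime := ⟨hs⟩
  let _ : Module (ZMod s) (Additive W) := AddCommGroup.zmodModule (n := s) (fun w => by
    show Additive.ofMul (w.toMul ^ s) = 0
    rw [hexp]; rfl)
  have : CharP (AlgebraicClosure (ZMod s)) s :=
    charP_of_injective_algebraMap (algebraMap (ZMod s) (AlgebraicClosure (ZMod s))).injective s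
  exact h58_top_K W s hs2 (AlgebraicClosure (ZMod s))
    (fun N => STMT q s hq hs hq2 hs2 hqs (AlgebraicClosure (ZMod s)) N)
    Γ φ Q hQ x n hn hx hQx hfix hfpf hnc

/-- (BC2) group form of (TOP) by base change. -/
theorem g2_top_grp
    (STMT : ∀ (q s : ℕ), q.Prime → s.Prime → q ≠ 2 → s ≠ 2 → q ≠ s →
      ∀ (K : Type) [Field K] [IsAlgClosed K] [CharP K s] (N : ℕ), TopStmt.{u, 0, u} K q N) :
    TopGrp.{u} := by
  intro W instG instF hcomm q s hq hs hq2 hs2 hqs hexp Γ instΓ instFΓ φ Q hQ x n hn hx hQx hfix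
    hfpf hnc
  let _ : CommGroup W := { instG with mul_comm := hcomm }
  exact h58_top_comm STMT W q s hq hs hq2 hs2 hqs hexp Γ φ Q hQ x n hn hx hQx hfix hfpf hnc

end Cfsg.Agent.Helper58.G2
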