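import Mathlib
import Cfsg.Agent.Lib.Helper32.N9Defs

/-!
# helper32 lemma server "N9" (S4409), piece E1 (+ tools shared with E2)
-/

set_option autoImplicit false

namespace Cfsg.Agent.Helper58.N9

open Cfsg Cfsg.Agent.Helper32.N9

universe u

/-- In a 2-group, an element outside `H` has a `2^m`-th power outside `H` with square in `H`. -/
theorem n9_pow_reduce {X : Type u} [Group X] (hX : IsPGroup 2 X) (H : Subgroup X) (x : X)
    (hx : x ∉ H) : ∃ m : ℕ, x ^ 2 ^ m ∉ H ∧ (x ^ 2 ^ m) * (x ^ 2 ^ m) ∈ H := by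
  classical
  obtain ⟨k, hk⟩ := hX x
  have hex : ∃ m : ℕ, x ^ 2 ^ m ∈ H := ⟨k, by rw [hk]; exact H.one_mem⟩
  have h0 : Nat.find hex ≠ 0 := by
    intro h
    have := Nat.find_spec hex
    rw [h] at this
    simp at this
    exact hx this
  obtain ⟨m, hm⟩ := Nat.exists_eq_succ_of_ne_zero h0
  refine ⟨m, ?_, ?_⟩
  · exact Nat.find_min hex (by omega)
  · have := Nat.find_spec hex
    rw [hm, Nat.succ_eq_add_one, pow_succ, pow_mul, pow_two] at this
    exact this

/-- the subgroup `H ∪ dH` -/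
def n9Ext {X : Type u} [Group X] (H : Subgroup X) (d : X) (hdd : d * d ∈ H)
    (hcomm : ∀ h ∈ H, d * h = h * d) : Subgroup X where
  carrier := {g | g ∈ H ∨ d⁻¹ * g ∈ H}
  one_mem' := Or.inl H.one_mem
  mul_mem' := by
    rintro g g' (hg | hg) (hg' | hg')
    · exact Or.inl (H.mul_mem hg hg')
    · right
      have h1 : d⁻¹ * (g * g') = g * (d⁻¹ * g') := by
        have h2 : d⁻¹ * g = g * d⁻¹ := by
          have := hcomm g hg
          calc d⁻¹ * g = d⁻¹ * (g * d) * d⁻¹ := by group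
            _ = d⁻¹ * (d * g) * d⁻¹ := by rw [this]
            _ = g * d⁻¹ := by group
        calc d⁻¹ * (g * g') = (d⁻¹ * g) * g' := by group
          _ = (g * d⁻¹) * g' := by rw [h2]
          _ = g * (d⁻¹ * g') := by group
      rw [h1]
      exact H.mul_mem hg hg'
    · right
      have h1 : d⁻¹ * (g * g') = (d⁻¹ * g) * g' := by group
      rw [h1]
      exact H.mul_mem hg hg'
    · left
      have h2 := hcomm _ hg
      have h1 : g * g' = (d * d) * ((d⁻¹ * g) * (d⁻¹ * g')) := by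
        calc g * g' = d * ((d⁻¹ * g) * d) * (d⁻¹ * g') := by group
          _ = d * (d * (d⁻¹ * g)) * (d⁻¹ * g') := by rw [h2]
          _ = (d * d) * ((d⁻¹ * g) * (d⁻¹ * g')) := by group
      rw [h1]
      exact H.mul_mem hdd (H.mul_mem hg hg')
  inv_mem' := by
    rintro g (hg | hg)
    · exact Or.inl (H.inv_mem hg)
    · right
      obtain ⟨u, rfl⟩ : ∃ u, g = d * u := ⟨d⁻¹ * g, by group⟩
      have hu : u ∈ H := by simpa using hg
      have h2 := hcomm u hu
      have h3 : u⁻¹ * d⁻¹ = d⁻¹ * u⁻¹ := by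
        rw [← mul_inv_rev, ← mul_inv_rev, h2]
      have h1 : d⁻¹ * (d * u)⁻¹ = (d * d)⁻¹ * u⁻¹ := by
        rw [mul_inv_rev, h3]; group
      rw [h1]
      exact H.mul_mem (H.inv_mem hdd) (H.inv_mem hu)

theorem n9Ext_eq_sup {X : Type u} [Group X] (H : Subgroup X) (d : X) (hdd : d * d ∈ H)
    (hcomm : ∀ h ∈ H, d * h = h * d) : n9Ext H d hdd hcomm = H ⊔ Subgroup.zpowers d := by
  apply le_antisymm
  · rintro g (hg | hg)
    · exact Subgroup.mem_sup_left hg
    · have h1 : g = d * (d⁻¹ * g) := by group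
      rw [h1]
      exact Subgroup.mul_mem _ (Subgroup.mem_sup_right (Subgroup.mem_zpowers d))
        (Subgroup.mem_sup_left hg)
  · apply sup_le
    · intro g hg
      exact Or.inl hg
    · rw [Subgroup.zpowers_le]
      right
      rw [inv_mul_cancel]
      exact H.one_mem

theorem n9Ext_card {X : Type u} [Group X] [Finite X] (H : Subgroup X) (d : X) (hd : d ∉ H)
    (hdd : d * d ∈ H) (hcomm : ∀ h ∈ H, d * h = h * d) :
    Nat.card (n9Ext H d hdd hcomm) = Nat.card H * 2 := by
  have hle : H ≤ n9Ext H d hdd hcomm := fun g hg => Or.inl hg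
  have hdinv : d⁻¹ ∈ n9Ext H d hdd hcomm := by
    right
    have : d⁻¹ * d⁻¹ = (d * d)⁻¹ := by group
    rw [this]
    exact H.inv_mem hdd
  have hidx : (H.subgroupOf (n9Ext H d hdd hcomm)).index = 2 := by
    rw [Subgroup.index_eq_two_iff]
    refine ⟨⟨d⁻¹, hdinv⟩, ?_⟩
    rintro ⟨g, hg⟩
    rw [Subgroup.mem_subgroupOf, Subgroup.mem_subgroupOf]
    show Xor (g * d⁻¹ ∈ H) (g ∈ H)
    by_cases hgH : g ∈ H
    · right
      refine ⟨hgH, ?_⟩
      intro h
      apply hd
      have h1 : d = (g * d⁻¹)⁻¹ * g := by group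
      rw [h1]
      exact H.mul_mem (H.inv_mem h) hgH
    · left
      refine ⟨?_, hgH⟩
      rcases hg with hg | hg
      · exact absurd hg hgH
      · have h2 := hcomm _ hg
        have h1 : g * d⁻¹ = d⁻¹ * g := by
          calc g * d⁻¹ = d * (d⁻¹ * g) * d⁻¹ := by group
            _ = (d⁻¹ * g) * d * d⁻¹ := by rw [h2]
            _ = d⁻¹ * g := by group
        rw [h1]
        exact hg
  have h1 := Subgroup.card_mul_index (H.subgroupOf (n9Ext H d hdd hcomm))
  rw [hidx] at h1
  rw [← h1]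
  congr 1
  exact Nat.card_congr (Subgroup.subgroupOfEquivOfLe hle).toEquiv

theorem n9Ext_comm {X : Type u} [Group X] (H : Subgroup X) (d : X)
    (hdd : d * d ∈ H) (hcomm : ∀ h ∈ H, d * h = h * d)
    (hH : ∀ a ∈ H, ∀ b ∈ H, a * b = b * a) :
    ∀ a ∈ n9Ext H d hdd hcomm, ∀ b ∈ n9Ext H d hdd hcomm, a * b = b * a := by
  -- everything lies in the commutative set `H ∪ dH`
  have key : ∀ a ∈ n9Ext H d hdd hcomm, ∃ h ∈ H, a = h ∨ a = d * h := by
    rintro a (ha | ha)
    · exact ⟨a, ha, Or.inl rfl⟩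
    · exact ⟨d⁻¹ * a, ha, Or.inr (by group)⟩
  intro a ha b hb
  obtain ⟨h, hh, ha' | ha'⟩ := key a ha <;> obtain ⟨h', hh', hb' | hb'⟩ := key b hb <;>
    rw [ha', hb']
  · exact hH h hh h' hh'
  · have e1 := hcomm h hh
    have e2 := hH h hh h' hh'
    calc h * (d * h') = (h * d) * h' := by group
      _ = (d * h) * h' := by rw [e1]
      _ = d * (h * h') := by group
      _ = d * (h' * h) := by rw [e2]
      _ = d * h' * h := by group
  · have e1 := hcomm h' hh'
    have e2 := hH h hh h' hh'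
    calc d * h * h' = d * (h * h') := by group
      _ = d * (h' * h) := by rw [e2]
      _ = (d * h') * h := by group
      _ = (h' * d) * h := by rw [e1]
      _ = h' * (d * h) := by group
  · have e1 := hcomm h hh
    have e1' := hcomm h' hh'
    have e2 := hH h hh h' hh'
    calc d * h * (d * h') = d * (h * d) * h' := by group
      _ = d * (d * h) * h' := by rw [e1]
      _ = d * d * (h * h') := by group
      _ = d * d * (h' * h) := by rw [e2]
      _ = d * (d * h') * h := by group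
      _ = d * (h' * d) * h := by rw [e1']
      _ = d * h' * (d * h) := by group

/-- a group containing a four-group is not cyclic -/
theorem n9_not_cyclic_of_v4_le {X : Type u} [Group X] (Y B : Subgroup X) (hY : IsV4 Y)
    (hYB : Y ≤ B) : ¬ IsCyclic ↥B := by
  intro hB
  have h1 : IsCyclic ↥(Y.subgroupOf B) := inferInstance
  have h2 : IsCyclic ↥Y :=
    isCyclic_of_surjective (Subgroup.subgroupOfEquivOfLe hYB) (Subgroup.subgroupOfEquivOfLe hYB).surjective
  obtain ⟨g, hg⟩ := h2.exists_generator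
  have h3 : orderOf g = Nat.card ↥Y := orderOf_eq_card_of_forall_mem_zpowers hg
  rw [hY.1] at h3
  have h4 : g ^ 2 = 1 := by
    apply Subtype.ext
    rw [Subgroup.coe_pow]
    exact hY.2 g g.2
  have h5 := orderOf_dvd_of_pow_eq_one h4
  rw [h3] at h5
  omega

/-- **E1.** A central four-group `Y` inside `R` with `NA8 R` is all of `R`.  (If `x ∈ R ∖ Y`, replace
`x` by a `2^m`-th power with `x ∉ Y`, `x² ∈ Y`; `Y ⊔ ⟨x⟩` is abelian of order 8 and not cyclic since
it contains the four-group `Y` -- a cyclic group has at most one involution.) -/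
theorem eq_of_central_v4 {X : Type u} [Group X] [Finite X] (hX : IsPGroup 2 X) (Y : Subgroup X)
    (hYc : Y ≤ Subgroup.center X) (hY : IsV4 Y) (R : Subgroup X) (hYR : Y ≤ R) (hR : NA8 R) :
    R = Y := by
  by_contra hne
  have hex : ∃ x ∈ R, x ∉ Y := by
    by_contra h
    push Not at h
    exact hne (le_antisymm h hYR)
  obtain ⟨x, hxR, hxY⟩ := hex
  obtain ⟨m, hd, hdd⟩ := n9_pow_reduce hX Y x hxY
  set d := x ^ 2 ^ m with hd_def
  have hdR : d ∈ R := R.pow_mem hxR _
  have hcomm : ∀ h ∈ Y, d * h = h * d := fun h hh =>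
    (Subgroup.mem_center_iff.mp (hYc hh)) d
  have hYab : ∀ a ∈ Y, ∀ b ∈ Y, a * b = b * a := fun a ha b _ =>
    ((Subgroup.mem_center_iff.mp (hYc ha)) b).symm
  apply hR
  refine ⟨n9Ext Y d hdd hcomm, ?_, ?_, ?_, ?_⟩
  · rw [n9Ext_eq_sup]
    exact sup_le hYR ((Subgroup.zpowers_le).mpr hdR)
  · have hc := n9Ext_comm Y d hdd hcomm hYab
    exact ⟨⟨fun a b => Subtype.ext (hc a a.2 b b.2)⟩⟩
  · exact n9_not_cyclic_of_v4_le Y _ hY (fun g hg => Or.inl hg)
  · rw [n9Ext_card Y d hd hdd hcomm, hY.1]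

end Cfsg.Agent.Helper58.N9
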