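import Mathlib
import Cfsg.Agent.Lib.Helper32.N9Defs
import Cfsg.Agent.Lib.Helper58.N9E1

/-!
# helper32 lemma server "N9" (S4409), piece E2
-/

set_option autoImplicit false

namespace Cfsg.Agent.Helper58.N9

open Cfsg Cfsg.Agent.Helper32.N9

universe u

/-- a finite group with two distinct involutions is not cyclic -/
theorem n9_not_cyclic_of_three {G : Type*} [Group G] [Finite G] (a b : G) (ha : a ≠ 1)
    (hb : b ≠ 1) (hab : a ≠ b) (ha2 : a * a = 1) (hb2 : b * b = 1) : ¬ IsCyclic G := by
  classical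
  intro hG
  have : Fintype G := Fintype.ofFinite G
  have h1 := IsCyclic.card_pow_eq_one_le (α := G) (n := 2) two_pos
  have hsub : ({1, a, b} : Finset G) ⊆ Finset.univ.filter (fun x : G => x ^ 2 = 1) := by
    intro x hx
    simp only [Finset.mem_insert, Finset.mem_singleton] at hx
    rw [Finset.mem_filter]
    refine ⟨Finset.mem_univ _, ?_⟩
    rcases hx with rfl | rfl | rfl
    · simp
    · rw [pow_two]; exact ha2
    · rw [pow_two]; exact hb2
  have hcard : ({1, a, b} : Finset G).card = 3 := by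
    rw [Finset.card_insert_of_notMem, Finset.card_insert_of_notMem, Finset.card_singleton]
    · simpa using hab
    · simp only [Finset.mem_insert, Finset.mem_singleton, not_or]
      exact ⟨ha.symm, hb.symm⟩
  have h2 := Finset.card_le_card hsub
  omega

theorem n9_center_quat : ∀ t : QuaternionGroup 2, (∀ s, t * s = s * t) →
    t = 1 ∨ t = QuaternionGroup.a 1 * QuaternionGroup.a 1 := by decide

/-- **E2.** `Y ≅ Q8`, `c` centralizes `Y`, `NA8 (Y ⊔ ⟨c⟩)` ⇒ `c ∈ Y`.  (Else replace `c` by a
`2^m`-th power `d ∉ Y`, `d² ∈ Y ∩ C(Y) = Z(Y) = {1, z}`; with `i ∈ Y` of order 4, `⟨i, d⟩` is abelian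
of order 8 with two involutions: `z` and `d` (if `d² = 1`) or `i d` (if `d² = z`).) -/
theorem mem_of_q8_centralizing {X : Type u} [Group X] [Finite X] (hX : IsPGroup 2 X)
    (Y : Subgroup X) (hY : IsQ8 Y) (c : X) (hc : ∀ t ∈ Y, c * t = t * c)
    (hN : NA8 (Y ⊔ Subgroup.zpowers c)) : c ∈ Y := by
  classical
  by_contra hcY
  obtain ⟨e⟩ := hY
  obtain ⟨m, hd, hdd⟩ := n9_pow_reduce hX Y c hcY
  set d := c ^ 2 ^ m with hd_def
  have hdc : d ∈ Subgroup.zpowers c := (Subgroup.zpowers c).pow_mem (Subgroup.mem_zpowers c) _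
  have hdcomm : ∀ t ∈ Y, d * t = t * d := by
    intro t ht
    have h1 : Commute c t := hc t ht
    exact h1.pow_left _
  -- the element `i`
  obtain ⟨iY, hiYdef⟩ : ∃ iY : ↥Y, iY = e.symm (QuaternionGroup.a 1) := ⟨_, rfl⟩
  obtain ⟨i, hi_def⟩ : ∃ i : X, i = (iY : X) := ⟨_, rfl⟩
  have hiY : i ∈ Y := by rw [hi_def]; exact iY.2
  have hord : orderOf i = 4 := by
    rw [hi_def, Subgroup.orderOf_coe, hiYdef, MulEquiv.orderOf_eq, QuaternionGroup.orderOf_a_one]
  have hi4 : i ^ 4 = 1 := by rw [← hord]; exact pow_orderOf_eq_one i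
  obtain ⟨z, hz_def⟩ : ∃ z : X, z = i * i := ⟨_, rfl⟩
  have hzY : z ∈ Y := by rw [hz_def]; exact Y.mul_mem hiY hiY
  have hz1 : z ≠ 1 := by
    intro h
    have h1 : i ^ 2 = 1 := by rw [pow_two, ← hz_def]; exact h
    have h2 := orderOf_dvd_of_pow_eq_one h1
    rw [hord] at h2
    omega
  have hzz : z * z = 1 := by
    rw [hz_def]
    calc i * i * (i * i) = i ^ 4 := by
          rw [show (4:ℕ) = 2 + 2 from rfl, pow_add, pow_two]
      _ = 1 := hi4
  -- centre of `Y`
  have hcen : ∀ t ∈ Y, (∀ s ∈ Y, t * s = s * t) → t = 1 ∨ t = z := by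
    intro t ht hts
    have h1 : ∀ s : QuaternionGroup 2, e ⟨t, ht⟩ * s = s * e ⟨t, ht⟩ := by
      intro s
      have h0 := hts (e.symm s) (e.symm s).2
      have h2 : (⟨t, ht⟩ : Y) * e.symm s = e.symm s * ⟨t, ht⟩ := Subtype.ext h0
      have h3 := congrArg e h2
      rw [map_mul, map_mul, e.apply_symm_apply] at h3
      exact h3
    rcases n9_center_quat _ h1 with h | h
    · left
      have h4 : (⟨t, ht⟩ : Y) = 1 := by
        apply e.injective
        rw [h, map_one]
      exact congrArg Subtype.val h4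
    · right
      have h4 : (⟨t, ht⟩ : Y) = iY * iY := by
        apply e.injective
        rw [h, map_mul, hiYdef, e.apply_symm_apply]
      have h5 := congrArg Subtype.val h4
      rw [hz_def, hi_def]
      exact h5
  have hdd' : d * d = 1 ∨ d * d = z := by
    apply hcen _ hdd
    intro s hs
    have h1 := hdcomm s hs
    calc d * d * s = d * (d * s) := by group
      _ = d * (s * d) := by rw [h1]
      _ = (d * s) * d := by group
      _ = s * d * d := by rw [h1]
      _ = s * (d * d) := by group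
  -- `H = zpowers i`
  have hHY : Subgroup.zpowers i ≤ Y := (Subgroup.zpowers_le).mpr hiY
  have hzH : z ∈ Subgroup.zpowers i := by
    rw [hz_def]
    exact Subgroup.mul_mem _ (Subgroup.mem_zpowers i) (Subgroup.mem_zpowers i)
  have hddH : d * d ∈ Subgroup.zpowers i := by
    rcases hdd' with h | h
    · rw [h]; exact Subgroup.one_mem _
    · rw [h]; exact hzH
  have hcommH : ∀ h ∈ Subgroup.zpowers i, d * h = h * d := fun h hh => hdcomm h (hHY hh)
  have hdH : d ∉ Subgroup.zpowers i := fun h => hd (hHY h)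
  have hHab : ∀ a ∈ Subgroup.zpowers i, ∀ b ∈ Subgroup.zpowers i, a * b = b * a := by
    intro a ha b hb
    obtain ⟨k, rfl⟩ := Subgroup.mem_zpowers_iff.mp ha
    obtain ⟨l, rfl⟩ := Subgroup.mem_zpowers_iff.mp hb
    exact (Commute.refl i).zpow_zpow k l
  apply hN
  refine ⟨n9Ext (Subgroup.zpowers i) d hddH hcommH, ?_, ?_, ?_, ?_⟩
  · rw [n9Ext_eq_sup]
    exact sup_le (hHY.trans le_sup_left)
      ((Subgroup.zpowers_le).mpr (Subgroup.mem_sup_right hdc))
  · have hc' := n9Ext_comm _ d hddH hcommH hHab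
    exact ⟨⟨fun a b => Subtype.ext (hc' a a.2 b b.2)⟩⟩
  · have hzB : z ∈ n9Ext (Subgroup.zpowers i) d hddH hcommH := Or.inl hzH
    have hdB : d ∈ n9Ext (Subgroup.zpowers i) d hddH hcommH :=
      Or.inr (by rw [inv_mul_cancel]; exact Subgroup.one_mem _)
    have hiB : i ∈ n9Ext (Subgroup.zpowers i) d hddH hcommH := Or.inl (Subgroup.mem_zpowers i)
    rcases hdd' with h | h
    · apply n9_not_cyclic_of_three
        (⟨z, hzB⟩ : n9Ext (Subgroup.zpowers i) d hddH hcommH) ⟨d, hdB⟩
      · intro h'; exact hz1 (congrArg Subtype.val h')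
      · intro h'
        apply hd
        have h1 : d = 1 := congrArg Subtype.val h'
        rw [h1]; exact Y.one_mem
      · intro h'
        apply hd
        have h1 : z = d := congrArg Subtype.val h'
        rw [← h1]; exact hzY
      · exact Subtype.ext hzz
      · exact Subtype.ext h
    · have hidB := Subgroup.mul_mem _ hiB hdB
      have hidY : i * d ∉ Y := by
        intro h'
        apply hd
        have h1 : d = i⁻¹ * (i * d) := by group
        rw [h1]
        exact Y.mul_mem (Y.inv_mem hiY) h'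
      apply n9_not_cyclic_of_three
        (⟨z, hzB⟩ : n9Ext (Subgroup.zpowers i) d hddH hcommH) ⟨i * d, hidB⟩
      · intro h'; exact hz1 (congrArg Subtype.val h')
      · intro h'
        apply hidY
        have h1 : i * d = 1 := congrArg Subtype.val h'
        rw [h1]; exact Y.one_mem
      · intro h'
        apply hidY
        have h1 : z = i * d := congrArg Subtype.val h'
        rw [← h1]; exact hzY
      · exact Subtype.ext hzz
      · apply Subtype.ext
        show i * d * (i * d) = 1
        have h1 := hdcomm i hiY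
        calc i * d * (i * d) = i * (d * i) * d := by group
          _ = i * (i * d) * d := by rw [h1]
          _ = (i * i) * (d * d) := by group
          _ = z * z := by rw [h, ← hz_def]
          _ = 1 := hzz
  · rw [n9Ext_card _ d hdH hddH hcommH, Nat.card_zpowers, hord]

end Cfsg.Agent.Helper58.N9
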