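import Mathlib
import Cfsg.Agent.Lib.Helper32.N9Defs

/-!
# helper32 lemma server "N9" (S4409), piece V1
-/

set_option autoImplicit false

namespace Cfsg.Agent.Helper58.N9

open Cfsg Cfsg.Agent.Helper32.N9

universe u

/-- the four elements of a four-group -/
theorem n9_v4_elems {X : Type u} [Group X] (Y : Subgroup X) (hY : IsV4 Y) {a b : X} (ha : a ∈ Y)
    (hb : b ∈ Y) (ha1 : a ≠ 1) (hb1 : b ≠ 1) (hab : b ≠ a) :
    ∀ z ∈ Y, z = 1 ∨ z = a ∨ z = b ∨ z = a * b := by
  classical
  have hfin : Finite Y := Nat.finite_of_card_ne_zero (by rw [hY.1]; norm_num)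
  have : Fintype Y := Fintype.ofFinite Y
  have hcard : Fintype.card Y = 4 := by rw [← Nat.card_eq_fintype_card]; exact hY.1
  have ha2 : a * a = 1 := by rw [← pow_two]; exact hY.2 a ha
  have hainv : a⁻¹ = a := inv_eq_of_mul_eq_one_right ha2
  have h1 : (1 : Y) ≠ ⟨a, ha⟩ := fun h => ha1 (congrArg Subtype.val h).symm
  have h2 : (1 : Y) ≠ ⟨b, hb⟩ := fun h => hb1 (congrArg Subtype.val h).symm
  have h3 : (1 : Y) ≠ ⟨a * b, Y.mul_mem ha hb⟩ := by
    intro h
    have h' : a * b = 1 := (congrArg Subtype.val h).symm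
    apply hab
    rw [← hainv]
    exact (inv_eq_of_mul_eq_one_right h').symm
  have h4 : (⟨a, ha⟩ : Y) ≠ ⟨b, hb⟩ := fun h => hab (congrArg Subtype.val h).symm
  have h5 : (⟨a, ha⟩ : Y) ≠ ⟨a * b, Y.mul_mem ha hb⟩ := by
    intro h
    have h' : a = a * b := congrArg Subtype.val h
    exact hb1 (by simpa using h'.symm)
  have h6 : (⟨b, hb⟩ : Y) ≠ ⟨a * b, Y.mul_mem ha hb⟩ := by
    intro h
    have h' : b = a * b := congrArg Subtype.val h
    exact ha1 (by simpa using h'.symm)
  let s : Finset Y := {1, ⟨a, ha⟩, ⟨b, hb⟩, ⟨a * b, Y.mul_mem ha hb⟩}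
  have hs : s.card = 4 := by
    rw [Finset.card_insert_of_notMem, Finset.card_insert_of_notMem,
      Finset.card_insert_of_notMem, Finset.card_singleton]
    · simpa using h6
    · simp only [Finset.mem_insert, Finset.mem_singleton, not_or]
      exact ⟨h4, h5⟩
    · simp only [Finset.mem_insert, Finset.mem_singleton, not_or]
      exact ⟨h1, h2, h3⟩
  have huniv : s = Finset.univ := Finset.eq_univ_of_card s (by rw [hs, hcard])
  intro z hz
  have hm : (⟨z, hz⟩ : Y) ∈ s := by rw [huniv]; exact Finset.mem_univ _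
  simp only [s, Finset.mem_insert, Finset.mem_singleton] at hm
  rcases hm with h | h | h | h
  · exact Or.inl (congrArg Subtype.val h)
  · exact Or.inr (Or.inl (congrArg Subtype.val h))
  · exact Or.inr (Or.inr (Or.inl (congrArg Subtype.val h)))
  · exact Or.inr (Or.inr (Or.inr (congrArg Subtype.val h)))

/-- **V1.** A four-group `Y` on which an automorphism of odd order acts nontrivially has no invariant
subgroup of order 2.  (If `W = {1, w}` is invariant then `φ w = w`; take `y` with `φ y ≠ y`; then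
`φ y = w y`, `φ (w y) = y`, so `φ² y = y` and `φ^odd y = y` give `φ y = y`.) -/
theorem v4_invariant_sub {X : Type u} [Group X] (Y : Subgroup X) (hY : IsV4 Y) (φ : MulAut X)
    (hodd : Odd (orderOf φ)) (hinv : ∀ y ∈ Y, φ y ∈ Y) (hne : ∃ y ∈ Y, φ y ≠ y)
    (W : Subgroup X) (hWY : W ≤ Y) (hW : ∀ w ∈ W, φ w ∈ W) : W = ⊥ ∨ W = Y := by
  classical
  by_contra hcon
  push Not at hcon
  obtain ⟨hW1, hW2⟩ := hcon
  obtain ⟨⟨w, hw⟩, hw1⟩ := (Subgroup.ne_bot_iff_exists_ne_one).mp hW1
  have hw1' : (w : X) ≠ 1 := fun h => hw1 (Subtype.ext h)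
  have hex : ∃ y0 ∈ Y, y0 ∉ W := by
    by_contra h
    push Not at h
    exact hW2 (le_antisymm hWY h)
  obtain ⟨y0, hy0, hy0W⟩ := hex
  have hwY : (w : X) ∈ Y := hWY hw
  have hy01 : y0 ≠ 1 := fun h => hy0W (h ▸ W.one_mem)
  have hy0w : y0 ≠ w := fun h => hy0W (h ▸ hw)
  have helems := n9_v4_elems Y hY hwY hy0 hw1' hy01 hy0w
  have hWsub : ∀ z ∈ W, z = 1 ∨ z = w := by
    intro z hz
    rcases helems z (hWY hz) with h | h | h | h
    · exact Or.inl h
    · exact Or.inr h
    · exact absurd (h ▸ hz) hy0W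
    · exfalso
      apply hy0W
      have h' : y0 = (w : X)⁻¹ * z := by rw [h]; group
      rw [h']
      exact W.mul_mem (W.inv_mem hw) hz
  have hφw : φ w = w := by
    rcases hWsub _ (hW w hw) with h | h
    · exfalso
      apply hw1'
      apply φ.injective
      rw [h, map_one]
    · exact h
  obtain ⟨y, hyY, hyne⟩ := hne
  have hyW : y ∉ W := by
    intro hyW
    rcases hWsub y hyW with h | h
    · apply hyne; rw [h, map_one]
    · apply hyne; rw [h, hφw]
  have hy1 : y ≠ 1 := fun h => hyW (h ▸ W.one_mem)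
  have hyw : y ≠ w := fun h => hyW (h ▸ hw)
  have helems' := n9_v4_elems Y hY hwY hyY hw1' hy1 hyw
  have hφy : φ y = w * y := by
    rcases helems' _ (hinv y hyY) with h | h | h | h
    · exfalso
      apply hy1
      apply φ.injective
      rw [h, map_one]
    · exfalso
      apply hyw
      apply φ.injective
      rw [h, hφw]
    · exact absurd h hyne
    · exact h
  have hw2 : (w : X) * w = 1 := by rw [← pow_two]; exact hY.2 w hwY
  have hφφy : φ (φ y) = y := by
    rw [hφy, map_mul, hφw, hφy, ← mul_assoc, hw2, one_mul]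
  obtain ⟨k, hk⟩ := hodd
  have hpow : ∀ m : ℕ, (φ ^ (2 * m)) y = y := by
    intro m
    induction m with
    | zero => simp
    | succ m ih =>
      rw [mul_add, mul_one, pow_add, MulAut.mul_apply, pow_two, MulAut.mul_apply, hφφy, ih]
  have h1 : (φ ^ (2 * k + 1)) y = y := by
    rw [← hk, pow_orderOf_eq_one]; rfl
  rw [pow_succ', MulAut.mul_apply, hpow] at h1
  exact hyne h1

end Cfsg.Agent.Helper58.N9
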