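import Mathlib
import Cfsg.Agent.Lib.Helper32.N9Defs
import Cfsg.Agent.Lib.Helper58.N9V1
import Cfsg.Agent.S0015

/-!
# helper32 lemma server "N9" (S4409), piece V2
-/

set_option autoImplicit false

namespace Cfsg.Agent.Helper58.N9

open Cfsg Cfsg.Agent.Helper32.N9

universe u

/-- **V2.** A normal four-group of a 2-group `X` on which an automorphism of `X` of odd order acts
nontrivially is central.  (`W := Y ⊓ Z(X) ≠ ⊥` as `Y` is a nontrivial normal subgroup of a `p`-group;
`W` is `φ`-invariant (`Z(X)` is characteristic); by V1's argument `W = Y`.) -/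
theorem v4_central {X : Type u} [Group X] [Finite X] (hX : IsPGroup 2 X) (Y : Subgroup X)
    (hYn : Y.Normal) (hY : IsV4 Y) (φ : MulAut X) (hodd : Odd (orderOf φ))
    (hinv : ∀ y ∈ Y, φ y ∈ Y) (hne : ∃ y ∈ Y, φ y ≠ y) : Y ≤ Subgroup.center X := by
  have : Fact (Nat.Prime 2) := ⟨Nat.prime_two⟩
  have hnil : Group.IsNilpotent X := hX.isNilpotent
  have hYne : Y ≠ ⊥ := by
    intro h
    obtain ⟨y, hy, hyne⟩ := hne
    rw [h, Subgroup.mem_bot] at hy
    apply hyne
    rw [hy, map_one]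
  have hWne : Y ⊓ Subgroup.center X ≠ ⊥ := Cfsg.Agent.S0015.normal_inf_center_ne_bot Y hYne
  have hWinv : ∀ w ∈ Y ⊓ Subgroup.center X, φ w ∈ Y ⊓ Subgroup.center X := by
    intro w hw
    refine ⟨hinv w hw.1, ?_⟩
    show φ w ∈ Subgroup.center X
    rw [Subgroup.mem_center_iff]
    intro g
    have h1 : g = φ (φ⁻¹ g) := by simp
    have h2 := (Subgroup.mem_center_iff.mp hw.2) (φ⁻¹ g)
    rw [h1, ← map_mul, ← map_mul, h2]
  rcases v4_invariant_sub Y hY φ hodd hinv hne (Y ⊓ Subgroup.center X) inf_le_left hWinv with h | h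
  · exact absurd h hWne
  · intro y hy
    have : y ∈ Y ⊓ Subgroup.center X := by rw [h]; exact hy
    exact this.2

end Cfsg.Agent.Helper58.N9
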