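import Mathlib

/-!
# JPC (J1) for helper35's JPC server (S4150): `zpowers_cycle_max`.
-/

set_option autoImplicit false

namespace Cfsg.Agent.Helper58.JPC

open Equiv Equiv.Perm MulAction Subgroup

universe u

/-- `ℓ ^ n ∣ ℓ !` forces `n ≤ 1`. -/
theorem j1_pow_dvd_factorial {ℓ n : ℕ} (hℓ : ℓ.Prime) (h : ℓ ^ n ∣ ℓ.factorial) : n ≤ 1 := by
  by_contra hn
  rw [not_le] at hn
  have h2 : ℓ ^ 2 ∣ ℓ.factorial := (pow_dvd_pow ℓ hn).trans h
  obtain ⟨m, hm⟩ : ∃ m, ℓ = m + 1 := ⟨ℓ - 1, by have := hℓ.pos; omega⟩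
  have h3 : ℓ * ℓ ∣ ℓ * m.factorial := by
    have : ℓ.factorial = ℓ * m.factorial := by
      rw [hm, Nat.factorial_succ]
    rw [← this, ← pow_two]
    exact h2
  have h4 : ℓ ∣ m.factorial := Nat.dvd_of_mul_dvd_mul_left hℓ.pos h3
  have h5 : ℓ ≤ m := (hℓ.dvd_factorial).mp h4
  omega

/-- (J1) an ℓ-group fixing the complement of an ℓ-cycle's support pointwise and containing the cycle
is `⟨g⟩`. -/
theorem zpowers_cycle_max {Ω : Type u} [Fintype Ω] [DecidableEq Ω] {ℓ : ℕ} (hℓ : ℓ.Prime)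
    {g : Perm Ω} (hgc : g.IsCycle) (hgℓ : g.support.card = ℓ)
    (R' : Subgroup (Perm Ω)) (hfix : ∀ r ∈ R', ∀ t, t ∉ g.support → r t = t)
    (hp : IsPGroup ℓ R') (hle : zpowers g ≤ R') : R' ≤ zpowers g := by
  -- `R'` lies in the image of `Perm g.support`
  have hR : R' ≤ (ofSubtype : Perm {x // x ∈ g.support} →* Perm Ω).range := by
    intro r hr
    rw [mem_range_ofSubtype_iff]
    intro x hx
    have hx' : r x ≠ x := Perm.mem_support.mp hx
    show x ∈ g.support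
    by_contra hxs
    exact hx' (hfix r hr x hxs)
  have hcardrange : Nat.card (ofSubtype : Perm {x // x ∈ g.support} →* Perm Ω).range
      = ℓ.factorial := by
    rw [← Nat.card_congr (MonoidHom.ofInjective
      (ofSubtype_injective (p := fun x => x ∈ g.support))).toEquiv, Nat.card_perm,
      Nat.card_eq_fintype_card, Fintype.card_coe, hgℓ]
  have hdvd : Nat.card R' ∣ ℓ.factorial := by
    rw [← hcardrange]
    exact Subgroup.card_dvd_of_le hR
  have : Fact ℓ.Prime := ⟨hℓ⟩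
  obtain ⟨n, hn⟩ := hp.exists_card_eq
  rw [hn] at hdvd
  have hn1 : n ≤ 1 := j1_pow_dvd_factorial hℓ hdvd
  have hcz : Nat.card (zpowers g) = ℓ := by
    rw [Nat.card_zpowers, hgc.orderOf, hgℓ]
  have hcard : Nat.card R' ≤ Nat.card (zpowers g) := by
    rw [hn, hcz]
    calc ℓ ^ n ≤ ℓ ^ 1 := Nat.pow_le_pow_right hℓ.pos hn1
      _ = ℓ := pow_one ℓ
  exact (Subgroup.eq_of_le_of_card_ge hle hcard).ge

end Cfsg.Agent.Helper58.JPC
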