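import Mathlib

/-!
# JPC (J3) for helper35's JPC server (S4150): `isThreeCycle_pow_of_commute`.
-/

set_option autoImplicit false

namespace Cfsg.Agent.Helper58.JPC

open Equiv Equiv.Perm MulAction Subgroup

universe u

/-- (J3) `c` commutes with the ℓ-cycle `g` and induces the 3-cycle `(a b d)` outside `g.support`:
then `c ^ ℓ` is a 3-cycle (ℓ ≠ 3 prime). -/
theorem isThreeCycle_pow_of_commute {Ω : Type u} [Fintype Ω] [DecidableEq Ω] {ℓ : ℕ}
    (hℓ : ℓ.Prime) (hℓ3 : ℓ ≠ 3) {g c : Perm Ω} (hgc : g.IsCycle) (hgℓ : g.support.card = ℓ)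
    (hcomm : Commute c g) {a b d : Ω} (ha : a ∉ g.support) (hb : b ∉ g.support)
    (hd : d ∉ g.support) (hab : a ≠ b) (hbd : b ≠ d) (had : a ≠ d)
    (hca : c a = b) (hcb : c b = d) (hcd : c d = a)
    (hfix : ∀ t, t ∉ g.support → t ≠ a → t ≠ b → t ≠ d → c t = t) :
    (c ^ ℓ).IsThreeCycle := by
  obtain ⟨τ, hτ⟩ : ∃ τ : Perm Ω, τ = swap a b * swap b d := ⟨_, rfl⟩
  have hτ3 : τ.IsThreeCycle := by
    rw [hτ, swap_comm a b]
    exact isThreeCycle_swap_mul_swap_same hab.symm hbd had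
  have hτa : τ a = b := by
    rw [hτ, Perm.mul_apply, swap_apply_of_ne_of_ne hab had, swap_apply_left]
  have hτb : τ b = d := by
    rw [hτ, Perm.mul_apply, swap_apply_left, swap_apply_of_ne_of_ne had.symm hbd.symm]
  have hτd : τ d = a := by
    rw [hτ, Perm.mul_apply, swap_apply_right, swap_apply_right]
  have hτo : ∀ t, t ≠ a → t ≠ b → t ≠ d → τ t = t := by
    intro t h1 h2 h3
    rw [hτ, Perm.mul_apply, swap_apply_of_ne_of_ne h2 h3, swap_apply_of_ne_of_ne h1 h2]
  have hτia : τ⁻¹ a = d := by rw [Perm.inv_eq_iff_eq, hτd]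
  have hτib : τ⁻¹ b = a := by rw [Perm.inv_eq_iff_eq, hτa]
  have hτid : τ⁻¹ d = b := by rw [Perm.inv_eq_iff_eq, hτb]
  have hτio : ∀ t, t ≠ a → t ≠ b → t ≠ d → τ⁻¹ t = t := by
    intro t h1 h2 h3
    rw [Perm.inv_eq_iff_eq, hτo t h1 h2 h3]
  -- `g` and `τ` are disjoint
  have hdisj : Perm.Disjoint g τ := by
    intro x
    by_cases hx : x ∈ g.support
    · right
      apply hτo
      · rintro rfl; exact ha hx
      · rintro rfl; exact hb hx
      · rintro rfl; exact hd hx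
    · left
      exact Perm.notMem_support.mp hx
  have hgτ : Commute g τ := hdisj.commute
  -- `c' = c * τ⁻¹` is trivial outside `g.support` and commutes with `g`
  obtain ⟨c', hc'⟩ : ∃ c' : Perm Ω, c' = c * τ⁻¹ := ⟨_, rfl⟩
  have hc'fix : ∀ t, t ∉ g.support → c' t = t := by
    intro t ht
    rw [hc', Perm.mul_apply]
    by_cases h1 : t = a
    · rw [h1, hτia, hcd]
    by_cases h2 : t = b
    · rw [h2, hτib, hca]
    by_cases h3 : t = d
    · rw [h3, hτid, hcb]
    rw [hτio t h1 h2 h3]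
    exact hfix t ht h1 h2 h3
  have hc'comm : Commute c' g := by
    rw [hc']
    exact hcomm.mul_left hgτ.symm.inv_left
  obtain ⟨hsup, hmem⟩ := hgc.commute_iff.mp hc'comm
  have hc'eq : ofSubtype (subtypePerm c' hsup) = c' := by
    apply ofSubtype_subtypePerm
    intro x hx
    by_contra hxs
    exact hx (hc'fix x hxs)
  rw [hc'eq] at hmem
  have hord : orderOf g = ℓ := by rw [hgc.orderOf, hgℓ]
  have hc'pow : c' ^ ℓ = 1 := by
    obtain ⟨k, hk⟩ := Subgroup.mem_zpowers_iff.mp hmem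
    rw [← hk, ← zpow_natCast, ← zpow_mul, mul_comm, zpow_mul, zpow_natCast, ← hord,
      pow_orderOf_eq_one, one_zpow]
  have hc'τ : Commute c' τ := by
    obtain ⟨k, hk⟩ := Subgroup.mem_zpowers_iff.mp hmem
    rw [← hk]
    exact hgτ.zpow_left k
  have hceq : c = c' * τ := by rw [hc', inv_mul_cancel_right]
  rw [hceq, hc'τ.mul_pow, hc'pow, one_mul, ← card_support_eq_three_iff, support_pow_coprime,
    hτ3.card_support]
  rw [hτ3.orderOf]
  exact (Nat.coprime_primes hℓ Nat.prime_three).mpr hℓ3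

end Cfsg.Agent.Helper58.JPC
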