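import Cfsg.Agent.Lib.Helper39.StbAsm

/-!
# STB2 lemma server (helper39, S2313), piece (D1): every element lies in a double coset `B n K` with
`ψ n` minimal.
-/

set_option autoImplicit false
set_option linter.unusedSectionVars false

namespace Cfsg.Agent.Helper58.Stb2

open Cfsg Cfsg.Agent.Helper6 Cfsg.Agent.Helper6.Weyl Cfsg.Agent.Helper59.Poincare Cfsg.Agent.Helper39.Stb Matrix

section Group

variable {G : Type*} [Group G] (P : Cfsg.BNPair G) {l : ℕ} (V : VDatum l)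
  (ψ : P.N →* V.Wf)
  (hker : ∀ n : P.N, ψ n = 1 ↔ (n : G) ∈ P.B)
  (hS : ∀ s (hs : s ∈ P.S), ∃ i, ψ ⟨s, P.subset hs⟩ = V.σ i)
  (hS' : ∀ i, ∃ s, ∃ hs : s ∈ P.S, ψ ⟨s, P.subset hs⟩ = V.σ i)
variable (J : Fin l → Prop) [DecidablePred J] (T : Set G) (hT : T ⊆ P.S)
  (hT1 : ∀ s (hs : s ∈ T), ∃ i, J i ∧ ψ ⟨s, P.subset (hT hs)⟩ = V.σ i)
  (hT2 : ∀ i, J i → ∃ s, ∃ hs : s ∈ T, ψ ⟨s, P.subset (hT hs)⟩ = V.σ i)

include hT2 in
/-- (D1) every `x` lies in a double coset `B n K`, `K = P.parabolic T`, with `ψ n` minimal: `x ∈ C m` (`bruhat_exists`),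
`ψ m = u v` (`Helper34.Stb.exists_min'`), lift `v` to `k ∈ ⟨T⟩` (`Helper15.Stb.exists_lift_W`), `n = m k⁻¹`. -/
theorem exists_min_doset (x : G) :
    ∃ n, ∃ hn : n ∈ P.N, IsMin V J ((ψ ⟨n, hn⟩ : V.Wf) : (Mat l)ˣ) ∧
      ∃ c ∈ P.B, ∃ p ∈ P.parabolic T, x = c * n * p := by
  obtain ⟨m, hm, hxm⟩ := bruhat_exists P x
  have hw : ((ψ ⟨m, hm⟩ : V.Wf) : (Mat l)ˣ) ∈ V.Wf := (ψ ⟨m, hm⟩).2
  obtain ⟨u, hu, v, hv, huv, hmin⟩ := Cfsg.Agent.Helper34.Stb.exists_min' V J hw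
  obtain ⟨k, hk, hkv⟩ := Cfsg.Agent.Helper15.Stb.exists_lift_W P V ψ J T hT hT2 hv
  have hkN : k ∈ P.N := closure_le_N P hT hk
  have hn : m * k⁻¹ ∈ P.N := P.N.mul_mem hm (P.N.inv_mem hkN)
  refine ⟨m * k⁻¹, hn, ?_, ?_⟩
  · have h1 : (⟨m * k⁻¹, hn⟩ : P.N) = ⟨m, hm⟩ * (⟨k, hkN⟩ : P.N)⁻¹ := rfl
    have h2 : ((ψ ⟨m * k⁻¹, hn⟩ : V.Wf) : (Mat l)ˣ) = u := by
      rw [h1, map_mul, map_inv, Subgroup.coe_mul, Subgroup.coe_inv, huv]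
      have h3 : ((ψ ⟨k, hkN⟩ : V.Wf) : (Mat l)ˣ) = v := hkv
      rw [h3, mul_assoc, mul_inv_cancel, mul_one]
    rw [h2]
    exact hmin
  · obtain ⟨b, hb, b', hb', hx⟩ := (mem_C P).1 hxm
    refine ⟨b, hb, k * b', ?_, ?_⟩
    · have hle1 : Subgroup.closure T ≤ P.parabolic T := by
        unfold BNPair.parabolic; exact le_sup_right
      have hle2 : P.B ≤ P.parabolic T := by
        unfold BNPair.parabolic; exact le_sup_left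
      exact (P.parabolic T).mul_mem (hle1 hk) (hle2 hb')
    · rw [hx]; group

end Group

end Cfsg.Agent.Helper58.Stb2
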