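import Cfsg.Agent.Lib.Helper39.StbAsm

/-!
# STB2 lemma server (helper39, S2313), piece (D2): uniqueness of the minimal representative of a
double coset `B n K`.
-/

set_option autoImplicit false
set_option linter.unusedSectionVars false

namespace Cfsg.Agent.Helper58.Stb2

open Cfsg Cfsg.Agent.Helper6 Cfsg.Agent.Helper6.Weyl Cfsg.Agent.Helper59.Poincare Cfsg.Agent.Helper39.Stb Matrix

section Group

variable {G : Type*} [Group G] (P : Cfsg.BNPair G) {l : ℕ} (V : VDatum l)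
  (ψ : P.N →* V.Wf)
  (hker : ∀ n : P.N, ψ n = 1 ↔ (n : G) ∈ P.B)
  (hS : ∀ s (hs : s ∈ P.S), ∃ i, ψ ⟨s, P.subset hs⟩ = V.σ i)
  (hS' : ∀ i, ∃ s, ∃ hs : s ∈ P.S, ψ ⟨s, P.subset hs⟩ = V.σ i)
variable (J : Fin l → Prop) [DecidablePred J] (T : Set G) (hT : T ⊆ P.S)
  (hT1 : ∀ s (hs : s ∈ T), ∃ i, J i ∧ ψ ⟨s, P.subset (hT hs)⟩ = V.σ i)
  (hT2 : ∀ i, J i → ∃ s, ∃ hs : s ∈ T, ψ ⟨s, P.subset (hT hs)⟩ = V.σ i)

include hker hT1 in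
/-- (D2) the minimal representative of a double coset `B n K` is unique modulo `B ∩ N`: `p ∈ C k`, `p' ∈ C k'`
(`mem_parabolic_iff P hT`), so `c n p ∈ C(n k) ∩ C(n' k')` (`hM`), `bruhat_unique`, `hker`, `psi_mem_W`,
then `Helper34.Stb.min_factor_unique` (with `Helper96.Stb.nJ_mul_add`, `Helper95.Stb.smul_mem_sdiff`). -/
theorem min_doset_unique
    (hM : ∀ {n : G} (hn : n ∈ P.N), IsMin V J ((ψ ⟨n, hn⟩ : V.Wf) : (Mat l)ˣ) →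
      ∀ {k : G}, k ∈ Subgroup.closure T → ∀ {x y : G}, x ∈ C P n → y ∈ C P k → x * y ∈ C P (n * k))
    {n n' : G} (hn : n ∈ P.N) (hn' : n' ∈ P.N)
    (hmin : IsMin V J ((ψ ⟨n, hn⟩ : V.Wf) : (Mat l)ˣ))
    (hmin' : IsMin V J ((ψ ⟨n', hn'⟩ : V.Wf) : (Mat l)ˣ))
    {c c' p p' : G} (hc : c ∈ P.B) (hc' : c' ∈ P.B) (hp : p ∈ P.parabolic T)
    (hp' : p' ∈ P.parabolic T) (h : c * n * p = c' * n' * p') :
    ψ ⟨n, hn⟩ = ψ ⟨n', hn'⟩ := by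
  obtain ⟨k, hk, hpk⟩ := (mem_parabolic_iff P hT p).1 hp
  obtain ⟨k', hk', hpk'⟩ := (mem_parabolic_iff P hT p').1 hp'
  have hkN : k ∈ P.N := closure_le_N P hT hk
  have hkN' : k' ∈ P.N := closure_le_N P hT hk'
  have h1 : c * n ∈ C P n := mul_left_mem_C P hc (self_mem_C P n)
  have h1' : c' * n' ∈ C P n' := mul_left_mem_C P hc' (self_mem_C P n')
  have h2 : c * n * p ∈ C P (n * k) := hM hn hmin hk h1 hpk
  have h2' : c' * n' * p' ∈ C P (n' * k') := hM hn' hmin' hk' h1' hpk'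
  rw [← h] at h2'
  have hCeq : C P (n * k) = C P (n' * k') := C_eq_of_mem_of_mem P h2 h2'
  have hnk : n * k ∈ P.N := P.N.mul_mem hn hkN
  have hnk' : n' * k' ∈ P.N := P.N.mul_mem hn' hkN'
  have hB : (n * k)⁻¹ * (n' * k') ∈ P.B := bruhat_unique P hnk hnk' hCeq
  -- images under `ψ`
  have h3 : ψ ((⟨n * k, hnk⟩ : P.N)⁻¹ * ⟨n' * k', hnk'⟩) = 1 := (hker _).2 hB
  have h4 : ψ (⟨n * k, hnk⟩ : P.N) = ψ ⟨n' * k', hnk'⟩ := by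
    rw [map_mul, map_inv] at h3
    exact inv_mul_eq_one.mp h3
  have e1 : (⟨n * k, hnk⟩ : P.N) = ⟨n, hn⟩ * ⟨k, hkN⟩ := rfl
  have e1' : (⟨n' * k', hnk'⟩ : P.N) = ⟨n', hn'⟩ * ⟨k', hkN'⟩ := rfl
  rw [e1, e1', map_mul, map_mul] at h4
  have h5 : ((ψ ⟨n, hn⟩ : V.Wf) : (Mat l)ˣ) * ((ψ ⟨k, hkN⟩ : V.Wf) : (Mat l)ˣ) =
      ((ψ ⟨n', hn'⟩ : V.Wf) : (Mat l)ˣ) * ((ψ ⟨k', hkN'⟩ : V.Wf) : (Mat l)ˣ) := by
    have := congrArg (fun w : V.Wf => (w : (Mat l)ˣ)) h4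
    simpa only [Subgroup.coe_mul] using this
  have hv : ((ψ ⟨k, hkN⟩ : V.Wf) : (Mat l)ˣ) ∈ V.W J :=
    Cfsg.Agent.Helper15.Stb.psi_mem_W P V ψ J T hT hT1 hk
  have hv' : ((ψ ⟨k', hkN'⟩ : V.Wf) : (Mat l)ˣ) ∈ V.W J :=
    Cfsg.Agent.Helper15.Stb.psi_mem_W P V ψ J T hT hT1 hk'
  have hadd : ∀ u v : (Mat l)ˣ, u ∈ V.Wf → IsMin V J u → v ∈ V.W J →
      V.nJ VDatum.allJ (u * v) = V.nJ VDatum.allJ u + V.nJ J v :=
    fun u v hu hmin hv => Cfsg.Agent.Helper96.Stb.nJ_mul_add V J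
      (fun x hx β hβ => Cfsg.Agent.Helper95.Stb.smul_mem_sdiff V J hx hβ) hu hmin hv
  have h6 := (Cfsg.Agent.Helper34.Stb.min_factor_unique V J hadd (ψ ⟨n, hn⟩).2 (ψ ⟨n', hn'⟩).2
    hmin hmin' hv hv' h5).1
  exact Subtype.ext h6

end Group

end Cfsg.Agent.Helper58.Stb2
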