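import Mathlib
import Cfsg.Agent.Lib.Helper93.U20

/-!
# U2 (G1b) for helper93's U2 server (S2335): `aMat_unitary`.
-/

set_option autoImplicit false

namespace Cfsg.Agent.Helper58.U2

open Matrix Cfsg.Agent.Helper13 Cfsg.Agent.Helper93.U2

section GRP

variable {F : Type*} [Field F] [Fintype F] {q : ℕ} (hF : Fintype.card F = q ^ 2)

/-- piece G1b -/
theorem aMat_unitary {n m : ℕ} (fr : Frame hF n m) (ε : F) (hε : ε ^ q = -ε)
    (H : Matrix (Fin m) (Fin m) F) (hH : cT hF H = H) :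
    cT hF (aMat hF fr ε H) * aMat hF fr ε H = 1 := by
  unfold aMat
  have hX : cT hF (fr.P * H * cT hF fr.P) = fr.P * H * cT hF fr.P := by
    rw [cT_mul, cT_mul, cT_cT, hH, Matrix.mul_assoc]
  have hXX : fr.P * H * cT hF fr.P * (fr.P * H * cT hF fr.P) = 0 := by
    calc fr.P * H * cT hF fr.P * (fr.P * H * cT hF fr.P)
        = fr.P * H * ((cT hF fr.P * fr.P) * (H * cT hF fr.P)) := by
          simp only [Matrix.mul_assoc]
      _ = 0 := by rw [fr.pp, Matrix.zero_mul, Matrix.mul_zero]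
  rw [cT_add, cT_one, cT_smul, hX, hε, Matrix.add_mul, Matrix.mul_add, Matrix.mul_add,
    Matrix.one_mul, Matrix.one_mul, Matrix.mul_one, Matrix.smul_mul, Matrix.mul_smul, hXX,
    smul_zero, smul_zero, add_zero, neg_smul]
  abel

end GRP

end Cfsg.Agent.Helper58.U2
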