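import Mathlib
import Cfsg.Agent.Lib.Helper93.U20

/-!
# U2 (G1c) for helper93's U2 server (S2335): `aMat_det`.
-/

set_option autoImplicit false

namespace Cfsg.Agent.Helper58.U2

open Matrix Cfsg.Agent.Helper13 Cfsg.Agent.Helper93.U2

section GRP

variable {F : Type*} [Field F] [Fintype F] {q : ℕ} (hF : Fintype.card F = q ^ 2)

/-- piece G1c -/
theorem aMat_det {n m : ℕ} (fr : Frame hF n m) (ε : F) (H : Matrix (Fin m) (Fin m) F) :
    (aMat hF fr ε H).det = 1 := by
  unfold aMat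
  have h1 : ε • (fr.P * H * cT hF fr.P) = fr.P * (ε • (H * cT hF fr.P)) := by
    rw [Matrix.mul_smul, Matrix.mul_assoc]
  rw [h1, Matrix.det_one_add_mul_comm]
  have h2 : ε • (H * cT hF fr.P) * fr.P = 0 := by
    rw [Matrix.smul_mul, Matrix.mul_assoc, fr.pp, Matrix.mul_zero, smul_zero]
  rw [h2, add_zero, Matrix.det_one]

end GRP

end Cfsg.Agent.Helper58.U2
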