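import Mathlib

set_option autoImplicit false

namespace Cfsg.Agent.Helper58

open Matrix

/-- The affine subset of `SL(3,F)`: last row `(0,0,1)`. -/
def affSet (F : Type*) [Field F] : Set (Matrix.SpecialLinearGroup (Fin 3) F) :=
  {M | (M : Matrix (Fin 3) (Fin 3) F) 2 0 = 0 ∧ (M : Matrix (Fin 3) (Fin 3) F) 2 1 = 0 ∧
    (M : Matrix (Fin 3) (Fin 3) F) 2 2 = 1}

theorem ch3 {R : Type*} [CommRing R] (M : Matrix (Fin 3) (Fin 3) R) (h0 : M 2 0 = 0)
    (h1 : M 2 1 = 0) (h2 : M 2 2 = 1) :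
    M^3 - (M 0 0 + M 1 1 + 1) • M^2 + (M 0 0 + M 1 1 + (M 0 0 * M 1 1 - M 0 1 * M 1 0)) • M
      - (M 0 0 * M 1 1 - M 0 1 * M 1 0) • (1 : Matrix (Fin 3) (Fin 3) R) = 0 := by
  ext i j
  fin_cases i <;> fin_cases j <;>
    simp [pow_succ, Matrix.mul_apply, Fin.sum_univ_three, h0, h1, h2] <;> ring

section field
variable {F : Type*} [Field F]

theorem det_of_mem_affSet {M : Matrix.SpecialLinearGroup (Fin 3) F} (hM : M ∈ affSet F) :
    (M : Matrix (Fin 3) (Fin 3) F) 0 0 * (M : Matrix (Fin 3) (Fin 3) F) 1 1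
      - (M : Matrix (Fin 3) (Fin 3) F) 0 1 * (M : Matrix (Fin 3) (Fin 3) F) 1 0 = 1 := by
  obtain ⟨h0, h1, h2⟩ := hM
  have hdet := M.det_coe
  rw [Matrix.det_fin_three, h0, h1, h2] at hdet
  linear_combination hdet

/-- the trace-like parameter -/
def sPar (M : Matrix.SpecialLinearGroup (Fin 3) F) : F :=
  (M : Matrix (Fin 3) (Fin 3) F) 0 0 + (M : Matrix (Fin 3) (Fin 3) F) 1 1 + 1

theorem ch3_sl {M : Matrix.SpecialLinearGroup (Fin 3) F} (hM : M ∈ affSet F) :
    (M : Matrix (Fin 3) (Fin 3) F)^3 - sPar M • (M : Matrix (Fin 3) (Fin 3) F)^2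
      + sPar M • (M : Matrix (Fin 3) (Fin 3) F) - 1 = 0 := by
  have hd := det_of_mem_affSet hM
  obtain ⟨h0, h1, h2⟩ := hM
  have := ch3 (M : Matrix (Fin 3) (Fin 3) F) h0 h1 h2
  rw [hd, one_smul] at this
  exact this

theorem pow_three_of_s0 {M : Matrix.SpecialLinearGroup (Fin 3) F} (hM : M ∈ affSet F)
    (hs : sPar M = 0) : M ^ 3 = 1 := by
  have h := ch3_sl hM
  rw [hs, zero_smul, zero_smul, sub_zero, add_zero, sub_eq_zero] at h
  apply Subtype.ext
  simpa using h

theorem pow_four_of_s1 {M : Matrix.SpecialLinearGroup (Fin 3) F} (hM : M ∈ affSet F)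
    (hs : sPar M = 1) : M ^ 4 = 1 := by
  have h := ch3_sl hM
  rw [hs, one_smul, one_smul] at h
  set A := (M : Matrix (Fin 3) (Fin 3) F) with hA
  have h4 : A ^ 4 - 1 = (A + 1) * (A ^ 3 - A ^ 2 + A - 1) := by noncomm_ring
  rw [h, mul_zero, sub_eq_zero] at h4
  apply Subtype.ext
  simpa using h4

theorem pow_five_of_s {M : Matrix.SpecialLinearGroup (Fin 3) F} (hM : M ∈ affSet F)
    (hs : sPar M ^ 2 - sPar M - 1 = 0) : M ^ 5 = 1 := by
  have h := ch3_sl hM
  set A := (M : Matrix (Fin 3) (Fin 3) F) with hA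
  set s := sPar M with hs'
  have h5 : A ^ 5 - 1 = (A ^ 2 + s • A + 1) * (A ^ 3 - s • A ^ 2 + s • A - 1)
      + (s ^ 2 - s - 1) • (A ^ 3 - A ^ 2) := by
    have hp : (Polynomial.X ^ 5 - 1 : Polynomial F) =
        (Polynomial.X ^ 2 + Polynomial.C s * Polynomial.X + 1) *
          (Polynomial.X ^ 3 - Polynomial.C s * Polynomial.X ^ 2 + Polynomial.C s * Polynomial.X - 1)
        + Polynomial.C (s ^ 2 - s - 1) * (Polynomial.X ^ 3 - Polynomial.X ^ 2) := by
      simp only [map_sub, map_pow, map_one]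
      ring
    have := congrArg (Polynomial.aeval A) hp
    simpa [Algebra.smul_def] using this
  rw [h, mul_zero, hs, zero_smul, add_zero, sub_eq_zero] at h5
  apply Subtype.ext
  simpa using h5

end field

section card4
variable {F : Type*} [Field F] [Fintype F]

theorem two_eq_zero_of_card (hF : Fintype.card F = 4) : (2 : F) = 0 := by
  have hchar : CharP F 2 := by
    obtain ⟨p, hp⟩ := CharP.exists F
    obtain ⟨n, hpp, hcard⟩ := FiniteField.card F p
    rw [hF] at hcard
    have h2 : p ∣ 4 := by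
      rw [hcard]; exact dvd_pow_self p n.ne_zero
    have : p = 2 := by
      have : p ∣ 2 ^ 2 := by simpa using h2
      exact (Nat.prime_dvd_prime_iff_eq hpp Nat.prime_two).mp (hpp.dvd_of_dvd_pow this)
    rw [← this]; exact hp
  exact_mod_cast CharP.cast_eq_zero F 2

theorem pow_four_eq_self (hF : Fintype.card F = 4) (x : F) : x ^ 4 = x := by
  rw [← hF]; exact FiniteField.pow_card x

theorem trichotomy (hF : Fintype.card F = 4) (s : F) :
    s = 0 ∨ s = 1 ∨ s ^ 2 + s + 1 = 0 := by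
  have h := pow_four_eq_self hF s
  have : s * ((s - 1) * (s ^ 2 + s + 1)) = 0 := by linear_combination h
  rcases mul_eq_zero.mp this with h | h
  · exact Or.inl h
  · rcases mul_eq_zero.mp h with h | h
    · exact Or.inr (Or.inl (sub_eq_zero.mp h))
    · exact Or.inr (Or.inr h)

theorem exists_omega (hF : Fintype.card F = 4) : ∃ w : F, w ^ 2 + w + 1 = 0 := by
  classical
  have : ∃ w : F, w ≠ 0 ∧ w ≠ 1 := by
    by_contra hcon
    push Not at hcon
    have hsub : (Finset.univ : Finset F) ⊆ {0, 1} := by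
      intro x _
      by_cases hx : x = 0
      · simp [hx]
      · simp [hcon x hx]
    have := Finset.card_le_card hsub
    rw [Finset.card_univ, hF] at this
    have h2 : ({0, 1} : Finset F).card ≤ 2 := Finset.card_insert_le _ _
    omega
  obtain ⟨w, hw0, hw1⟩ := this
  rcases trichotomy hF w with h | h | h
  · exact absurd h hw0
  · exact absurd h hw1
  · exact ⟨w, h⟩

/-- every element of the affine set has cube, fourth power or fifth power one; refined version -/
theorem pow_cases (hF : Fintype.card F = 4) {M : Matrix.SpecialLinearGroup (Fin 3) F}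
    (hM : M ∈ affSet F) :
    (sPar M = 0 ∧ M ^ 3 = 1) ∨ (sPar M = 1 ∧ M ^ 4 = 1) ∨
      (sPar M ^ 2 + sPar M + 1 = 0 ∧ M ^ 5 = 1) := by
  have h2 := two_eq_zero_of_card hF
  rcases trichotomy hF (sPar M) with h | h | h
  · exact Or.inl ⟨h, pow_three_of_s0 hM h⟩
  · exact Or.inr (Or.inl ⟨h, pow_four_of_s1 hM h⟩)
  · refine Or.inr (Or.inr ⟨h, pow_five_of_s hM ?_⟩)
    linear_combination h - (sPar M + 1) * h2

end card4

theorem orderOf_mem_of_pow {G : Type*} [Monoid G] (x : G)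
    (h : x ^ 3 = 1 ∨ x ^ 4 = 1 ∨ x ^ 5 = 1) : orderOf x ∈ ({1, 2, 3, 4, 5} : Set ℕ) := by
  rcases h with h | h | h
  · have := orderOf_dvd_of_pow_eq_one h
    rcases (Nat.dvd_prime Nat.prime_three).mp this with h1 | h1 <;> simp [h1]
  · have := orderOf_dvd_of_pow_eq_one h
    have hmem : orderOf x ∈ Nat.divisors 4 := Nat.mem_divisors.mpr ⟨this, by norm_num⟩
    have hd : Nat.divisors 4 = {1, 2, 4} := by decide
    rw [hd] at hmem
    simp only [Finset.mem_insert, Finset.mem_singleton] at hmem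
    rcases hmem with h1 | h1 | h1 <;> simp [h1]
  · have := orderOf_dvd_of_pow_eq_one h
    rcases (Nat.dvd_prime Nat.prime_five).mp this with h1 | h1 <;> simp [h1]

end Cfsg.Agent.Helper58
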