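import Mathlib
import Cfsg.Agent.Lib.Helper58.AffSL24

set_option autoImplicit false

namespace Cfsg.Agent.Helper58

set_option maxRecDepth 100000 in
theorem a6_pow : ∀ σ : Equiv.Perm (Fin 6), Equiv.Perm.sign σ = 1 →
    (σ^3 = 1 ∨ σ^4 = 1 ∨ σ^5 = 1) := by
  decide +kernel

def p2 : Equiv.Perm (Fin 6) := Equiv.swap 0 1 * Equiv.swap 2 3
def p3 : Equiv.Perm (Fin 6) := Equiv.swap 0 1 * Equiv.swap 1 2
def p4 : Equiv.Perm (Fin 6) := Equiv.swap 0 1 * Equiv.swap 1 2 * Equiv.swap 2 3 * Equiv.swap 4 5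
def p5 : Equiv.Perm (Fin 6) := Equiv.swap 0 1 * Equiv.swap 1 2 * Equiv.swap 2 3 * Equiv.swap 3 4

theorem p2_mem : p2 ∈ alternatingGroup (Fin 6) := by
  rw [Equiv.Perm.mem_alternatingGroup]; decide +kernel
theorem p3_mem : p3 ∈ alternatingGroup (Fin 6) := by
  rw [Equiv.Perm.mem_alternatingGroup]; decide +kernel
theorem p4_mem : p4 ∈ alternatingGroup (Fin 6) := by
  rw [Equiv.Perm.mem_alternatingGroup]; decide +kernel
theorem p5_mem : p5 ∈ alternatingGroup (Fin 6) := by
  rw [Equiv.Perm.mem_alternatingGroup]; decide +kernel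

theorem p2_order : orderOf p2 = 2 := by
  have : Fact (Nat.Prime 2) := ⟨Nat.prime_two⟩
  exact orderOf_eq_prime (by decide +kernel) (by decide +kernel)
theorem p3_order : orderOf p3 = 3 := by
  have : Fact (Nat.Prime 3) := ⟨Nat.prime_three⟩
  exact orderOf_eq_prime (by decide +kernel) (by decide +kernel)
theorem p5_order : orderOf p5 = 5 := by
  have : Fact (Nat.Prime 5) := ⟨Nat.prime_five⟩
  exact orderOf_eq_prime (by decide +kernel) (by decide +kernel)
theorem p4_order : orderOf p4 = 4 := by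
  have : Fact (Nat.Prime 2) := ⟨Nat.prime_two⟩
  exact orderOf_eq_prime_pow (p := 2) (n := 1) (by decide +kernel) (by decide +kernel)

/-- The spectrum of the alternating group of degree six. -/
theorem spec_A6 : Set.range (orderOf : alternatingGroup (Fin 6) → ℕ) = ({1, 2, 3, 4, 5} : Set ℕ) := by
  apply Set.eq_of_subset_of_subset
  · rintro n ⟨x, rfl⟩
    rw [← Subgroup.orderOf_coe]
    apply orderOf_mem_of_pow
    exact a6_pow x.1 (Equiv.Perm.mem_alternatingGroup.mp x.2)
  · intro n hn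
    simp only [Set.mem_insert_iff, Set.mem_singleton_iff] at hn
    rcases hn with rfl | rfl | rfl | rfl | rfl
    · exact ⟨1, orderOf_one⟩
    · exact ⟨⟨p2, p2_mem⟩, by rw [← Subgroup.orderOf_coe]; exact p2_order⟩
    · exact ⟨⟨p3, p3_mem⟩, by rw [← Subgroup.orderOf_coe]; exact p3_order⟩
    · exact ⟨⟨p4, p4_mem⟩, by rw [← Subgroup.orderOf_coe]; exact p4_order⟩
    · exact ⟨⟨p5, p5_mem⟩, by rw [← Subgroup.orderOf_coe]; exact p5_order⟩

end Cfsg.Agent.Helper58
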