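import Mathlib
import Cfsg.Agent.Lib.Helper58.AffSL24

set_option autoImplicit false

namespace Cfsg.Agent.Helper58

open Matrix

section field
variable {F : Type*} [Field F]

theorem one_mem_affSet : (1 : Matrix.SpecialLinearGroup (Fin 3) F) ∈ affSet F := by
  simp [affSet]

theorem mul_mem_affSet {M N : Matrix.SpecialLinearGroup (Fin 3) F} (hM : M ∈ affSet F)
    (hN : N ∈ affSet F) : M * N ∈ affSet F := by
  obtain ⟨a0, a1, a2⟩ := hM
  obtain ⟨b0, b1, b2⟩ := hN
  refine ⟨?_, ?_, ?_⟩ <;>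
    simp [Matrix.mul_apply, Fin.sum_univ_three, a0, a1, a2, b0, b1, b2]

theorem inv_mem_affSet {M : Matrix.SpecialLinearGroup (Fin 3) F} (hM : M ∈ affSet F) :
    M⁻¹ ∈ affSet F := by
  obtain ⟨a0, a1, a2⟩ := hM
  have h : M * M⁻¹ = 1 := mul_inv_cancel M
  have hc : (M : Matrix (Fin 3) (Fin 3) F) * ((M⁻¹ : Matrix.SpecialLinearGroup (Fin 3) F) :
      Matrix (Fin 3) (Fin 3) F) = 1 := by
    rw [← Matrix.SpecialLinearGroup.coe_mul, h, Matrix.SpecialLinearGroup.coe_one]
  refine ⟨?_, ?_, ?_⟩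
  · have := congrFun (congrFun hc 2) 0
    simpa [Matrix.mul_apply, Fin.sum_univ_three, a0, a1, a2] using this
  · have := congrFun (congrFun hc 2) 1
    simpa [Matrix.mul_apply, Fin.sum_univ_three, a0, a1, a2] using this
  · have := congrFun (congrFun hc 2) 2
    simpa [Matrix.mul_apply, Fin.sum_univ_three, a0, a1, a2] using this

/-- the affine subgroup -/
def affSubgroup (F : Type*) [Field F] : Subgroup (Matrix.SpecialLinearGroup (Fin 3) F) where
  carrier := affSet F
  mul_mem' := mul_mem_affSet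
  one_mem' := one_mem_affSet
  inv_mem' := inv_mem_affSet

theorem closure_affSet : Subgroup.closure (affSet F) = affSubgroup F :=
  Subgroup.closure_eq (affSubgroup F)

theorem mem_affSet_of_mem_closure {M : Matrix.SpecialLinearGroup (Fin 3) F}
    (hM : M ∈ Subgroup.closure (affSet F)) : M ∈ affSet F := by
  rw [closure_affSet] at hM
  exact hM

/-- explicit elements -/
def el2 (F : Type*) [Field F] : Matrix.SpecialLinearGroup (Fin 3) F :=
  ⟨!![1, 0, 1; 0, 1, 0; 0, 0, 1], by simp [Matrix.det_fin_three]⟩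

def el3 (F : Type*) [Field F] : Matrix.SpecialLinearGroup (Fin 3) F :=
  ⟨!![0, -1, 0; 1, -1, 0; 0, 0, 1], by simp [Matrix.det_fin_three]⟩

def el4 (F : Type*) [Field F] : Matrix.SpecialLinearGroup (Fin 3) F :=
  ⟨!![1, 1, 0; 0, 1, 1; 0, 0, 1], by simp [Matrix.det_fin_three]⟩

def el5 {F : Type*} [Field F] (w : F) : Matrix.SpecialLinearGroup (Fin 3) F :=
  ⟨!![0, -1, 0; 1, w, 0; 0, 0, 1], by simp [Matrix.det_fin_three]⟩

theorem el2_mem : el2 F ∈ affSet F := by
  refine ⟨?_, ?_, ?_⟩ <;> simp [el2]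
theorem el3_mem : el3 F ∈ affSet F := by
  refine ⟨?_, ?_, ?_⟩ <;> simp [el3]
theorem el4_mem : el4 F ∈ affSet F := by
  refine ⟨?_, ?_, ?_⟩ <;> simp [el4]
theorem el5_mem (w : F) : el5 w ∈ affSet F := by
  refine ⟨?_, ?_, ?_⟩ <;> simp [el5]

theorem el2_ne_one : el2 F ≠ 1 := by
  intro h
  have := congrArg (fun M : Matrix.SpecialLinearGroup (Fin 3) F => (M : Matrix (Fin 3) (Fin 3) F) 0 2) h
  simp [el2] at this

theorem el3_ne_one : el3 F ≠ 1 := by
  intro h
  have := congrArg (fun M : Matrix.SpecialLinearGroup (Fin 3) F => (M : Matrix (Fin 3) (Fin 3) F) 1 0) h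
  simp [el3] at this

theorem el5_ne_one (w : F) : el5 w ≠ 1 := by
  intro h
  have := congrArg (fun M : Matrix.SpecialLinearGroup (Fin 3) F => (M : Matrix (Fin 3) (Fin 3) F) 1 0) h
  simp [el5] at this

theorem el2_sq (h2 : (2 : F) = 0) : el2 F ^ 2 = 1 := by
  apply Subtype.ext
  simp only [Matrix.SpecialLinearGroup.coe_pow, Matrix.SpecialLinearGroup.coe_one]
  ext i j
  fin_cases i <;> fin_cases j <;>
    simp [el2, pow_succ, Matrix.mul_apply, Fin.sum_univ_three]
  linear_combination h2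

theorem el4_sq_ne_one : ¬ el4 F ^ 2 = 1 := by
  intro h
  have h' := congrArg (fun M : Matrix.SpecialLinearGroup (Fin 3) F => (M : Matrix (Fin 3) (Fin 3) F)) h
  simp only [Matrix.SpecialLinearGroup.coe_pow, Matrix.SpecialLinearGroup.coe_one] at h'
  have := congrFun (congrFun h' 0) 2
  simp [el4, pow_succ, Matrix.mul_apply, Fin.sum_univ_three] at this

theorem el3_cube : el3 F ^ 3 = 1 := by
  apply pow_three_of_s0 el3_mem
  simp [sPar, el3]

theorem el4_pow_four (h2 : (2 : F) = 0) : el4 F ^ 4 = 1 := by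
  apply pow_four_of_s1 el4_mem
  simp only [sPar, el4]
  simp
  linear_combination h2

theorem el5_pow_five (h2 : (2 : F) = 0) {w : F} (hw : w ^ 2 + w + 1 = 0) : el5 w ^ 5 = 1 := by
  apply pow_five_of_s (el5_mem w)
  simp only [sPar, el5]
  simp
  linear_combination hw - h2

theorem el2_order (h2 : (2 : F) = 0) : orderOf (el2 F) = 2 := by
  have : Fact (Nat.Prime 2) := ⟨Nat.prime_two⟩
  exact orderOf_eq_prime (el2_sq h2) el2_ne_one

theorem el3_order : orderOf (el3 F) = 3 := by
  have : Fact (Nat.Prime 3) := ⟨Nat.prime_three⟩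
  exact orderOf_eq_prime el3_cube el3_ne_one

theorem el4_order (h2 : (2 : F) = 0) : orderOf (el4 F) = 4 := by
  have : Fact (Nat.Prime 2) := ⟨Nat.prime_two⟩
  exact orderOf_eq_prime_pow (p := 2) (n := 1) (by simpa using el4_sq_ne_one)
    (by simpa using el4_pow_four h2)

theorem el5_order (h2 : (2 : F) = 0) {w : F} (hw : w ^ 2 + w + 1 = 0) : orderOf (el5 w) = 5 := by
  have : Fact (Nat.Prime 5) := ⟨Nat.prime_five⟩
  exact orderOf_eq_prime (el5_pow_five h2 hw) (el5_ne_one w)

end field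

/-- the spectrum of the affine group over the field with four elements -/
theorem spec_aff {F : Type*} [Field F] [Fintype F] (hF : Fintype.card F = 4) :
    Set.range (orderOf : Subgroup.closure (affSet F) → ℕ) = ({1, 2, 3, 4, 5} : Set ℕ) := by
  have h2 := two_eq_zero_of_card hF
  obtain ⟨w, hw⟩ := exists_omega hF
  apply Set.eq_of_subset_of_subset
  · rintro n ⟨x, rfl⟩
    rw [← Subgroup.orderOf_coe]
    apply orderOf_mem_of_pow
    have hx := mem_affSet_of_mem_closure x.2
    rcases pow_cases hF hx with h | h | h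
    · exact Or.inl h.2
    · exact Or.inr (Or.inl h.2)
    · exact Or.inr (Or.inr h.2)
  · intro n hn
    simp only [Set.mem_insert_iff, Set.mem_singleton_iff] at hn
    rcases hn with rfl | rfl | rfl | rfl | rfl
    · exact ⟨1, orderOf_one⟩
    · exact ⟨⟨el2 F, Subgroup.subset_closure el2_mem⟩, by
        rw [← Subgroup.orderOf_coe]; exact el2_order h2⟩
    · exact ⟨⟨el3 F, Subgroup.subset_closure el3_mem⟩, by
        rw [← Subgroup.orderOf_coe]; exact el3_order⟩
    · exact ⟨⟨el4 F, Subgroup.subset_closure el4_mem⟩, by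
        rw [← Subgroup.orderOf_coe]; exact el4_order h2⟩
    · exact ⟨⟨el5 w, Subgroup.subset_closure (el5_mem w)⟩, by
        rw [← Subgroup.orderOf_coe]; exact el5_order h2 hw⟩

end Cfsg.Agent.Helper58
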