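import Mathlib
import Cfsg.Agent.Lib.Helper58.AffSL24
import Cfsg.Agent.Lib.Helper58.AffElems

set_option autoImplicit false

namespace Cfsg.Agent.Helper58

open Matrix

section field
variable {F : Type*} [Field F]

/-- upper-left block -/
def blk (M : Matrix.SpecialLinearGroup (Fin 3) F) : Matrix (Fin 2) (Fin 2) F :=
  Matrix.of fun a b => (M : Matrix (Fin 3) (Fin 3) F) a.castSucc b.castSucc

theorem blk_mul (M : Matrix.SpecialLinearGroup (Fin 3) F) {N : Matrix.SpecialLinearGroup (Fin 3) F}
    (hN : N ∈ affSet F) : blk (M * N) = blk M * blk N := by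
  obtain ⟨b0, b1, b2⟩ := hN
  ext a b
  fin_cases a <;> fin_cases b <;>
    simp [blk, Matrix.mul_apply, Fin.sum_univ_three, Fin.sum_univ_two, b0, b1]

theorem blk_one : blk (1 : Matrix.SpecialLinearGroup (Fin 3) F) = 1 := by
  ext a b
  fin_cases a <;> fin_cases b <;> simp [blk]

theorem blk_inv {M : Matrix.SpecialLinearGroup (Fin 3) F} (hM : M ∈ affSet F) :
    blk M⁻¹ = (blk M)⁻¹ := by
  have h := blk_mul M (inv_mem_affSet hM)
  rw [mul_inv_cancel, blk_one] at h
  exact (Matrix.inv_eq_right_inv h.symm).symm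

theorem sPar_eq_of_blk {M N : Matrix.SpecialLinearGroup (Fin 3) F} (h : blk M = blk N) :
    sPar M = sPar N := by
  have h00 := congrFun (congrFun h 0) 0
  have h11 := congrFun (congrFun h 1) 1
  simp only [blk, Matrix.of_apply] at h00 h11
  simp only [sPar]
  have e0 : (Fin.castSucc (0 : Fin 2) : Fin 3) = 0 := rfl
  have e1 : (Fin.castSucc (1 : Fin 2) : Fin 3) = 1 := rfl
  rw [e0] at h00
  rw [e1] at h11
  rw [h00, h11]

/-- the big group -/
def bigH (F : Type*) [Field F] (k : ℕ) : Subgroup (Fin k → Matrix.SpecialLinearGroup (Fin 3) F) where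
  carrier := {m | (∀ i, m i ∈ affSet F) ∧ ∀ i j, blk (m i) = blk (m j)}
  mul_mem' := by
    rintro m n ⟨hm1, hm2⟩ ⟨hn1, hn2⟩
    refine ⟨fun i => mul_mem_affSet (hm1 i) (hn1 i), fun i j => ?_⟩
    simp only [Pi.mul_apply]
    rw [blk_mul _ (hn1 i), blk_mul _ (hn1 j), hm2 i j, hn2 i j]
  one_mem' := ⟨fun _ => one_mem_affSet, fun _ _ => rfl⟩
  inv_mem' := by
    rintro m ⟨hm1, hm2⟩
    refine ⟨fun i => inv_mem_affSet (hm1 i), fun i j => ?_⟩
    simp only [Pi.inv_apply]
    rw [blk_inv (hm1 i), blk_inv (hm1 j), hm2 i j]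

theorem mem_bigH {k : ℕ} {m : Fin k → Matrix.SpecialLinearGroup (Fin 3) F} :
    m ∈ bigH F k ↔ (∀ i, m i ∈ affSet F) ∧ ∀ i j, blk (m i) = blk (m j) := Iff.rfl

theorem const_mem_bigH {k : ℕ} {M : Matrix.SpecialLinearGroup (Fin 3) F} (hM : M ∈ affSet F) :
    (fun _ : Fin k => M) ∈ bigH F k := ⟨fun _ => hM, fun _ _ => rfl⟩

theorem orderOf_const {G : Type*} [Group G] (k : ℕ) (x : G) :
    orderOf (fun _ : Fin (k + 1) => x) = orderOf x := by
  rw [orderOf_eq_orderOf_iff]
  intro n
  constructor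
  · intro h
    have := congrFun h 0
    simpa using this
  · intro h
    funext i
    simp [h]

/-- translations -/
def transl (x : F) : Matrix.SpecialLinearGroup (Fin 3) F :=
  ⟨!![1, 0, x; 0, 1, 0; 0, 0, 1], by simp [Matrix.det_fin_three]⟩

theorem transl_mem (x : F) : transl x ∈ affSet F := by
  refine ⟨?_, ?_, ?_⟩ <;> simp [transl]

theorem blk_transl (x : F) : blk (transl x) = 1 := by
  ext a b
  fin_cases a <;> fin_cases b <;> simp [blk, transl]

theorem transl_injective : Function.Injective (transl : F → Matrix.SpecialLinearGroup (Fin 3) F) := by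
  intro x y h
  have := congrArg (fun M : Matrix.SpecialLinearGroup (Fin 3) F => (M : Matrix (Fin 3) (Fin 3) F) 0 2) h
  simpa [transl] using this

theorem transl_fun_mem {k : ℕ} (c : Fin k → F) : (fun i => transl (c i)) ∈ bigH F k :=
  ⟨fun i => transl_mem (c i), fun i j => by rw [blk_transl, blk_transl]⟩

end field

theorem card_bigH_ge {F : Type*} [Field F] [Finite F] (k : ℕ) :
    Nat.card F ^ k ≤ Nat.card (bigH F k) := by
  have h1 : Nat.card (Fin k → F) = Nat.card F ^ k := by
    rw [Nat.card_fun, Nat.card_fin]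
  rw [← h1]
  apply Nat.card_le_card_of_injective (fun c : Fin k → F => (⟨fun i => transl (c i), transl_fun_mem c⟩ : bigH F k))
  intro c d h
  have h' := congrArg Subtype.val h
  funext i
  exact transl_injective (congrFun h' i)

theorem spec_bigH {F : Type*} [Field F] [Fintype F] (hF : Fintype.card F = 4) (k : ℕ) :
    Set.range (orderOf : bigH F (k + 1) → ℕ) = ({1, 2, 3, 4, 5} : Set ℕ) := by
  have h2 := two_eq_zero_of_card hF
  obtain ⟨w, hw⟩ := exists_omega hF
  apply Set.eq_of_subset_of_subset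
  · rintro n ⟨⟨m, hm1, hm2⟩, rfl⟩
    rw [← Subgroup.orderOf_coe]
    apply orderOf_mem_of_pow
    have hs : ∀ i, sPar (m i) = sPar (m 0) := fun i => sPar_eq_of_blk (hm2 i 0)
    rcases trichotomy hF (sPar (m 0)) with h | h | h
    · left
      funext i
      exact pow_three_of_s0 (hm1 i) ((hs i).trans h)
    · right; left
      funext i
      exact pow_four_of_s1 (hm1 i) ((hs i).trans h)
    · right; right
      funext i
      apply pow_five_of_s (hm1 i)
      rw [hs i]
      linear_combination h - (sPar (m 0) + 1) * h2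
  · intro n hn
    simp only [Set.mem_insert_iff, Set.mem_singleton_iff] at hn
    rcases hn with rfl | rfl | rfl | rfl | rfl
    · exact ⟨1, orderOf_one⟩
    · exact ⟨⟨_, const_mem_bigH el2_mem⟩, by
        rw [← Subgroup.orderOf_coe]; exact (orderOf_const (G := Matrix.SpecialLinearGroup (Fin 3) F) k (el2 F)).trans (el2_order h2)⟩
    · exact ⟨⟨_, const_mem_bigH el3_mem⟩, by
        rw [← Subgroup.orderOf_coe]; exact (orderOf_const (G := Matrix.SpecialLinearGroup (Fin 3) F) k (el3 F)).trans el3_order⟩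
    · exact ⟨⟨_, const_mem_bigH el4_mem⟩, by
        rw [← Subgroup.orderOf_coe]; exact (orderOf_const (G := Matrix.SpecialLinearGroup (Fin 3) F) k (el4 F)).trans (el4_order h2)⟩
    · exact ⟨⟨_, const_mem_bigH (el5_mem w)⟩, by
        rw [← Subgroup.orderOf_coe]; exact (orderOf_const (G := Matrix.SpecialLinearGroup (Fin 3) F) k (el5 w)).trans (el5_order h2 hw)⟩

/-- arbitrarily large finite groups with spectrum `{1,2,3,4,5}` -/
theorem exists_large_spec (N : ℕ) : ∃ (H : Type) (_ : Group H) (_ : Fintype H),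
    N < Fintype.card H ∧ Set.range (orderOf : H → ℕ) = ({1, 2, 3, 4, 5} : Set ℕ) := by
  have : Fact (Nat.Prime 2) := ⟨Nat.prime_two⟩
  let F := GaloisField 2 2
  let _ : Fintype F := Fintype.ofFinite F
  have hF : Fintype.card F = 4 := by
    rw [← Nat.card_eq_fintype_card, GaloisField.card 2 2 (by norm_num)]
    norm_num
  refine ⟨bigH F (N + 1), inferInstance, Fintype.ofFinite _, ?_, spec_bigH hF N⟩
  rw [Fintype.card_eq_nat_card]
  have h1 := card_bigH_ge (F := F) (N + 1)
  have h2 : Nat.card F = 4 := by rw [Nat.card_eq_fintype_card, hF]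
  rw [h2] at h1
  have h3 : N + 1 < 4 ^ (N + 1) := Nat.lt_pow_self (by norm_num)
  omega

end Cfsg.Agent.Helper58
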