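import Mathlib

set_option autoImplicit false

namespace Cfsg.Agent.Helper58

open Polynomial

/-- In `(ZMod p)[X]`: `∑_{i<p^j} X^i = (X-1)^(p^j-1)`. -/
theorem geom_sum_X_eq (p : ℕ) [Fact p.Prime] (j : ℕ) :
    (∑ i ∈ Finset.range (p ^ j), (X : (ZMod p)[X]) ^ i) = (X - 1) ^ (p ^ j - 1) := by
  have hp : p.Prime := Fact.out
  have h1 : (∑ i ∈ Finset.range (p ^ j), (X : (ZMod p)[X]) ^ i) * (X - 1) = X ^ (p ^ j) - 1 :=
    geom_sum_mul X _
  have h2 : ((X : (ZMod p)[X]) - 1) ^ (p ^ j) = X ^ (p ^ j) - 1 := by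
    rw [sub_pow_char_pow, one_pow]
  have h3 : ((X : (ZMod p)[X]) - 1) ^ (p ^ j) = (X - 1) ^ (p ^ j - 1) * (X - 1) := by
    rw [← pow_succ, Nat.sub_add_cancel (Nat.one_le_pow _ _ hp.pos)]
  have hne : (X : (ZMod p)[X]) - 1 ≠ 0 := by
    have := X_sub_C_ne_zero (1 : ZMod p)
    simpa using this
  exact mul_right_cancel₀ hne (by rw [h1, ← h2, h3])

theorem geom_sum_end_eq_zero (p : ℕ) [Fact p.Prime] {M : Type*} [AddCommGroup M]
    [Module (ZMod p) M] [Finite M]
    (T : Module.End (ZMod p) M) (m j s : ℕ) (hcard : Nat.card M = p ^ m)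
    (hT : T ^ (p ^ s) = 1) (hm : m < p ^ j) :
    ∑ i ∈ Finset.range (p ^ j), T ^ i = 0 := by
  have hp : p.Prime := Fact.out
  have hnil : IsNilpotent (T - 1) := by
    refine ⟨p ^ s, ?_⟩
    have h2 : ((X : (ZMod p)[X]) - 1) ^ (p ^ s) = X ^ (p ^ s) - 1 := by
      rw [sub_pow_char_pow, one_pow]
    have := congrArg (aeval T) h2
    simpa [hT] using this
  have hfr : Module.finrank (ZMod p) M = m := by
    have : Fintype M := Fintype.ofFinite M
    have h := Module.card_eq_pow_finrank (K := ZMod p) (V := M)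
    rw [ZMod.card, ← Nat.card_eq_fintype_card, hcard] at h
    exact (Nat.pow_right_injective hp.two_le h).symm
  have h0 : (T - 1) ^ m = 0 := by
    have h := LinearMap.aeval_self_charpoly (T - 1)
    rw [hnil.charpoly_eq_X_pow_finrank, hfr] at h
    simpa using h
  have h4 := congrArg (aeval T) (geom_sum_X_eq p j)
  simp only [map_sum, map_pow, aeval_X, map_sub, map_one] at h4
  rw [h4]
  have : p ^ j - 1 = m + (p ^ j - 1 - m) := by omega
  rw [this, pow_add, h0, zero_mul]

theorem prod_pow_aut_eq_one_aux (p : ℕ) [Fact p.Prime] {A : Type*} [CommGroup A] [Finite A]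
    [Module (ZMod p) (Additive A)] (φ : MulAut A) (m j s : ℕ) (hcard : Nat.card A = p ^ m)
    (hφ : φ ^ (p ^ s) = 1) (hm : m < p ^ j) (a : A) :
    ∏ i ∈ Finset.range (p ^ j), (φ ^ i) a = 1 := by
  let T : Module.End (ZMod p) (Additive A) :=
    AddMonoidHom.toZModLinearMap p (MonoidHom.toAdditive φ.toMonoidHom)
  have hTi : ∀ (i : ℕ) (x : A), (T ^ i) (Additive.ofMul x) = Additive.ofMul ((φ ^ i) x) := by
    intro i
    induction i with
    | zero => intro x; simp
    | succ i ih =>
      intro x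
      rw [pow_succ, Module.End.mul_apply, pow_succ]
      have : T (Additive.ofMul x) = Additive.ofMul (φ x) := rfl
      rw [this, ih]
      rfl
  have hT : T ^ (p ^ s) = 1 := by
    ext x
    induction x using Additive.rec with
    | ofMul a => rw [hTi, hφ]; rfl
  have hcard' : Nat.card (Additive A) = p ^ m := hcard
  have h := geom_sum_end_eq_zero p T m j s hcard' hT hm
  have h2 := congrArg (fun f : Module.End (ZMod p) (Additive A) => f (Additive.ofMul a)) h
  simp only [LinearMap.sum_apply, hTi, LinearMap.zero_apply] at h2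
  rw [← ofMul_prod] at h2
  exact h2

theorem prod_pow_aut_eq_one (p : ℕ) [Fact p.Prime] {A : Type*} [CommGroup A] [Finite A]
    (hA : ∀ a : A, a ^ p = 1) (φ : MulAut A) (m j s : ℕ) (hcard : Nat.card A = p ^ m)
    (hφ : φ ^ (p ^ s) = 1) (hm : m < p ^ j) (a : A) :
    ∏ i ∈ Finset.range (p ^ j), (φ ^ i) a = 1 := by
  let _inst : Module (ZMod p) (Additive A) :=
    AddCommGroup.zmodModule (n := p) (G := Additive A) (fun x => by
      induction x using Additive.rec with
      | ofMul a => rw [← ofMul_pow, hA]; rfl)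
  exact prod_pow_aut_eq_one_aux p φ m j s hcard hφ hm a

end Cfsg.Agent.Helper58
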