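import Mathlib

/-!
# C3 (QW) core for helper32's server (S4415): the weights of a four-group on an `F_3`-module,
in terms of three commuting involutions `A₁ A₂ A₃` permuted cyclically by `B`, `B³ = 1`,
`rank (B - 1) = 2`.
-/

set_option autoImplicit false

namespace Cfsg.Agent.Helper58.C3

universe v

section core

variable {V : Type v} [AddCommGroup V] [Module (ZMod 3) V]

theorem h58_three (v : V) : v + v + v = 0 := by
  have h : ((1 : ZMod 3) + 1 + 1) • v = 0 := by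
    have : ((1 : ZMod 3) + 1 + 1) = 0 := by decide
    rw [this, zero_smul]
  rw [add_smul, add_smul, one_smul] at h
  exact h

/-- the joint eigenvectors of `A₁ A₂ A₃` with signs `s₁ s₂ s₃` -/
def h58I (A₁ A₂ A₃ : V →ₗ[ZMod 3] V) (s₁ s₂ s₃ : ZMod 3) (v : V) : Prop :=
  A₁ v = s₁ • v ∧ A₂ v = s₂ • v ∧ A₃ v = s₃ • v

theorem h58I_smul {A₁ A₂ A₃ : V →ₗ[ZMod 3] V} {s₁ s₂ s₃ : ZMod 3} {v : V}
    (h : h58I A₁ A₂ A₃ s₁ s₂ s₃ v) (c : ZMod 3) : h58I A₁ A₂ A₃ s₁ s₂ s₃ (c • v) := by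
  obtain ⟨h1, h2, h3⟩ := h
  refine ⟨?_, ?_, ?_⟩
  · rw [map_smul, h1, smul_comm]
  · rw [map_smul, h2, smul_comm]
  · rw [map_smul, h3, smul_comm]

theorem h58I_zero {A₁ A₂ A₃ : V →ₗ[ZMod 3] V} {s₁ s₂ s₃ : ZMod 3} :
    h58I A₁ A₂ A₃ s₁ s₂ s₃ (0 : V) := by
  refine ⟨?_, ?_, ?_⟩ <;> simp

theorem h58I_add {A₁ A₂ A₃ : V →ₗ[ZMod 3] V} {s₁ s₂ s₃ : ZMod 3} {v w : V}
    (h : h58I A₁ A₂ A₃ s₁ s₂ s₃ v) (h' : h58I A₁ A₂ A₃ s₁ s₂ s₃ w) :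
    h58I A₁ A₂ A₃ s₁ s₂ s₃ (v + w) := by
  obtain ⟨h1, h2, h3⟩ := h
  obtain ⟨h1', h2', h3'⟩ := h'
  refine ⟨?_, ?_, ?_⟩
  · rw [map_add, h1, h1', smul_add]
  · rw [map_add, h2, h2', smul_add]
  · rw [map_add, h3, h3', smul_add]

theorem h58I_sub {A₁ A₂ A₃ : V →ₗ[ZMod 3] V} {s₁ s₂ s₃ : ZMod 3} {v w : V}
    (h : h58I A₁ A₂ A₃ s₁ s₂ s₃ v) (h' : h58I A₁ A₂ A₃ s₁ s₂ s₃ w) :
    h58I A₁ A₂ A₃ s₁ s₂ s₃ (v - w) := by
  obtain ⟨h1, h2, h3⟩ := h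
  obtain ⟨h1', h2', h3'⟩ := h'
  refine ⟨?_, ?_, ?_⟩
  · rw [map_sub, h1, h1', smul_sub]
  · rw [map_sub, h2, h2', smul_sub]
  · rw [map_sub, h3, h3', smul_sub]

/-- `B` rotates the signs. -/
theorem h58I_B {A₁ A₂ A₃ B : V →ₗ[ZMod 3] V}
    (b1 : ∀ v, B (A₁ v) = A₂ (B v)) (b2 : ∀ v, B (A₂ v) = A₃ (B v))
    (b3 : ∀ v, B (A₃ v) = A₁ (B v)) {s₁ s₂ s₃ : ZMod 3} {v : V}
    (h : h58I A₁ A₂ A₃ s₁ s₂ s₃ v) : h58I A₁ A₂ A₃ s₃ s₁ s₂ (B v) := by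
  obtain ⟨h1, h2, h3⟩ := h
  refine ⟨?_, ?_, ?_⟩
  · rw [← b3, h3, map_smul]
  · rw [← b1, h1, map_smul]
  · rw [← b2, h2, map_smul]

/-- separation of the four joint eigenspaces -/
theorem h58I_sep {A₁ A₂ A₃ : V →ₗ[ZMod 3] V} {x₀ x₁ x₂ x₃ : V}
    (h0 : h58I A₁ A₂ A₃ 1 1 1 x₀) (h1 : h58I A₁ A₂ A₃ 1 (-1) (-1) x₁)
    (h2 : h58I A₁ A₂ A₃ (-1) 1 (-1) x₂) (h3 : h58I A₁ A₂ A₃ (-1) (-1) 1 x₃)
    (E : x₀ + x₁ + x₂ + x₃ = 0) : x₀ = 0 ∧ x₁ = 0 ∧ x₂ = 0 ∧ x₃ = 0 := by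
  have E1 := congrArg A₁ E
  have E2 := congrArg A₂ E
  have E3 := congrArg A₃ E
  simp only [map_add, map_zero, h0.1, h1.1, h2.1, h3.1, one_smul, neg_smul] at E1
  simp only [map_add, map_zero, h0.2.1, h1.2.1, h2.2.1, h3.2.1, one_smul, neg_smul] at E2
  simp only [map_add, map_zero, h0.2.2, h1.2.2, h2.2.2, h3.2.2, one_smul, neg_smul] at E3
  have t0 := h58_three x₀
  have t1 := h58_three x₁
  have t2 := h58_three x₂
  have t3 := h58_three x₃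
  refine ⟨?_, ?_, ?_, ?_⟩
  · linear_combination (norm := abel) E + E1 + E2 + E3 - t0
  · linear_combination (norm := abel) E + E1 - E2 - E3 - t1
  · linear_combination (norm := abel) E - E1 + E2 - E3 - t2
  · linear_combination (norm := abel) E - E1 - E2 + E3 - t3

/-- three vectors in the range of an operator of rank two are dependent -/
theorem h58_dep_of_rank_two [Module.Finite (ZMod 3) V] (N : V →ₗ[ZMod 3] V)
    (hr : Module.finrank (ZMod 3) (LinearMap.range N) = 2) (w : Fin 3 → V)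
    (hw : ∀ i, w i ∈ LinearMap.range N) : ¬ LinearIndependent (ZMod 3) w := by
  intro hli
  have h1 := finrank_span_eq_card hli
  have h2 : Submodule.span (ZMod 3) (Set.range w) ≤ LinearMap.range N := by
    rw [Submodule.span_le]
    rintro _ ⟨i, rfl⟩
    exact hw i
  have h3 := Submodule.finrank_mono h2
  rw [h1, hr] at h3
  simp at h3

end core

end Cfsg.Agent.Helper58.C3
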