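import Mathlib
import Cfsg.Agent.Lib.Helper58.C3QWCore

/-!
# C3 (QW) core, part 2: the weight vectors.
-/

set_option autoImplicit false
set_option maxHeartbeats 800000

namespace Cfsg.Agent.Helper58.C3

universe v

section core2

variable {V : Type v} [AddCommGroup V] [Module (ZMod 3) V]

theorem h58_weights_core [Module.Finite (ZMod 3) V]
    (A₁ A₂ A₃ B : V →ₗ[ZMod 3] V)
    (a11 : ∀ v, A₁ (A₁ v) = v) (a22 : ∀ v, A₂ (A₂ v) = v) (a33 : ∀ v, A₃ (A₃ v) = v)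
    (a12 : ∀ v, A₁ (A₂ v) = A₃ v) (a21 : ∀ v, A₂ (A₁ v) = A₃ v)
    (a23 : ∀ v, A₂ (A₃ v) = A₁ v) (a32 : ∀ v, A₃ (A₂ v) = A₁ v)
    (a13 : ∀ v, A₁ (A₃ v) = A₂ v) (a31 : ∀ v, A₃ (A₁ v) = A₂ v)
    (b1 : ∀ v, B (A₁ v) = A₂ (B v)) (b2 : ∀ v, B (A₂ v) = A₃ (B v))
    (b3 : ∀ v, B (A₃ v) = A₁ (B v))
    (bbb : ∀ v, B (B (B v)) = v)
    (hne : ∃ v, A₁ v ≠ v)
    (hr : Module.finrank (ZMod 3) (LinearMap.range (B - 1)) = 2) :
    ∃ v₁ v₂ v₃ : V, LinearIndependent (ZMod 3) ![v₁, v₂, v₃] ∧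
      (B v₁ = v₂ ∧ B v₂ = v₃ ∧ B v₃ = v₁) ∧
      h58I A₁ A₂ A₃ 1 (-1) (-1) v₁ ∧ h58I A₁ A₂ A₃ (-1) 1 (-1) v₂ ∧
      h58I A₁ A₂ A₃ (-1) (-1) 1 v₃ ∧
      (∀ v, h58I A₁ A₂ A₃ 1 1 1 v → B v = v) ∧
      (∀ v, ∃ u w, v = u + w ∧ h58I A₁ A₂ A₃ 1 1 1 u ∧
        w ∈ Submodule.span (ZMod 3) ({v₁, v₂, v₃} : Set V)) ∧
      (∀ v, A₁ v - v ∈ Submodule.span (ZMod 3) ({v₁, v₂, v₃} : Set V) ∧
        A₂ v - v ∈ Submodule.span (ZMod 3) ({v₁, v₂, v₃} : Set V) ∧
        A₃ v - v ∈ Submodule.span (ZMod 3) ({v₁, v₂, v₃} : Set V)) ∧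
      (∀ v, h58I A₁ A₂ A₃ 1 1 1 v →
        v ∈ Submodule.span (ZMod 3) ({v₁, v₂, v₃} : Set V) → v = 0) := by
  classical
  -- the four projections
  have hp0 : ∀ v, h58I A₁ A₂ A₃ 1 1 1 (v + A₁ v + A₂ v + A₃ v) := by
    intro v
    refine ⟨?_, ?_, ?_⟩ <;>
      simp only [map_add, a11, a12, a13, a21, a22, a23, a31, a32, a33, one_smul] <;> abel
  have hp1 : ∀ v, h58I A₁ A₂ A₃ 1 (-1) (-1) (v + A₁ v - A₂ v - A₃ v) := by
    intro v
    refine ⟨?_, ?_, ?_⟩ <;>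
      simp only [map_add, map_sub, a11, a12, a13, a21, a22, a23, a31, a32, a33, one_smul,
        neg_smul] <;> abel
  have hp2 : ∀ v, h58I A₁ A₂ A₃ (-1) 1 (-1) (v - A₁ v + A₂ v - A₃ v) := by
    intro v
    refine ⟨?_, ?_, ?_⟩ <;>
      simp only [map_add, map_sub, a11, a12, a13, a21, a22, a23, a31, a32, a33, one_smul,
        neg_smul] <;> abel
  have hp3 : ∀ v, h58I A₁ A₂ A₃ (-1) (-1) 1 (v - A₁ v - A₂ v + A₃ v) := by
    intro v
    refine ⟨?_, ?_, ?_⟩ <;>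
      simp only [map_add, map_sub, a11, a12, a13, a21, a22, a23, a31, a32, a33, one_smul,
        neg_smul] <;> abel
  have hsum : ∀ v : V, v = (v + A₁ v + A₂ v + A₃ v) + (v + A₁ v - A₂ v - A₃ v) +
      (v - A₁ v + A₂ v - A₃ v) + (v - A₁ v - A₂ v + A₃ v) := by
    intro v
    linear_combination (norm := abel) - h58_three v
  have hB := fun {s₁ s₂ s₃ : ZMod 3} {v : V} (h : h58I A₁ A₂ A₃ s₁ s₂ s₃ v) =>
    h58I_B (B := B) b1 b2 b3 h
  -- a nonzero vector of type 1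
  have hex : ∃ x, h58I A₁ A₂ A₃ 1 (-1) (-1) x ∧ x ≠ 0 := by
    by_contra hcon
    have h1 : ∀ x, h58I A₁ A₂ A₃ 1 (-1) (-1) x → x = 0 := by
      intro x hx
      by_contra hx0
      exact hcon ⟨x, hx, hx0⟩
    have h2 : ∀ y, h58I A₁ A₂ A₃ (-1) 1 (-1) y → y = 0 := by
      intro y hy
      have := h1 _ (hB (hB hy))
      rw [← bbb y, this, map_zero]
    have h3 : ∀ z, h58I A₁ A₂ A₃ (-1) (-1) 1 z → z = 0 := by
      intro z hz
      have := h1 _ (hB hz)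
      rw [← bbb z, this, map_zero, map_zero]
    obtain ⟨v, hv⟩ := hne
    apply hv
    have e := hsum v
    rw [h1 _ (hp1 v), h2 _ (hp2 v), h3 _ (hp3 v), add_zero, add_zero, add_zero] at e
    have := (hp0 v).1
    rw [← e, one_smul] at this
    exact this
  obtain ⟨v₁, hv₁, hv₁0⟩ := hex
  have hv₂ : h58I A₁ A₂ A₃ (-1) 1 (-1) (B v₁) := hB hv₁
  have hv₃ : h58I A₁ A₂ A₃ (-1) (-1) 1 (B (B v₁)) := hB hv₂
  have hv₂0 : B v₁ ≠ 0 := by
    intro h0
    apply hv₁0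
    rw [← bbb v₁, h0, map_zero, map_zero]
  have hv₃0 : B (B v₁) ≠ 0 := by
    intro h0
    apply hv₁0
    rw [← bbb v₁, h0, map_zero]
  -- dimension one
  have hdim1 : ∀ x, h58I A₁ A₂ A₃ 1 (-1) (-1) x → ∃ c : ZMod 3, x = c • v₁ := by
    intro x hx
    have hw : ∀ i, (![B v₁ - v₁, B x - x, B (B v₁) - B v₁] : Fin 3 → V) i ∈
        LinearMap.range (B - 1) := by
      intro i
      fin_cases i
      · exact ⟨v₁, by simp⟩
      · exact ⟨x, by simp⟩
      · exact ⟨B v₁, by simp⟩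
    have hdep := h58_dep_of_rank_two (B - 1) hr _ hw
    rw [Fintype.not_linearIndependent_iff] at hdep
    obtain ⟨g, hg, i, hi⟩ := hdep
    simp only [Fin.sum_univ_three, Matrix.cons_val_zero, Matrix.cons_val_one,
      Matrix.cons_val_two, Matrix.head_cons, Matrix.tail_cons] at hg
    have hsep := h58I_sep (A₁ := A₁) (A₂ := A₂) (A₃ := A₃) (x₀ := 0)
      (x₁ := (-(g 0)) • v₁ + (-(g 1)) • x)
      (x₂ := (g 0 - g 2) • B v₁ + g 1 • B x) (x₃ := g 2 • B (B v₁))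
      h58I_zero (h58I_add (h58I_smul hv₁ _) (h58I_smul hx _))
      (h58I_add (h58I_smul hv₂ _) (h58I_smul (hB hx) _)) (h58I_smul hv₃ _)
      (by linear_combination (norm := module) hg)
    obtain ⟨-, e1, -, e3⟩ := hsep
    have g2 : g 2 = 0 := by
      rcases smul_eq_zero.mp e3 with h | h
      · exact h
      · exact absurd h hv₃0
    by_cases g1 : g 1 = 0
    · exfalso
      rw [g1, neg_zero, zero_smul, add_zero] at e1
      have g0 : g 0 = 0 := by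
        rcases smul_eq_zero.mp e1 with h | h
        · exact neg_eq_zero.mp h
        · exact absurd h hv₁0
      fin_cases i
      · exact hi g0
      · exact hi g1
      · exact hi g2
    · refine ⟨-((g 1)⁻¹ * g 0), ?_⟩
      have e1' : g 1 • x = -(g 0 • v₁) := by
        linear_combination (norm := module) (-1 : ZMod 3) • e1
      calc x = (g 1)⁻¹ • (g 1 • x) := by rw [smul_smul, inv_mul_cancel₀ g1, one_smul]
        _ = (g 1)⁻¹ • (-(g 0 • v₁)) := by rw [e1']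
        _ = (-((g 1)⁻¹ * g 0)) • v₁ := by module
  have hdim2 : ∀ y, h58I A₁ A₂ A₃ (-1) 1 (-1) y → ∃ c : ZMod 3, y = c • B v₁ := by
    intro y hy
    obtain ⟨c, hc⟩ := hdim1 _ (hB (hB hy))
    refine ⟨c, ?_⟩
    rw [← bbb y, hc, map_smul]
  have hdim3 : ∀ z, h58I A₁ A₂ A₃ (-1) (-1) 1 z → ∃ c : ZMod 3, z = c • B (B v₁) := by
    intro z hz
    obtain ⟨c, hc⟩ := hdim1 _ (hB hz)
    refine ⟨c, ?_⟩
    rw [← bbb z, hc, map_smul, map_smul]
  refine ⟨v₁, B v₁, B (B v₁), ?_, ⟨rfl, rfl, bbb v₁⟩, hv₁, hv₂, hv₃, ?_, ?_, ?_, ?_⟩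
  · -- linear independence
    rw [Fintype.linearIndependent_iff]
    intro g hg
    simp only [Fin.sum_univ_three, Matrix.cons_val_zero, Matrix.cons_val_one,
      Matrix.cons_val_two, Matrix.head_cons, Matrix.tail_cons] at hg
    have hsep := h58I_sep (A₁ := A₁) (A₂ := A₂) (A₃ := A₃) (x₀ := 0)
      h58I_zero (h58I_smul hv₁ (g 0)) (h58I_smul hv₂ (g 1)) (h58I_smul hv₃ (g 2))
      (by rw [zero_add]; exact hg)
    obtain ⟨-, e1, e2, e3⟩ := hsep
    intro i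
    fin_cases i
    · rcases smul_eq_zero.mp e1 with h | h
      · exact h
      · exact absurd h hv₁0
    · rcases smul_eq_zero.mp e2 with h | h
      · exact h
      · exact absurd h hv₂0
    · rcases smul_eq_zero.mp e3 with h | h
      · exact h
      · exact absurd h hv₃0
  · -- `B` is trivial on the fixed space
    intro v hv
    have hBv : h58I A₁ A₂ A₃ 1 1 1 (B v) := hB hv
    have hw : ∀ i, (![B v - v, B v₁ - v₁, B (B v₁) - B v₁] : Fin 3 → V) i ∈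
        LinearMap.range (B - 1) := by
      intro i
      fin_cases i
      · exact ⟨v, by simp⟩
      · exact ⟨v₁, by simp⟩
      · exact ⟨B v₁, by simp⟩
    have hdep := h58_dep_of_rank_two (B - 1) hr _ hw
    rw [Fintype.not_linearIndependent_iff] at hdep
    obtain ⟨g, hg, i, hi⟩ := hdep
    simp only [Fin.sum_univ_three, Matrix.cons_val_zero, Matrix.cons_val_one,
      Matrix.cons_val_two, Matrix.head_cons, Matrix.tail_cons] at hg
    have hsep := h58I_sep (A₁ := A₁) (A₂ := A₂) (A₃ := A₃) (x₀ := g 0 • (B v - v))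
      (x₁ := (-(g 1)) • v₁) (x₂ := (g 1 - g 2) • B v₁) (x₃ := g 2 • B (B v₁))
      (h58I_smul (h58I_sub hBv hv) _) (h58I_smul hv₁ _) (h58I_smul hv₂ _) (h58I_smul hv₃ _)
      (by linear_combination (norm := module) hg)
    obtain ⟨e0, e1, -, e3⟩ := hsep
    have g2 : g 2 = 0 := by
      rcases smul_eq_zero.mp e3 with h | h
      · exact h
      · exact absurd h hv₃0
    have g1 : g 1 = 0 := by
      rcases smul_eq_zero.mp e1 with h | h
      · exact neg_eq_zero.mp h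
      · exact absurd h hv₁0
    have g0 : g 0 ≠ 0 := by
      intro g0
      fin_cases i
      · exact hi g0
      · exact hi g1
      · exact hi g2
    rcases smul_eq_zero.mp e0 with h | h
    · exact absurd h g0
    · exact sub_eq_zero.mp h
  · -- decomposition
    intro v
    obtain ⟨c₁, hc₁⟩ := hdim1 _ (hp1 v)
    obtain ⟨c₂, hc₂⟩ := hdim2 _ (hp2 v)
    obtain ⟨c₃, hc₃⟩ := hdim3 _ (hp3 v)
    refine ⟨v + A₁ v + A₂ v + A₃ v, (v + A₁ v - A₂ v - A₃ v) + (v - A₁ v + A₂ v - A₃ v) +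
      (v - A₁ v - A₂ v + A₃ v), ?_, hp0 v, ?_⟩
    · have := hsum v
      rw [add_assoc, add_assoc] at this
      rw [add_assoc ((v + A₁ v - A₂ v - A₃ v))]
      exact this
    · rw [Submodule.mem_span_triple]
      exact ⟨c₁, c₂, c₃, by rw [← hc₁, ← hc₂, ← hc₃]⟩
  · -- commutators
    intro v
    obtain ⟨c₁, hc₁⟩ := hdim1 _ (hp1 v)
    obtain ⟨c₂, hc₂⟩ := hdim2 _ (hp2 v)
    obtain ⟨c₃, hc₃⟩ := hdim3 _ (hp3 v)
    have t1 := h58_three (A₁ v)
    have t2 := h58_three (A₂ v)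
    have t3 := h58_three (A₃ v)
    have t0 := h58_three v
    refine ⟨?_, ?_, ?_⟩
    · have e : A₁ v - v = (v - A₁ v + A₂ v - A₃ v) + (v - A₁ v - A₂ v + A₃ v) := by
        linear_combination (norm := abel) t1 - t0
      rw [e, hc₂, hc₃, Submodule.mem_span_triple]
      exact ⟨0, c₂, c₃, by rw [zero_smul, zero_add]⟩
    · have e : A₂ v - v = (v + A₁ v - A₂ v - A₃ v) + (v - A₁ v - A₂ v + A₃ v) := by
        linear_combination (norm := abel) t2 - t0
      rw [e, hc₁, hc₃, Submodule.mem_span_triple]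
      exact ⟨c₁, 0, c₃, by rw [zero_smul, add_zero]⟩
    · have e : A₃ v - v = (v + A₁ v - A₂ v - A₃ v) + (v - A₁ v + A₂ v - A₃ v) := by
        linear_combination (norm := abel) t3 - t0
      rw [e, hc₁, hc₂, Submodule.mem_span_triple]
      exact ⟨c₁, c₂, 0, by rw [zero_smul, add_zero]⟩
  · -- trivial intersection
    intro v hv hvs
    rw [Submodule.mem_span_triple] at hvs
    obtain ⟨a, b, c, habc⟩ := hvs
    have hsep := h58I_sep (A₁ := A₁) (A₂ := A₂) (A₃ := A₃) (x₀ := (-1 : ZMod 3) • v)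
      (x₁ := a • v₁) (x₂ := b • B v₁) (x₃ := c • B (B v₁))
      (h58I_smul hv _) (h58I_smul hv₁ _) (h58I_smul hv₂ _) (h58I_smul hv₃ _)
      (by linear_combination (norm := module) habc)
    have := hsep.1
    rw [neg_smul, one_smul, neg_eq_zero] at this
    exact this

end core2

end Cfsg.Agent.Helper58.C3
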