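import Mathlib
import Cfsg.Agent.Lib.Helper32.C3Defs
import Cfsg.Agent.Lib.Helper48.SympRep
import Cfsg.Agent.Lib.Helper58.C3QWCore2

/-!
# C3 (QW) `q_weights` for helper32's server (S4415)
-/

set_option autoImplicit false
set_option maxHeartbeats 800000

namespace Cfsg.Agent.Helper58.C3

open Cfsg.Agent.Helper32.C3

universe u v

/-- the group part of (QW): the four-group and the action of `b` on it -/
theorem h58_four_struct {G : Type u} [Group G] [Finite G] (Q : Subgroup G) (b : G)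
    (hb3 : b ^ 3 = 1) (h4 : Four Q b) :
    ∃ q₁ q₂ q₃ : G, (q₁ ∈ Q ∧ q₂ ∈ Q ∧ q₃ ∈ Q) ∧
      (∀ q ∈ Q, q = 1 ∨ q = q₁ ∨ q = q₂ ∨ q = q₃) ∧
      (q₁ ≠ 1 ∧ q₂ ≠ 1 ∧ q₃ ≠ 1 ∧ q₁ ≠ q₂ ∧ q₂ ≠ q₃ ∧ q₁ ≠ q₃) ∧
      (q₁ * q₁ = 1 ∧ q₂ * q₂ = 1 ∧ q₃ * q₃ = 1) ∧
      (q₁ * q₂ = q₃ ∧ q₂ * q₁ = q₃ ∧ q₂ * q₃ = q₁ ∧ q₃ * q₂ = q₁ ∧ q₁ * q₃ = q₂ ∧
        q₃ * q₁ = q₂) ∧
      (b * q₁ * b⁻¹ = q₂ ∧ b * q₂ * b⁻¹ = q₃ ∧ b * q₃ * b⁻¹ = q₁) := by
  classical
  obtain ⟨hc4, hsq, hconj, q₁, hq₁, hq₁ne⟩ := h4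
  have hq₂ : b * q₁ * b⁻¹ ∈ Q := hconj q₁ hq₁
  have hq₃ : b * (b * q₁ * b⁻¹) * b⁻¹ ∈ Q := hconj _ hq₂
  have hb3' : b * b * b = 1 := by
    rw [← hb3]
    simp [pow_succ]
  have hcyc : b * (b * (b * q₁ * b⁻¹) * b⁻¹) * b⁻¹ = q₁ := by
    calc b * (b * (b * q₁ * b⁻¹) * b⁻¹) * b⁻¹ = (b * b * b) * q₁ * (b * b * b)⁻¹ := by group
      _ = q₁ := by rw [hb3']; simp
  have hinv : ∀ x ∈ Q, x⁻¹ = x := fun x hx => inv_eq_of_mul_eq_one_right (hsq x hx)
  have hcomm : ∀ x ∈ Q, ∀ y ∈ Q, x * y = y * x := by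
    intro x hx y hy
    have h1 := hinv (x * y) (mul_mem hx hy)
    rw [mul_inv_rev, hinv x hx, hinv y hy] at h1
    exact h1.symm
  have n1 : q₁ ≠ 1 := by
    intro h1
    apply hq₁ne
    rw [h1]
    simp
  have n2 : b * q₁ * b⁻¹ ≠ 1 := by
    intro h1
    apply n1
    exact conj_eq_one_iff.mp h1
  have n3 : b * (b * q₁ * b⁻¹) * b⁻¹ ≠ 1 := by
    intro h1
    apply n2
    exact conj_eq_one_iff.mp h1
  have n12 : q₁ ≠ b * q₁ * b⁻¹ := fun h => hq₁ne h.symm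
  have n23 : b * q₁ * b⁻¹ ≠ b * (b * q₁ * b⁻¹) * b⁻¹ := by
    intro h1
    apply n12
    have := congrArg (fun x => b⁻¹ * x * b) h1
    try dsimp only at this
    have e1 : b⁻¹ * (b * q₁ * b⁻¹) * b = q₁ := by group
    have e2 : b⁻¹ * (b * (b * q₁ * b⁻¹) * b⁻¹) * b = b * q₁ * b⁻¹ := by group
    rw [e1, e2] at this
    exact this
  have n13 : q₁ ≠ b * (b * q₁ * b⁻¹) * b⁻¹ := by
    intro h1
    apply hq₁ne
    have := congrArg (fun x => b * x * b⁻¹) h1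
    try dsimp only at this
    rw [hcyc] at this
    exact this
  have hall : ∀ q ∈ Q, q = 1 ∨ q = q₁ ∨ q = b * q₁ * b⁻¹ ∨ q = b * (b * q₁ * b⁻¹) * b⁻¹ := by
    haveI : Fintype Q := Fintype.ofFinite Q
    let s : Finset Q := {1, ⟨q₁, hq₁⟩, ⟨_, hq₂⟩, ⟨_, hq₃⟩}
    have hs : s.card = 4 := by
      rw [Finset.card_insert_of_notMem, Finset.card_insert_of_notMem,
        Finset.card_insert_of_notMem, Finset.card_singleton]
      · simp only [Finset.mem_singleton, Subtype.mk.injEq]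
        exact n23
      · simp only [Finset.mem_insert, Finset.mem_singleton, Subtype.mk.injEq, not_or]
        exact ⟨n12, n13⟩
      · simp only [Finset.mem_insert, Finset.mem_singleton, not_or]
        refine ⟨?_, ?_, ?_⟩
        · intro h1
          exact n1 (congrArg Subtype.val h1).symm
        · intro h1
          exact n2 (congrArg Subtype.val h1).symm
        · intro h1
          exact n3 (congrArg Subtype.val h1).symm
    have huniv : s = Finset.univ := by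
      apply Finset.eq_univ_of_card
      rw [hs, ← Nat.card_eq_fintype_card, hc4]
    intro q hq
    have hmem : (⟨q, hq⟩ : Q) ∈ s := by rw [huniv]; exact Finset.mem_univ _
    simp only [s, Finset.mem_insert, Finset.mem_singleton, Subtype.ext_iff] at hmem
    exact hmem
  have m12 : q₁ * (b * q₁ * b⁻¹) = b * (b * q₁ * b⁻¹) * b⁻¹ := by
    rcases hall _ (mul_mem hq₁ hq₂) with h1 | h1 | h1 | h1
    · exfalso
      have := inv_eq_of_mul_eq_one_right h1
      rw [hinv q₁ hq₁] at this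
      exact n12 this
    · exfalso
      exact n2 (mul_eq_left.mp h1)
    · exfalso
      exact n1 (mul_eq_right.mp h1)
    · exact h1
  have m23 : (b * q₁ * b⁻¹) * (b * (b * q₁ * b⁻¹) * b⁻¹) = q₁ := by
    have := congrArg (fun x => b * x * b⁻¹) m12
    try dsimp only at this
    rw [hcyc] at this
    calc (b * q₁ * b⁻¹) * (b * (b * q₁ * b⁻¹) * b⁻¹) = b * (q₁ * (b * q₁ * b⁻¹)) * b⁻¹ := by
          group
      _ = q₁ := this
  have m13 : q₁ * (b * (b * q₁ * b⁻¹) * b⁻¹) = b * q₁ * b⁻¹ := by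
    rw [← m12, ← mul_assoc, hsq q₁ hq₁, one_mul]
  refine ⟨q₁, b * q₁ * b⁻¹, b * (b * q₁ * b⁻¹) * b⁻¹, ⟨hq₁, hq₂, hq₃⟩, hall,
    ⟨n1, n2, n3, n12, n23, n13⟩, ⟨hsq _ hq₁, hsq _ hq₂, hsq _ hq₃⟩,
    ⟨m12, ?_, m23, ?_, m13, ?_⟩, ⟨rfl, rfl, hcyc⟩⟩
  · rw [hcomm _ hq₂ _ hq₁]; exact m12
  · rw [hcomm _ hq₃ _ hq₂]; exact m23
  · rw [hcomm _ hq₃ _ hq₁]; exact m13

/-- **QW.** -/
theorem q_weights {G : Type u} [Group G] [Finite G] {V : Type v} [AddCommGroup V]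
    [Module (ZMod 3) V] [Finite V] (ρ : Representation (ZMod 3) G V) (R Q : Subgroup G) (b : G)
    (h : Cfg ρ R Q b) :
    ∃ (q₁ q₂ q₃ : G) (v₁ v₂ v₃ : V), QWeights ρ Q b q₁ q₂ q₃ v₁ v₂ v₃ := by
  classical
  obtain ⟨q₁, q₂, q₃, hmem, hall, hne, hsq, hmul, hconj⟩ := h58_four_struct Q b h.b3 h.four
  obtain ⟨hq₁, hq₂, hq₃⟩ := hmem
  haveI : Module.Finite (ZMod 3) V := Module.Finite.of_finite
  have hap : ∀ (x y : G) (v : V), ρ x (ρ y v) = ρ (x * y) v := by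
    intro x y v
    rw [map_mul]
    rfl
  have hone : ∀ v : V, ρ 1 v = v := by
    intro v
    rw [map_one]
    rfl
  have hbq1 : b * q₁ = q₂ * b := by rw [← hconj.1]; group
  have hbq2 : b * q₂ = q₃ * b := by rw [← hconj.2.1]; group
  have hbq3 : b * q₃ = q₁ * b := by rw [← hconj.2.2]; group
  have hbbb : b * b * b = 1 := by
    rw [← h.b3]
    simp [pow_succ]
  have hne1 : ∃ v, ρ q₁ v ≠ v := by
    by_contra hcon
    apply hne.1
    apply h.faith
    rw [map_one]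
    ext v
    by_contra hv
    exact hcon ⟨v, hv⟩
  have hr : Module.finrank (ZMod 3) (LinearMap.range (ρ b - 1)) = 2 := h.cubic.1
  obtain ⟨v₁, v₂, v₃, hli, hbv, hv₁, hv₂, hv₃, hfix, hdec, hcom, hzero⟩ :=
    h58_weights_core (ρ q₁) (ρ q₂) (ρ q₃) (ρ b)
      (fun v => by rw [hap, hsq.1, hone]) (fun v => by rw [hap, hsq.2.1, hone])
      (fun v => by rw [hap, hsq.2.2, hone])
      (fun v => by rw [hap, hmul.1]) (fun v => by rw [hap, hmul.2.1])
      (fun v => by rw [hap, hmul.2.2.1]) (fun v => by rw [hap, hmul.2.2.2.1])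
      (fun v => by rw [hap, hmul.2.2.2.2.1]) (fun v => by rw [hap, hmul.2.2.2.2.2])
      (fun v => by rw [hap, hap, hbq1]) (fun v => by rw [hap, hap, hbq2])
      (fun v => by rw [hap, hap, hbq3])
      (fun v => by rw [hap, hap, hbbb, hone]) hne1 hr
  obtain ⟨h11, h12, h13⟩ := hv₁
  obtain ⟨h21, h22, h23⟩ := hv₂
  obtain ⟨h31, h32, h33⟩ := hv₃
  simp only [one_smul, neg_smul] at h11 h12 h13 h21 h22 h23 h31 h32 h33
  have hI0 : ∀ v, v ∈ fixS ρ Q → h58I (ρ q₁) (ρ q₂) (ρ q₃) 1 1 1 v := by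
    intro v hv
    rw [mem_fixS] at hv
    refine ⟨?_, ?_, ?_⟩
    · rw [one_smul]; exact hv q₁ hq₁
    · rw [one_smul]; exact hv q₂ hq₂
    · rw [one_smul]; exact hv q₃ hq₃
  have hI0' : ∀ v, h58I (ρ q₁) (ρ q₂) (ρ q₃) 1 1 1 v → v ∈ fixS ρ Q := by
    intro v hv
    obtain ⟨e1, e2, e3⟩ := hv
    rw [one_smul] at e1 e2 e3
    rw [mem_fixS]
    intro q hq
    rcases hall q hq with rfl | rfl | rfl | rfl
    · exact hone v
    · exact e1
    · exact e2
    · exact e3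
  have hcomS : comS ρ Q = Submodule.span (ZMod 3) ({v₁, v₂, v₃} : Set V) := by
    apply le_antisymm
    · unfold comS
      rw [Submodule.span_le]
      rintro w ⟨q, hq, v, rfl⟩
      rcases hall q hq with rfl | rfl | rfl | rfl
      · rw [hone, sub_self]
        exact zero_mem _
      · exact (hcom v).1
      · exact (hcom v).2.1
      · exact (hcom v).2.2
    · rw [Submodule.span_le]
      intro x hx
      simp only [Set.mem_insert_iff, Set.mem_singleton_iff] at hx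
      rcases hx with rfl | rfl | rfl
      · have e : x = ρ q₂ x - x := by
          rw [h12]
          linear_combination (norm := abel) h58_three x
        rw [e]
        exact sub_mem_comS ρ Q hq₂ x
      · have e : x = ρ q₁ x - x := by
          rw [h21]
          linear_combination (norm := abel) h58_three x
        rw [e]
        exact sub_mem_comS ρ Q hq₁ x
      · have e : x = ρ q₁ x - x := by
          rw [h31]
          linear_combination (norm := abel) h58_three x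
        rw [e]
        exact sub_mem_comS ρ Q hq₁ x
  refine ⟨q₁, q₂, q₃, v₁, v₂, v₃, ⟨⟨hq₁, hq₂, hq₃⟩, hall, hne, hsq, hmul, hconj, hli, hbv,
    ⟨h11, h21, h31⟩, ⟨h12, h22, h32⟩, ⟨h13, h23, h33⟩, hcomS, ?_, ?_, ?_⟩⟩
  · intro v hv
    exact hfix v (hI0 v hv)
  · rw [eq_bot_iff]
    intro v hv
    obtain ⟨hv1, hv2⟩ := Submodule.mem_inf.mp hv
    rw [hcomS] at hv2
    rw [Submodule.mem_bot]
    exact hzero v (hI0 v hv1) hv2
  · rw [eq_top_iff]
    intro v _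
    obtain ⟨u, w, rfl, hu, hw⟩ := hdec v
    apply Submodule.add_mem_sup (hI0' u hu)
    rw [hcomS]
    exact hw

end Cfsg.Agent.Helper58.C3
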