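import Cfsg.Agent.Lib.Helper1.CD3.Defs
import Cfsg.Agent.Lib.Helper80.GalDegB
import Mathlib

/-!
# CD3B (K7) `exists_nonlinear_meta` for helper1's server (S4460)
-/

set_option autoImplicit false

namespace Cfsg.Agent.Helper58.CD3B

open Cfsg Cfsg.Agent.Helper81 Cfsg.Agent.Helper1.CD3
open scoped commutatorElement

universe u

/-- If `W' = W''` then the derived series is constant from step one on. -/
theorem h58_derivedSeries_const {W : Type u} [Group W]
    (h : ⁅commutator W, commutator W⁆ = commutator W) (k : ℕ) :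
    derivedSeries W (k + 1) = commutator W := by
  induction k with
  | zero =>
    rw [derivedSeries_succ, derivedSeries_zero]
    rfl
  | succ k ih =>
    rw [derivedSeries_succ, ih, h]

/-- A solvable group with `W'' = W'` is abelian. -/
theorem h58_comm_of_der_eq {W : Type u} [Group W] (hsolv : Group.IsSolvable W)
    (h : ⁅commutator W, commutator W⁆ = commutator W) : ∀ x y : W, x * y = y * x := by
  obtain ⟨n, hn⟩ := hsolv.solvable
  have hbot : commutator W = ⊥ := by
    cases n with
    | zero =>
      rw [derivedSeries_zero] at hn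
      rw [eq_bot_iff, ← hn]
      exact le_top
    | succ k =>
      rw [← h58_derivedSeries_const h k]
      exact hn
  intro x y
  have hxy : ⁅x, y⁆ ∈ commutator W := by
    have : ⁅x, y⁆ ∈ ⁅(⊤ : Subgroup W), ⊤⁆ :=
      Subgroup.commutator_mem_commutator (Subgroup.mem_top x) (Subgroup.mem_top y)
    exact this
  rw [hbot, Subgroup.mem_bot] at hxy
  exact commutatorElement_eq_one_iff_mul_comm.mp hxy

theorem exists_nonlinear_meta {W : Type u} [Group W] [Finite W] (hsolv : Group.IsSolvable W)
    (hna : ¬ ∀ x y : W, x * y = y * x) :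
    ∃ ω : W → ℂ, IsIrrCharacter W ω ∧ ω 1 ≠ 1 ∧
      ∀ x : W, x ∈ ⁅commutator W, commutator W⁆ → ω x = ω 1 := by
  have hle : ⁅commutator W, commutator W⁆ ≤ commutator W := Subgroup.commutator_le_right _ _
  have hlt : ⁅commutator W, commutator W⁆ < commutator W := by
    refine lt_of_le_of_ne hle ?_
    intro h
    exact hna (h58_comm_of_der_eq hsolv h)
  obtain ⟨χ, hχk, hχd⟩ := Cfsg.Agent.Helper80.GalDeg.exists_nonlinear_over
    (⁅commutator W, commutator W⁆) hlt
  refine ⟨(χ : W → ℂ), χ.2, ?_, ?_⟩
  · intro h1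
    apply hχd
    unfold charDegree
    rw [h1]
    simp
  · intro x hx
    exact hχk hx

end Cfsg.Agent.Helper58.CD3B
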