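import Cfsg.Agent.Lib.Helper55.CD3Defs
import Cfsg.Agent.Lib.Helper74.LinChar
import Cfsg.Agent.Lib.Helper79.CharBasic
import Cfsg.Agent.Lib.Helper79.Inflation

/-!
# CD3 (NL) `exists_nonlinear_under` for helper55's server (S4460)
-/

set_option autoImplicit false
set_option linter.unusedVariables false
set_option linter.unusedSectionVars false
set_option linter.style.haveILetI false

namespace Cfsg.Agent.Helper58.CD3

open Cfsg Cfsg.Agent.Helper79 Cfsg.Agent.Helper81 Cfsg.Agent.Helper55.CD3
open scoped ComplexConjugate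

universe u

/-- A linear irreducible character is trivial on the commutator subgroup. -/
theorem h58_linear_on_commutator {F : Type u} [Group F] (θ : IrrCharacter F)
    (h1 : charDegree (θ : F → ℂ) = 1) (y : F) (hy : y ∈ commutator F) :
    (θ : F → ℂ) y = 1 := by
  have h1' : (θ : F → ℂ) 1 = 1 := by
    rw [(irr_one_eq θ).1, h1]
    simp
  have hker := Abelianization.commutator_subset_ker (Cfsg.Agent.Helper74.Lin.toHom θ h1')
  have hy' := hker hy
  rw [MonoidHom.mem_ker] at hy'
  have := congrArg (fun u : ℂˣ => (u : ℂ)) hy'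
  simpa using this

section general
variable {G : Type u} [Group G] [Finite G]

theorem exists_nonlinear_under (F : Subgroup G) [F.Normal] [Fintype F] (χ : IrrCharacter G)
    (hk : ¬ ⁅F, F⁆ ≤ irrKer χ) :
    ∃ θ : IrrCharacter F, charDegree (θ : F → ℂ) ≠ 1 ∧
      classInner (fun x : F => (χ : G → ℂ) x) (θ : F → ℂ) ≠ 0 := by
  classical
  by_contra hcon
  have hall : ∀ θ : IrrCharacter F,
      classInner (fun x : F => (χ : G → ℂ) x) (θ : F → ℂ) ≠ 0 → charDegree (θ : F → ℂ) = 1 := by
    intro θ hθ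
    by_contra h1
    exact hcon ⟨θ, h1, hθ⟩
  apply hk
  haveI : Fintype (IrrCharacter F) := @Fintype.ofFinite _ Cfsg.Agent.Helper81.irr_finite
  have hres : IsCharacter F (fun x : F => (χ : G → ℂ) x) :=
    isCharacter_restrict F (IsIrrCharacter.isCharacter χ.2)
  obtain ⟨m, hm⟩ := exists_nat_decomp hres
  have hmult : ∀ θ : IrrCharacter F,
      classInner (fun x : F => (χ : G → ℂ) x) (θ : F → ℂ) = (m θ : ℂ) := by
    intro θ
    rw [hm]
    exact classInner_nat_decomp (fun χ' => (m χ' : ℂ)) θ
  intro x hx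
  rw [← Subgroup.map_subtype_commutator] at hx
  obtain ⟨y, hy, rfl⟩ := hx
  rw [mem_irrKer]
  have hval : ∀ z : F, (χ : G → ℂ) (z : G) = ∑ θ : IrrCharacter F, (m θ : ℂ) * (θ : F → ℂ) z := by
    intro z
    have := congrFun hm z
    simpa [Finset.sum_apply] using this
  have e1 : (χ : G → ℂ) ((F.subtype y : G)) = (χ : G → ℂ) ((y : F) : G) := rfl
  rw [e1, hval y]
  have e2 : (χ : G → ℂ) (1 : G) = (χ : G → ℂ) (((1 : F) : F) : G) := rfl
  rw [e2, hval 1]
  apply Finset.sum_congr rfl
  intro θ _
  by_cases h0 : m θ = 0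
  · rw [h0]
    simp
  · have hne : classInner (fun x : F => (χ : G → ℂ) x) (θ : F → ℂ) ≠ 0 := by
      rw [hmult θ]
      exact_mod_cast h0
    have hdeg := hall θ hne
    rw [h58_linear_on_commutator θ hdeg y hy,
      h58_linear_on_commutator θ hdeg 1 (one_mem _)]

end general

end Cfsg.Agent.Helper58.CD3
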