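import Mathlib

set_option autoImplicit false

namespace Cfsg.Agent.Helper58

/-- A monoid hom from a group into the endomorphisms of a finite `ZMod p`-vector space of order
`p ^ e` gives a hom into `GL (Fin e) (ZMod p)` with the same kernel. -/
theorem exists_hom_GL_of_module (p e : ℕ) [Fact p.Prime] {H : Type*} [Group H] {M : Type*}
    [AddCommGroup M] [Module (ZMod p) M] [Finite M] (hcard : Nat.card M = p ^ e)
    (ρ : H →* Module.End (ZMod p) M) :
    ∃ φ : H →* GL (Fin e) (ZMod p), ∀ h, φ h = 1 ↔ ρ h = 1 := by
  have hp : p.Prime := Fact.out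
  have hfr : Module.finrank (ZMod p) M = e := by
    have : Fintype M := Fintype.ofFinite M
    have h := Module.card_eq_pow_finrank (K := ZMod p) (V := M)
    rw [ZMod.card, ← Nat.card_eq_fintype_card, hcard] at h
    exact (Nat.pow_right_injective hp.two_le h).symm
  let b := Module.finBasisOfFinrankEq (ZMod p) M hfr
  let f : Module.End (ZMod p) M →* Matrix (Fin e) (Fin e) (ZMod p) :=
    (LinearMap.toMatrixAlgEquiv b : Module.End (ZMod p) M →* Matrix (Fin e) (Fin e) (ZMod p))
  have hf : Function.Injective f := (LinearMap.toMatrixAlgEquiv b).injective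
  refine ⟨(Units.map f).comp ρ.toHomUnits, fun h => ?_⟩
  rw [MonoidHom.comp_apply]
  constructor
  · intro h1
    have h2 : ρ.toHomUnits h = 1 := Units.map_injective hf (by rw [h1, map_one])
    have h3 := congrArg Units.val h2
    simpa using h3
  · intro h1
    have h2 : ρ.toHomUnits h = 1 := Units.ext (by simpa using h1)
    rw [h2, map_one]

theorem exists_hom_GL_of_mulAut (p e : ℕ) [Fact p.Prime] {H : Type*} [Group H] {A : Type*}
    [CommGroup A] [Module (ZMod p) (Additive A)] [Finite A] (hcard : Nat.card A = p ^ e)
    (c : H →* MulAut A) :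
    ∃ φ : H →* GL (Fin e) (ZMod p), ∀ h, φ h = 1 ↔ c h = 1 := by
  let ρ : H →* Module.End (ZMod p) (Additive A) :=
    { toFun := fun h => AddMonoidHom.toZModLinearMap p (MonoidHom.toAdditive (c h).toMonoidHom)
      map_one' := by
        ext x
        induction x using Additive.rec with
        | ofMul a => simp
      map_mul' := by
        intro h k
        ext x
        induction x using Additive.rec with
        | ofMul a => simp }
  have hcard' : Nat.card (Additive A) = p ^ e := hcard
  obtain ⟨φ, hφ⟩ := exists_hom_GL_of_module p e hcard' ρ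
  refine ⟨φ, fun h => ?_⟩
  rw [hφ]
  constructor
  · intro h1
    ext a
    have h2 := congrArg (fun f : Module.End (ZMod p) (Additive A) => f (Additive.ofMul a)) h1
    exact h2
  · intro h1
    ext x
    induction x using Additive.rec with
    | ofMul a =>
      change Additive.ofMul ((c h) a) = Additive.ofMul a
      rw [h1]; rfl

/-- Conjugation action on a normal elementary abelian `p`-subgroup of order `p ^ e`:
a hom to `GL (Fin e) (ZMod p)` with kernel the centralizer. -/
theorem exists_hom_GL_ker_eq_centralizer {H : Type*} [Group H] (F : Subgroup H) [F.Normal]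
    [Finite F] (p e : ℕ) [Fact p.Prime] (hcomm : ∀ a ∈ F, ∀ b ∈ F, a * b = b * a)
    (hexp : ∀ a ∈ F, a ^ p = 1) (hcard : Nat.card F = p ^ e) :
    ∃ φ : H →* GL (Fin e) (ZMod p), φ.ker = Subgroup.centralizer (F : Set H) := by
  let _i1 : CommGroup F :=
    { (inferInstance : Group F) with
      mul_comm := fun a b => Subtype.ext (hcomm a a.2 b b.2) }
  let _i2 : Module (ZMod p) (Additive F) :=
    AddCommGroup.zmodModule (n := p) (G := Additive F) (fun x => by
      induction x using Additive.rec with
      | ofMul a =>
        rw [← ofMul_pow, show a ^ p = 1 from Subtype.ext (by simpa using hexp a a.2)]; rfl)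
  obtain ⟨φ, hφ⟩ := exists_hom_GL_of_mulAut p e hcard (MulAut.conjNormal (H := F))
  refine ⟨φ, ?_⟩
  ext h
  rw [MonoidHom.mem_ker, hφ, Subgroup.mem_centralizer_iff]
  constructor
  · intro h1 x hx
    have h2 := congrArg (fun f : MulAut F => ((f ⟨x, hx⟩ : F) : H)) h1
    simp only [MulAut.conjNormal_apply, MulAut.one_apply] at h2
    exact (mul_inv_eq_iff_eq_mul.mp h2).symm
  · intro h1
    ext x
    rw [MulAut.conjNormal_apply, MulAut.one_apply, ← h1 x x.2]
    group

end Cfsg.Agent.Helper58
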