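import Mathlib

set_option autoImplicit false

namespace Cfsg.Agent.Helper58

open MulAction

section
variable {G : Type*} [Group G] {Ω : Type*} [MulAction G Ω]

/-- the pointwise stabilizer, inside `H`, of a set `Δ` -/
def kerOn (H : Subgroup G) (Δ : Set Ω) : Subgroup G where
  carrier := {k | k ∈ H ∧ ∀ x ∈ Δ, k • x = x}
  mul_mem' := by
    rintro a b ⟨ha, ha'⟩ ⟨hb, hb'⟩
    refine ⟨H.mul_mem ha hb, fun x hx => ?_⟩
    rw [mul_smul, hb' x hx, ha' x hx]
  one_mem' := ⟨H.one_mem, fun x _ => one_smul _ x⟩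
  inv_mem' := by
    rintro a ⟨ha, ha'⟩
    refine ⟨H.inv_mem ha, fun x hx => ?_⟩
    rw [inv_smul_eq_iff, ha' x hx]

theorem mem_kerOn {H : Subgroup G} {Δ : Set Ω} {k : G} :
    k ∈ kerOn H Δ ↔ k ∈ H ∧ ∀ x ∈ Δ, k • x = x := Iff.rfl

theorem kerOn_le (H : Subgroup G) (Δ : Set Ω) : kerOn H Δ ≤ H := fun _ hk => hk.1

/-- a normal subgroup of a group acting primitively on an orbit is transitive on it as soon as it
moves the base point -/
theorem exists_smul_eq_of_normal {H : Type*} [Group H] {X : Type*} [MulAction H X] (x : X)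
    (hprim : IsPreprimitive H (orbit H x)) (N : Subgroup H) [N.Normal]
    (hN : ∃ n ∈ N, n • x ≠ x) (y : X) (hy : y ∈ orbit H x) : ∃ n ∈ N, n • x = y := by
  have hq : IsQuasiPreprimitive H (orbit H x) := inferInstance
  have hne : fixedPoints N (orbit H x) ≠ Set.univ := by
    intro h
    obtain ⟨n, hn, hnx⟩ := hN
    have hmem : (⟨x, mem_orbit_self x⟩ : orbit H x) ∈ fixedPoints N (orbit H x) := by
      rw [h]; trivial
    rw [mem_fixedPoints] at hmem
    have := hmem ⟨n, hn⟩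
    apply hnx
    have h2 := congrArg Subtype.val this
    exact h2
  have htr : IsPretransitive N (orbit H x) := hq.isPretransitive_of_normal hne
  obtain ⟨n, hn⟩ := htr.exists_smul_eq (⟨x, mem_orbit_self x⟩ : orbit H x) ⟨y, hy⟩
  refine ⟨n.1, n.2, ?_⟩
  have h2 := congrArg Subtype.val hn
  exact h2

end

end Cfsg.Agent.Helper58

namespace Cfsg.Agent.Helper58

open MulAction

section main
variable {G : Type*} [Group G] {Ω : Type*} [MulAction G Ω]

/-- a normal subgroup fixing a point of a transitive faithful action is trivial -/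
theorem eq_bot_of_normal_of_le_stabilizer [FaithfulSMul G Ω] [IsPretransitive G Ω]
    (K : Subgroup G) [hn : K.Normal] (α : Ω) (hK : K ≤ stabilizer G α) : K = ⊥ := by
  rw [eq_bot_iff]
  intro k hk
  rw [Subgroup.mem_bot]
  apply FaithfulSMul.eq_of_smul_eq_smul (α := Ω)
  intro γ
  obtain ⟨x, rfl⟩ := exists_smul_eq G α γ
  have h1 : x⁻¹ * k * x ∈ K := by
    have := hn.conj_mem k hk x⁻¹
    simpa using this
  have h2 : (x⁻¹ * k * x) • α = α := hK h1
  rw [one_smul]
  have : k • x • α = x • ((x⁻¹ * k * x) • α) := by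
    simp only [mul_smul, smul_inv_smul]
  rw [this, h2]

/-- the arc relation of the orbital digraph attached to a suborbit `Δ` of `α` -/
def arcRel (α : Ω) (Δ : Set Ω) (β γ : Ω) : Prop :=
  ∃ g : G, g • α = β ∧ ∃ y ∈ Δ, g • y = γ

theorem arcRel_smul {α : Ω} {Δ : Set Ω} {β γ : Ω} (x : G) (h : arcRel (G := G) α Δ β γ) :
    arcRel (G := G) α Δ (x • β) (x • γ) := by
  obtain ⟨g, hg, y, hy, hgy⟩ := h
  exact ⟨x * g, by rw [mul_smul, hg], y, hy, by rw [mul_smul, hgy]⟩

theorem arcRel_smul_iff {α : Ω} {Δ : Set Ω} {β γ : Ω} (x : G) :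
    arcRel (G := G) α Δ (x • β) (x • γ) ↔ arcRel (G := G) α Δ β γ := by
  constructor
  · intro h
    have := arcRel_smul x⁻¹ h
    simpa using this
  · exact arcRel_smul x

end main

end Cfsg.Agent.Helper58

namespace Cfsg.Agent.Helper58

open MulAction

section counting
variable {G : Type*} [Group G] {Ω : Type*} [MulAction G Ω]

theorem arcRel_out_eq (α : Ω) (Δ : Set Ω)
    (hΔ : ∀ x ∈ stabilizer G α, ∀ y ∈ Δ, x • y ∈ Δ) (g : G) :
    {γ | arcRel (G := G) α Δ (g • α) γ} = (fun y => g • y) '' Δ := by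
  ext γ
  constructor
  · rintro ⟨g', hg', y, hy, rfl⟩
    have hmem : g⁻¹ * g' ∈ stabilizer G α := by
      rw [mem_stabilizer_iff, mul_smul, hg', inv_smul_smul]
    refine ⟨(g⁻¹ * g') • y, hΔ _ hmem y hy, ?_⟩
    simp [mul_smul]
  · rintro ⟨y, hy, rfl⟩
    exact ⟨g, rfl, y, hy, rfl⟩

theorem ncard_in_eq [Fintype Ω] [IsPretransitive G Ω] (α : Ω) (Δ : Set Ω)
    (hΔ : ∀ x ∈ stabilizer G α, ∀ y ∈ Δ, x • y ∈ Δ) (γ : Ω) :
    {β | arcRel (G := G) α Δ β γ}.ncard = Δ.ncard := by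
  classical
  have hout : ∀ β, {γ | arcRel (G := G) α Δ β γ}.ncard = Δ.ncard := by
    intro β
    obtain ⟨g, rfl⟩ := exists_smul_eq G α β
    rw [arcRel_out_eq α Δ hΔ g]
    exact Set.ncard_image_of_injective Δ (MulAction.injective g)
  have hin : ∀ γ', {β | arcRel (G := G) α Δ β γ'}.ncard = {β | arcRel (G := G) α Δ β γ}.ncard := by
    intro γ'
    obtain ⟨x, rfl⟩ := exists_smul_eq G γ γ'
    have : {β | arcRel (G := G) α Δ β (x • γ)} = (fun y => x • y) '' {β | arcRel (G := G) α Δ β γ} := by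
      ext β
      constructor
      · intro h
        refine ⟨x⁻¹ • β, ?_, by simp⟩
        have := arcRel_smul x⁻¹ h
        simpa using this
      · rintro ⟨β', h, rfl⟩
        exact arcRel_smul x h
    rw [this]
    exact Set.ncard_image_of_injective _ (MulAction.injective x)
  have hdc := Finset.sum_card_bipartiteAbove_eq_sum_card_bipartiteBelow
    (s := (Finset.univ : Finset Ω)) (t := (Finset.univ : Finset Ω)) (arcRel (G := G) α Δ)
  have h1 : ∀ β ∈ (Finset.univ : Finset Ω),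
      (Finset.univ.bipartiteAbove (arcRel (G := G) α Δ) β).card = Δ.ncard := by
    intro β _
    rw [← hout β, Set.ncard_eq_toFinset_card']
    congr 1
    ext γ'
    simp [Finset.bipartiteAbove]
  have h2 : ∀ γ' ∈ (Finset.univ : Finset Ω),
      (Finset.univ.bipartiteBelow (arcRel (G := G) α Δ) γ').card =
        {β | arcRel (G := G) α Δ β γ}.ncard := by
    intro γ' _
    rw [← hin γ', Set.ncard_eq_toFinset_card']
    congr 1
    ext β
    simp [Finset.bipartiteBelow]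
  rw [Finset.sum_congr rfl h1, Finset.sum_congr rfl h2, Finset.sum_const, Finset.sum_const,
    smul_eq_mul, smul_eq_mul] at hdc
  have hpos : 0 < (Finset.univ : Finset Ω).card := Finset.card_pos.mpr ⟨γ, Finset.mem_univ γ⟩
  exact (Nat.eq_of_mul_eq_mul_left hpos hdc).symm

end counting

end Cfsg.Agent.Helper58

namespace Cfsg.Agent.Helper58

open MulAction

section thm
variable {G : Type*} [Group G] [Finite G] {Ω : Type*} [Fintype Ω] [MulAction G Ω] [FaithfulSMul G Ω]

theorem manning (hprim : IsPreprimitive G Ω)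
    (hep : ∀ (α ω : Ω), IsPreprimitive (stabilizer G α) (orbit (stabilizer G α) ω))
    (α ω : Ω) (hω : ω ≠ α) :
    kerOn (stabilizer G α) (orbit (stabilizer G α) ω) = ⊥ := by
  classical
  by_contra hK
  have hnt : Nontrivial Ω := ⟨⟨ω, α, hω⟩⟩
  have htr : IsPretransitive G Ω := hprim.toIsPretransitive
  have hmax : IsCoatom (stabilizer G α) := IsPreprimitive.isCoatom_stabilizer_of_isPreprimitive (G := G) α
  -- abbreviations
  obtain ⟨H, hH⟩ : ∃ H : Subgroup G, H = stabilizer G α := ⟨_, rfl⟩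
  obtain ⟨Δ, hΔ⟩ : ∃ Δ : Set Ω, Δ = orbit (stabilizer G α) ω := ⟨_, rfl⟩
  rw [← hΔ] at hK
  obtain ⟨K, hKdef⟩ : ∃ K : Subgroup G, K = kerOn (stabilizer G α) Δ := ⟨_, rfl⟩
  rw [← hKdef] at hK
  have hKH : K ≤ stabilizer G α := by rw [hKdef]; exact kerOn_le _ _
  have hKΔ : ∀ k ∈ K, ∀ y ∈ Δ, k • y = y := by
    intro k hk; rw [hKdef] at hk; exact hk.2
  have hωΔ : ω ∈ Δ := by rw [hΔ]; exact mem_orbit_self ω
  have hHΔ : ∀ x ∈ stabilizer G α, ∀ y ∈ Δ, x • y ∈ Δ := by
    intro x hx y hy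
    rw [hΔ] at hy ⊢
    obtain ⟨h, rfl⟩ := hy
    refine ⟨⟨x, hx⟩ * h, ?_⟩
    change (⟨x, hx⟩ * h : stabilizer G α) • ω = x • (h • ω)
    rw [mul_smul]
    rfl
  have hαΔ : α ∉ Δ := by
    rw [hΔ]
    rintro ⟨h, hh⟩
    apply hω
    have h1 : (h : G) • ω = α := hh
    have h2 : (h : G) • α = α := h.2
    have : (h : G) • ω = (h : G) • α := by rw [h1, h2]
    exact MulAction.injective (h : G) this
  -- K is normalized by the stabilizer
  have hKnorm : ∀ x ∈ stabilizer G α, ∀ k ∈ K, x * k * x⁻¹ ∈ K := by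
    intro x hx k hk
    rw [hKdef, mem_kerOn]
    refine ⟨Subgroup.mul_mem _ (Subgroup.mul_mem _ hx (hKH hk)) (Subgroup.inv_mem _ hx), ?_⟩
    intro y hy
    have hy' : x⁻¹ • y ∈ Δ := hHΔ _ (Subgroup.inv_mem _ hx) y hy
    rw [mul_smul, mul_smul, hKΔ k hk _ hy', smul_inv_smul]
  have hle_norm : stabilizer G α ≤ Subgroup.normalizer (K : Set G) := by
    intro x hx
    rw [Subgroup.mem_normalizer_iff]
    intro k
    constructor
    · exact hKnorm x hx k
    · intro hk
      have := hKnorm x⁻¹ (Subgroup.inv_mem _ hx) _ hk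
      simpa [mul_assoc] using this
  -- Step A
  obtain ⟨g, hg⟩ := exists_smul_eq G α ω
  have hgH : g ∉ stabilizer G α := by
    intro h
    rw [mem_stabilizer_iff, hg] at h
    exact hω h
  have stepA : ∃ k ∈ K, ∃ y ∈ Δ, k • (g • y) ≠ g • y := by
    by_contra hcon
    push Not at hcon
    apply hK
    have hconj : ∀ k ∈ K, g⁻¹ * k * g⁻¹⁻¹ ∈ K := by
      intro k hk
      rw [inv_inv, hKdef, mem_kerOn]
      constructor
      · rw [mem_stabilizer_iff, mul_smul, mul_smul, hg, hKΔ k hk ω hωΔ, ← hg, inv_smul_smul]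
      · intro y hy
        rw [mul_smul, mul_smul, hcon k hk y hy, inv_smul_smul]
    have hgn : g⁻¹ ∈ Subgroup.normalizer (K : Set G) := Subgroup.mem_normalizer_fintype hconj
    have hgn' : g ∈ Subgroup.normalizer (K : Set G) := by
      have := Subgroup.inv_mem _ hgn
      rwa [inv_inv] at this
    have hlt : stabilizer G α < Subgroup.normalizer (K : Set G) := by
      refine lt_of_le_of_ne hle_norm ?_
      intro heq
      apply hgH
      rw [heq]; exact hgn'
    have htop := hmax.2 _ hlt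
    have hn : K.Normal := Subgroup.normalizer_eq_top_iff.mp htop
    exact eq_bot_of_normal_of_le_stabilizer K α hKH
  obtain ⟨k₀, hk₀, y₀, hy₀, hmove⟩ := stepA
  obtain ⟨δ, hδ⟩ : ∃ δ : Ω, δ = g • y₀ := ⟨_, rfl⟩
  rw [← hδ] at hmove
  -- Step B: K is transitive on the orbit of δ
  have hprimΓ := hep α δ
  have hNn : (K.subgroupOf (stabilizer G α)).Normal :=
    (Subgroup.normal_subgroupOf_iff_le_normalizer hKH).mpr hle_norm
  have hBtrans : ∀ γ ∈ orbit (stabilizer G α) δ, ∃ k ∈ K, k • δ = γ := by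
    intro γ hγ
    obtain ⟨n, hn, hnγ⟩ := exists_smul_eq_of_normal (H := stabilizer G α) δ hprimΓ
      (K.subgroupOf (stabilizer G α))
      ⟨⟨k₀, hKH hk₀⟩, by rw [Subgroup.mem_subgroupOf]; exact hk₀, hmove⟩ γ hγ
    refine ⟨n.1, ?_, hnγ⟩
    rw [Subgroup.mem_subgroupOf] at hn
    exact hn
  -- K preserves g • Δ
  have hKg : ∀ k ∈ K, ∀ y ∈ Δ, ∃ y' ∈ Δ, k • g • y = g • y' := by
    intro k hk y hy
    have hmem : g⁻¹ * k * g ∈ stabilizer G α := by
      rw [mem_stabilizer_iff, mul_smul, mul_smul, hg, hKΔ k hk ω hωΔ, ← hg, inv_smul_smul]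
    refine ⟨(g⁻¹ * k * g) • y, hHΔ _ hmem y hy, ?_⟩
    simp only [mul_smul, smul_inv_smul]
  have hΓsub : ∀ γ ∈ orbit (stabilizer G α) δ, ∃ y ∈ Δ, g • y = γ := by
    intro γ hγ
    obtain ⟨k, hk, rfl⟩ := hBtrans γ hγ
    obtain ⟨y', hy', h⟩ := hKg k hk y₀ hy₀
    exact ⟨y', hy', by rw [hδ, h]⟩
  -- Step C
  have hC : ∀ β ∈ Δ, ∀ γ ∈ orbit (stabilizer G α) δ, arcRel (G := G) α Δ β γ := by
    intro β hβ γ hγ
    rw [hΔ] at hβ
    obtain ⟨x, rfl⟩ := hβ
    have hγ' : (x : G)⁻¹ • γ ∈ orbit (stabilizer G α) δ := by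
      obtain ⟨z, rfl⟩ := hγ
      refine ⟨x⁻¹ * z, ?_⟩
      change (x⁻¹ * z : stabilizer G α) • δ = (x : G)⁻¹ • (z • δ)
      rw [mul_smul]
      rfl
    obtain ⟨y, hy, hgy⟩ := hΓsub _ hγ'
    refine ⟨(x : G) * g, ?_, y, hy, ?_⟩
    · rw [mul_smul, hg]; rfl
    · rw [mul_smul, hgy, smul_inv_smul]
  -- Step D
  have hD : ∀ γ ∈ orbit (stabilizer G α) δ, {β | arcRel (G := G) α Δ β γ} = Δ := by
    intro γ hγ
    symm
    apply Set.eq_of_subset_of_ncard_le
    · intro β hβ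
      exact hC β hβ γ hγ
    · rw [ncard_in_eq α Δ hHΔ γ]
    · exact Set.toFinite _
  have hDδ := hD δ (mem_orbit_self δ)
  -- Step E
  let S : Subgroup G :=
    { carrier := {x | (∀ β ∈ Δ, x • β ∈ Δ) ∧ (∀ β ∈ Δ, x⁻¹ • β ∈ Δ)}
      mul_mem' := by
        rintro a b ⟨ha, ha'⟩ ⟨hb, hb'⟩
        refine ⟨fun β hβ => ?_, fun β hβ => ?_⟩
        · rw [mul_smul]; exact ha _ (hb β hβ)
        · rw [mul_inv_rev, mul_smul]; exact hb' _ (ha' β hβ)
      one_mem' := ⟨fun β hβ => by rwa [one_smul], fun β hβ => by rwa [inv_one, one_smul]⟩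
      inv_mem' := by
        rintro a ⟨ha, ha'⟩
        exact ⟨ha', by rwa [inv_inv]⟩ }
  have hHS : stabilizer G α ≤ S := by
    intro x hx
    exact ⟨hHΔ x hx, hHΔ x⁻¹ (Subgroup.inv_mem _ hx)⟩
  have hSδ : stabilizer G δ ≤ S := by
    have key : ∀ x ∈ stabilizer G δ, ∀ β ∈ Δ, x • β ∈ Δ := by
      intro x hx β hβ
      have h1 : arcRel (G := G) α Δ β δ := by
        have : β ∈ {β | arcRel (G := G) α Δ β δ} := by rw [hDδ]; exact hβ
        exact this
      have h2 := arcRel_smul x h1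
      rw [mem_stabilizer_iff.mp hx] at h2
      have : x • β ∈ {β | arcRel (G := G) α Δ β δ} := h2
      rwa [hDδ] at this
    intro x hx
    exact ⟨key x hx, key x⁻¹ (Subgroup.inv_mem _ hx)⟩
  have hStop : S ≠ ⊤ := by
    intro h
    obtain ⟨x, hx⟩ := exists_smul_eq G ω α
    have : x ∈ S := by rw [h]; trivial
    apply hαΔ
    rw [← hx]
    exact this.1 ω hωΔ
  have hSH : S = stabilizer G α := by
    rcases eq_or_lt_of_le hHS with h | h
    · exact h.symm
    · exact absurd (hmax.2 _ h) hStop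
  have hle : stabilizer G δ ≤ stabilizer G α := by rw [← hSH]; exact hSδ
  have hcard : Nat.card (stabilizer G α) ≤ Nat.card (stabilizer G δ) := by
    obtain ⟨z, hz⟩ := exists_smul_eq G α δ
    rw [← hz, stabilizer_smul_eq_stabilizer_map_conj,
      Subgroup.card_map_of_injective (MulAut.conj z).injective]
  have heq : stabilizer G δ = stabilizer G α := Subgroup.eq_of_le_of_card_ge hle hcard
  apply hmove
  have : k₀ ∈ stabilizer G δ := by rw [heq]; exact hKH hk₀
  exact this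

end thm

end Cfsg.Agent.Helper58
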