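import Mathlib
import Cfsg.Agent.Lib.Helper58.Manning
import Cfsg.Agent.Lib.Helper58.ElemAbGL
import Cfsg.Agent.Lib.Helper70.Fitting

set_option autoImplicit false

namespace Cfsg.Agent.Helper58

open MulAction

/-- The point stabilizer `H` of an extremely primitive group, seen abstractly: `H` fixes `α`, acts
primitively on each of its orbits and faithfully on each orbit other than `{α}`. -/
structure EPStab (H : Type*) [Group H] (Ω : Type*) [MulAction H Ω] (α : Ω) : Prop where
  fix : ∀ h : H, h • α = α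
  prim : ∀ ω : Ω, IsPreprimitive H (orbit H ω)
  faith : ∀ ω : Ω, ω ≠ α → ∀ h : H, (∀ x ∈ orbit H ω, h • x = x) → h = 1

namespace EPStab

variable {H : Type*} [Group H] {Ω : Type*} [MulAction H Ω] {α : Ω}

theorem exists_smul_eq (hE : EPStab H Ω α) (N : Subgroup H) [N.Normal] (hN : N ≠ ⊥) {ω : Ω}
    (hω : ω ≠ α) (y : Ω) (hy : y ∈ orbit H ω) : ∃ n ∈ N, n • ω = y := by
  obtain ⟨n, hn1⟩ := (Subgroup.ne_bot_iff_exists_ne_one.mp hN)
  have hex : ∃ x ∈ orbit H ω, (n : H) • x ≠ x := by
    by_contra hcon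
    push Not at hcon
    exact hn1 (Subtype.ext (hE.faith ω hω n hcon))
  obtain ⟨x, ⟨h, rfl⟩, hx⟩ := hex
  refine exists_smul_eq_of_normal ω (hE.prim ω) N ⟨h⁻¹ * n * h, ?_, ?_⟩ y hy
  · exact Subgroup.Normal.conj_mem' inferInstance _ n.2 h
  · intro hfix
    apply hx
    have : h • ((h⁻¹ * (n : H) * h) • ω) = h • ω := by rw [hfix]
    rw [← mul_smul, ← mul_assoc, ← mul_assoc, mul_inv_cancel, one_mul, mul_smul] at this
    exact this

theorem eq_one_of_centralizer (hE : EPStab H Ω α) (A : Subgroup H) [A.Normal] (hA : A ≠ ⊥)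
    {ω : Ω} (hω : ω ≠ α) (c : H) (hc : c ∈ Subgroup.centralizer (A : Set H))
    (hcω : c • ω = ω) : c = 1 := by
  apply hE.faith ω hω c
  intro x hx
  obtain ⟨a, ha, rfl⟩ := hE.exists_smul_eq A hA hω x hx
  rw [← mul_smul, ← (Subgroup.mem_centralizer_iff.mp hc a ha), mul_smul, hcω]

theorem centralizer_eq (hE : EPStab H Ω α) (A : Subgroup H) [A.Normal] (hA : A ≠ ⊥)
    (hcomm : ∀ a ∈ A, ∀ b ∈ A, a * b = b * a) {ω : Ω} (hω : ω ≠ α) :
    Subgroup.centralizer (A : Set H) = A := by
  have hle : A ≤ Subgroup.centralizer (A : Set H) := by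
    intro a ha
    rw [Subgroup.mem_centralizer_iff]
    intro b hb
    exact hcomm b hb a ha
  apply le_antisymm _ hle
  intro c hc
  obtain ⟨a, ha, hac⟩ := hE.exists_smul_eq A hA hω (c • ω) (mem_orbit ω c)
  have h1 : a⁻¹ * c = 1 := by
    apply hE.eq_one_of_centralizer A hA hω
    · exact Subgroup.mul_mem _ (Subgroup.inv_mem _ (hle ha)) hc
    · rw [mul_smul, ← hac, inv_smul_smul]
  rw [inv_mul_eq_one] at h1
  rw [← h1]; exact ha

theorem card_eq_card_orbit (hE : EPStab H Ω α) (A : Subgroup H) [A.Normal] (hA : A ≠ ⊥)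
    (hcomm : ∀ a ∈ A, ∀ b ∈ A, a * b = b * a) {ω : Ω} (hω : ω ≠ α) :
    Nat.card A = Nat.card (orbit H ω) := by
  have hle : A ≤ Subgroup.centralizer (A : Set H) := by
    intro a ha
    rw [Subgroup.mem_centralizer_iff]
    intro b hb
    exact hcomm b hb a ha
  refine Nat.card_congr (Equiv.ofBijective
    (fun a : A => (⟨(a : H) • ω, mem_orbit ω (a : H)⟩ : orbit H ω)) ⟨?_, ?_⟩)
  · intro a b hab
    have hab' : (a : H) • ω = (b : H) • ω := congrArg Subtype.val hab
    have h1 : (b : H)⁻¹ * a = 1 := by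
      apply hE.eq_one_of_centralizer A hA hω
      · exact hle (A.mul_mem (A.inv_mem b.2) a.2)
      · rw [mul_smul, hab', inv_smul_smul]
    rw [inv_mul_eq_one] at h1
    exact Subtype.ext h1.symm
  · rintro ⟨y, hy⟩
    obtain ⟨a, ha, hay⟩ := hE.exists_smul_eq A hA hω y hy
    exact ⟨⟨a, ha⟩, Subtype.ext hay⟩

theorem comm_of_nilpotent (hE : EPStab H Ω α) (N : Subgroup H) [N.Normal] [Group.IsNilpotent N]
    {ω : Ω} (hω : ω ≠ α) : ∀ a ∈ N, ∀ b ∈ N, a * b = b * a := by
  by_cases hN : N = ⊥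
  · intro a ha b hb
    rw [hN, Subgroup.mem_bot] at ha hb
    rw [ha, hb]
  have hnt : Nontrivial N := (Subgroup.nontrivial_iff_ne_bot N).mpr hN
  set Z : Subgroup H := N ⊓ Subgroup.centralizer (N : Set H) with hZ
  have hZne : Z ≠ ⊥ := by
    have hc := Group.IsNilpotent.center_ne_bot (G := N)
    obtain ⟨z, hz1⟩ := (Subgroup.ne_bot_iff_exists_ne_one.mp hc)
    intro hbot
    have hzZ : ((z : N) : H) ∈ Z := by
      refine Subgroup.mem_inf.mpr ⟨(z : N).2, ?_⟩
      rw [Subgroup.mem_centralizer_iff]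
      intro b hb
      have := (Subgroup.mem_center_iff.mp z.2) ⟨b, hb⟩
      exact congrArg Subtype.val this
    rw [hbot, Subgroup.mem_bot] at hzZ
    apply hz1
    exact Subtype.ext (Subtype.ext hzZ)
  have hZcomm : ∀ a ∈ Z, ∀ b ∈ Z, a * b = b * a := by
    intro a ha b hb
    exact (Subgroup.mem_centralizer_iff.mp hb.2 a ha.1)
  have hcz := hE.centralizer_eq Z hZne hZcomm hω
  have hNle : N ≤ Z := by
    rw [← hcz]
    intro n hn
    rw [Subgroup.mem_centralizer_iff]
    intro z hz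
    exact (Subgroup.mem_centralizer_iff.mp hz.2 n hn).symm
  intro a ha b hb
  exact (Subgroup.mem_centralizer_iff.mp (hNle hb).2 a ha)

/-- a finite group in which `⊥` is a maximal subgroup has prime order -/
theorem _root_.Cfsg.Agent.Helper58.card_prime_of_isCoatom_bot {K : Type*} [Group K] [Finite K]
    (h : IsCoatom (⊥ : Subgroup K)) : (Nat.card K).Prime := by
  have hnt : Nontrivial K := by
    by_contra hcon
    rw [not_nontrivial_iff_subsingleton] at hcon
    exact h.1 (Subsingleton.elim _ _)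
  have hne1 : Nat.card K ≠ 1 := by
    intro h1
    have := (Nat.card_eq_one_iff_unique.mp h1).1
    exact not_subsingleton K this
  obtain ⟨q, hq, hqd⟩ := Nat.exists_prime_and_dvd hne1
  have : Fact q.Prime := ⟨hq⟩
  obtain ⟨x, hx⟩ := exists_prime_orderOf_dvd_card' q hqd
  have hz : Subgroup.zpowers x = ⊤ := by
    apply h.2
    rw [bot_lt_iff_ne_bot]
    intro hbot
    rw [Subgroup.zpowers_eq_bot] at hbot
    rw [hbot, orderOf_one] at hx
    exact hq.one_lt.ne hx
  have : Nat.card K = q := by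
    rw [← hx, ← Nat.card_zpowers, hz, Subgroup.card_top]
  rw [this]; exact hq

theorem center_eq_bot [Finite H] (hE : EPStab H Ω α) {ω : Ω} (hω : ω ≠ α) (hH : Nontrivial H)
    (hHp : ¬ (Nat.card H).Prime) : Subgroup.center H = ⊥ := by
  by_contra hZ
  have hcomm : ∀ a ∈ Subgroup.center H, ∀ b ∈ Subgroup.center H, a * b = b * a := by
    intro a _ b hb
    exact (Subgroup.mem_center_iff.mp hb a)
  have hcz := hE.centralizer_eq (Subgroup.center H) hZ hcomm hω
  have htop : Subgroup.centralizer ((Subgroup.center H : Subgroup H) : Set H) = ⊤ := by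
    rw [Subgroup.centralizer_eq_top_iff_subset]
  have hfree : ∀ c : H, c • ω = ω → c = 1 := by
    intro c hc
    apply hE.eq_one_of_centralizer (Subgroup.center H) hZ hω c _ hc
    rw [htop]; exact Subgroup.mem_top c
  -- nontrivial orbit
  obtain ⟨h, hh⟩ := exists_ne (1 : H)
  have hex : ∃ x ∈ orbit H ω, h • x ≠ x := by
    by_contra hcon
    push Not at hcon
    exact hh (hE.faith ω hω h hcon)
  obtain ⟨x, hx, hxh⟩ := hex
  have hnt : Nontrivial (orbit H ω) :=
    ⟨⟨⟨h • x, by
      obtain ⟨k, rfl⟩ := hx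
      exact ⟨h * k, mul_smul _ _ _⟩⟩, ⟨x, hx⟩, fun hcon => hxh (congrArg Subtype.val hcon)⟩⟩
  have := hE.prim ω
  have hco : IsCoatom (stabilizer H (⟨ω, mem_orbit_self ω⟩ : orbit H ω)) :=
    IsPreprimitive.isCoatom_stabilizer_of_isPreprimitive (G := H) _
  have hstab : stabilizer H (⟨ω, mem_orbit_self ω⟩ : orbit H ω) = ⊥ := by
    rw [eq_bot_iff]
    intro c hc
    rw [Subgroup.mem_bot]
    apply hfree
    rw [mem_stabilizer_iff] at hc
    exact congrArg Subtype.val hc
  rw [hstab] at hco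
  exact hHp (card_prime_of_isCoatom_bot hco)

/-- the elements of order dividing `p` in an abelian subgroup -/
def powKer (F : Subgroup H) (hcomm : ∀ a ∈ F, ∀ b ∈ F, a * b = b * a) (p : ℕ) : Subgroup H where
  carrier := {x | x ∈ F ∧ x ^ p = 1}
  mul_mem' := by
    rintro a b ⟨ha, ha'⟩ ⟨hb, hb'⟩
    exact ⟨F.mul_mem ha hb, by
      rw [(show Commute a b from hcomm a ha b hb).mul_pow, ha', hb', one_mul]⟩
  one_mem' := ⟨F.one_mem, one_pow _⟩
  inv_mem' := by
    rintro a ⟨ha, ha'⟩
    exact ⟨F.inv_mem ha, by rw [inv_pow, ha', inv_one]⟩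

theorem mem_powKer {F : Subgroup H} {hcomm : ∀ a ∈ F, ∀ b ∈ F, a * b = b * a} {p : ℕ} {x : H} :
    x ∈ powKer F hcomm p ↔ x ∈ F ∧ x ^ p = 1 := Iff.rfl

instance powKer_normal (F : Subgroup H) [F.Normal] (hcomm : ∀ a ∈ F, ∀ b ∈ F, a * b = b * a)
    (p : ℕ) : (powKer F hcomm p).Normal where
  conj_mem := by
    rintro x ⟨hx, hx'⟩ g
    exact ⟨Subgroup.Normal.conj_mem inferInstance x hx g, by rw [conj_pow, hx', mul_one,
      mul_inv_cancel]⟩

/-- a nontrivial abelian normal subgroup is an elementary abelian `p`-group -/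
theorem exists_prime_exponent [Finite H] (hE : EPStab H Ω α) {ω : Ω} (hω : ω ≠ α)
    (F : Subgroup H) [F.Normal] (hF : F ≠ ⊥) (hcomm : ∀ a ∈ F, ∀ b ∈ F, a * b = b * a) :
    ∃ p e : ℕ, p.Prime ∧ Nat.card F = p ^ e ∧ ∀ x ∈ F, x ^ p = 1 := by
  have hnt : Nontrivial F := (Subgroup.nontrivial_iff_ne_bot F).mpr hF
  have hne1 : Nat.card F ≠ 1 := by
    intro h1
    have := (Nat.card_eq_one_iff_unique.mp h1).1
    exact not_subsingleton F this
  obtain ⟨p, hp, hpd⟩ := Nat.exists_prime_and_dvd hne1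
  have : Fact p.Prime := ⟨hp⟩
  obtain ⟨x, hx⟩ := exists_prime_orderOf_dvd_card' p hpd
  have hKne : powKer F hcomm p ≠ ⊥ := by
    intro hbot
    have hxK : (x : H) ∈ powKer F hcomm p := by
      refine ⟨x.2, ?_⟩
      have := pow_orderOf_eq_one x
      rw [hx] at this
      exact_mod_cast congrArg Subtype.val this
    rw [hbot, Subgroup.mem_bot] at hxK
    have : x = 1 := Subtype.ext hxK
    rw [this, orderOf_one] at hx
    exact hp.one_lt.ne hx
  have hKcomm : ∀ a ∈ powKer F hcomm p, ∀ b ∈ powKer F hcomm p, a * b = b * a :=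
    fun a ha b hb => hcomm a ha.1 b hb.1
  have hKF : powKer F hcomm p ≤ F := fun x hx => hx.1
  have h1 := hE.card_eq_card_orbit (powKer F hcomm p) hKne hKcomm hω
  have h2 := hE.card_eq_card_orbit F hF hcomm hω
  have hKeq : powKer F hcomm p = F :=
    Subgroup.eq_of_le_of_card_ge hKF (by rw [h1, h2])
  have hexp : ∀ x ∈ F, x ^ p = 1 := by
    intro x hx
    rw [← hKeq] at hx
    exact hx.2
  have hpg : IsPGroup p F := by
    intro y
    refine ⟨1, ?_⟩
    rw [pow_one]
    exact Subtype.ext (by simpa using hexp y y.2)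
  obtain ⟨e, he⟩ := IsPGroup.iff_card.mp hpg
  exact ⟨p, e, hp, he, hexp⟩

end EPStab

/-- Burnside counting for an action that is free away from one fixed point. -/
theorem card_dvd_card_sub_one_of_free {F : Type*} [Group F] [Fintype F] {X : Type*} [Fintype X]
    [MulAction F X] (α : X) (hfix : ∀ f : F, f • α = α)
    (hfree : ∀ f : F, f ≠ 1 → ∀ x : X, f • x = x → x = α) :
    Fintype.card F ∣ Fintype.card X - 1 := by
  classical
  have hB := MulAction.sum_card_fixedBy_eq_card_orbits_mul_card_group F X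
  have h1 : ∀ f : F, Fintype.card (fixedBy X f) = if f = 1 then Fintype.card X else 1 := by
    intro f
    split_ifs with hf
    · subst hf
      exact Fintype.card_congr (Equiv.subtypeUnivEquiv (fun x => (one_smul F x)))
    · rw [Fintype.card_eq_one_iff]
      exact ⟨⟨α, hfix f⟩, fun ⟨y, hy⟩ => Subtype.ext (hfree f hf y hy)⟩
  simp_rw [h1] at hB
  rw [Finset.sum_ite, Finset.sum_const, Finset.sum_const, Finset.filter_eq' Finset.univ (1 : F)] at hB
  simp only [Finset.mem_univ, if_true, Finset.card_singleton, smul_eq_mul, one_mul, mul_one] at hB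
  have hcF : (Finset.filter (fun f : F => ¬ f = 1) Finset.univ).card = Fintype.card F - 1 := by
    rw [Finset.filter_not, Finset.filter_eq' Finset.univ (1 : F)]
    simp [Finset.card_sdiff, Finset.card_univ]
  rw [hcF] at hB
  have hFpos : 0 < Fintype.card F := Fintype.card_pos
  have hXpos : 0 < Fintype.card X := Fintype.card_pos_iff.mpr ⟨α⟩
  have : Fintype.card X - 1 =
      Fintype.card (Quotient (orbitRel F X)) * Fintype.card F - Fintype.card F := by
    omega
  rw [this]
  exact Nat.dvd_sub (dvd_mul_left _ _) (dvd_refl _)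

end Cfsg.Agent.Helper58
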