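import Mathlib

set_option autoImplicit false
set_option maxHeartbeats 400000

namespace Cfsg.Agent.Helper58

open Polynomial

section

variable (p : ℕ) [Fact p.Prime] {M : Type*} [AddCommGroup M] [Module (ZMod p) M]
  (τ : Module.End (ZMod p) M)

/-- `τ` acts irreducibly on the nonzero module `M`. -/
def IrrEnd : Prop :=
  Nontrivial M ∧ ∀ W : Submodule (ZMod p) M, (∀ m ∈ W, τ m ∈ W) → W = ⊥ ∨ W = ⊤

variable {p τ}

theorem IrrEnd.commute_aeval (f : (ZMod p)[X]) : Commute (aeval τ f) τ := by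
  have h : Commute f (X : (ZMod p)[X]) := (Polynomial.commute_X f).symm
  have := h.map (aeval τ : (ZMod p)[X] →ₐ[ZMod p] Module.End (ZMod p) M)
  simpa using this

theorem IrrEnd.injective_of_ne_zero (h : IrrEnd p τ) (f : (ZMod p)[X]) (hf : aeval τ f ≠ 0) :
    Function.Injective (aeval τ f) := by
  have hW := h.2 (LinearMap.ker (aeval τ f)) (by
    intro m hm
    rw [LinearMap.mem_ker] at hm ⊢
    have hc := IrrEnd.commute_aeval (τ := τ) f
    have : (aeval τ f) (τ m) = τ ((aeval τ f) m) := by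
      have := congrArg (fun g : Module.End (ZMod p) M => g m) hc.eq
      simpa using this
    rw [this, hm, map_zero])
  rcases hW with hW | hW
  · exact LinearMap.ker_eq_bot.mp hW
  · exact absurd (LinearMap.ker_eq_top.mp hW) hf

variable (p τ) in
/-- evaluation of polynomials at `τ` -/
noncomputable def ev : (ZMod p)[X] →ₐ[ZMod p] Module.End (ZMod p) M := aeval τ

theorem ev_apply (f : (ZMod p)[X]) : ev p τ f = aeval τ f := rfl

theorem IrrEnd.isMaximal_ker [Finite M] (h : IrrEnd p τ) :
    (RingHom.ker (ev p τ)).IsMaximal := by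
  have hnt := h.1
  rw [Ideal.isMaximal_iff]
  constructor
  · rw [RingHom.mem_ker, map_one]
    exact one_ne_zero
  · intro J f hIJ hf hfJ
    rw [RingHom.mem_ker, ev_apply] at hf
    have hinj := h.injective_of_ne_zero f hf
    have hbij : Function.Bijective (aeval τ f) := ⟨hinj, Finite.surjective_of_injective hinj⟩
    obtain ⟨u, hu⟩ := (Module.End.isUnit_iff _).mpr hbij
    have hfin : Finite (Module.End (ZMod p) M) :=
      Finite.of_injective (fun g : Module.End (ZMod p) M => (g : M → M)) DFunLike.coe_injective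
    have hn : 0 < orderOf u := orderOf_pos u
    have hun : (aeval τ f) ^ orderOf u = 1 := by
      rw [← hu, ← Units.val_pow_eq_pow_val, pow_orderOf_eq_one, Units.val_one]
    have hmem : f ^ orderOf u - 1 ∈ RingHom.ker (ev p τ) := by
      rw [RingHom.mem_ker, map_sub, map_pow, map_one, ev_apply, hun, sub_self]
    have h1 : f ^ orderOf u ∈ J := Ideal.pow_mem_of_mem J hfJ _ hn
    have h2 : f ^ orderOf u - 1 ∈ J := hIJ hmem
    have : (1 : (ZMod p)[X]) = f ^ orderOf u - (f ^ orderOf u - 1) := by ring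
    rw [this]
    exact J.sub_mem h1 h2

variable (p τ)

/-- the quotient ring `F_p[X] / ker (f ↦ f(τ))`, which is `F_p[τ]` -/
abbrev KF : Type _ :=
  (ZMod p)[X] ⧸ RingHom.ker (ev p τ)

/-- the embedding of `F_p[τ]` in the endomorphism ring -/
noncomputable def ιK : KF p τ →ₐ[ZMod p] Module.End (ZMod p) M := Ideal.kerLiftAlg (ev p τ)

theorem ιK_injective : Function.Injective (ιK p τ) := Ideal.kerLiftAlg_injective _

theorem ιK_mk (f : (ZMod p)[X]) :
    ιK p τ (Ideal.Quotient.mk _ f) = aeval τ f := rfl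

variable {p τ}

theorem IrrEnd.ιK_apply_injective (h : IrrEnd p τ) (k : KF p τ) (hk : k ≠ 0) :
    Function.Injective (ιK p τ k) := by
  obtain ⟨f, rfl⟩ := Ideal.Quotient.mk_surjective k
  rw [ιK_mk]
  apply h.injective_of_ne_zero
  intro h0
  apply hk
  apply ιK_injective p τ
  rw [ιK_mk, h0, map_zero]

theorem IrrEnd.card_KF [Finite M] (h : IrrEnd p τ) : Nat.card (KF p τ) = Nat.card M := by
  have hnt := h.1
  obtain ⟨m₀, hm₀⟩ := exists_ne (0 : M)
  let φ : KF p τ →ₗ[ZMod p] M :=
    (LinearMap.applyₗ m₀).comp (ιK p τ).toLinearMap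
  have hφ : ∀ k, φ k = ιK p τ k m₀ := fun k => rfl
  have hinj : Function.Injective φ := by
    rw [← LinearMap.ker_eq_bot, LinearMap.ker_eq_bot']
    intro k hk
    by_contra hk0
    rw [hφ] at hk
    have := h.ιK_apply_injective k hk0 (by rw [hk, map_zero] : ιK p τ k m₀ = ιK p τ k 0)
    exact hm₀ this
  have hsurj : Function.Surjective φ := by
    rw [← LinearMap.range_eq_top]
    rcases h.2 (LinearMap.range φ) (by
      rintro m ⟨k, rfl⟩
      refine ⟨Ideal.Quotient.mk _ X * k, ?_⟩
      rw [hφ, hφ, map_mul, ιK_mk, aeval_X]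
      rfl) with hW | hW
    · exfalso
      have : m₀ ∈ LinearMap.range φ := ⟨1, by rw [hφ, map_one]; rfl⟩
      rw [hW, Submodule.mem_bot] at this
      exact hm₀ this
    · exact hW
  exact Nat.card_congr (Equiv.ofBijective φ ⟨hinj, hsurj⟩)

theorem pow_char_pow_eq_expand (f : (ZMod p)[X]) (i : ℕ) :
    f ^ (p ^ i) = expand (ZMod p) (p ^ i) f := by
  induction i with
  | zero => simp
  | succ i ih =>
    rw [pow_succ, pow_mul, ih, ← ZMod.expand_card, expand_expand, mul_comm]

theorem IrrEnd.pow_eq_self_of_pow_eq (i : ℕ) (hτ : τ ^ (p ^ i) = τ) (k : KF p τ) :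
    k ^ (p ^ i) = k := by
  obtain ⟨f, rfl⟩ := Ideal.Quotient.mk_surjective k
  apply ιK_injective p τ
  rw [← map_pow, ιK_mk, ιK_mk, pow_char_pow_eq_expand, expand_aeval, hτ]

theorem IrrEnd.le_of_pow_eq [Finite M] (h : IrrEnd p τ) (d : ℕ) (hcard : Nat.card M = p ^ d)
    (i : ℕ) (hi : 0 < i) (hτ : τ ^ (p ^ i) = τ) : d ≤ i := by
  classical
  have hp : p.Prime := Fact.out
  have hmax := h.isMaximal_ker
  let _inst : Field (KF p τ) := Ideal.Quotient.field _
  have hcK : Nat.card (KF p τ) = p ^ d := by rw [h.card_KF, hcard]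
  have hfin : Finite (KF p τ) := Nat.finite_of_card_ne_zero (by rw [hcK]; exact pow_ne_zero _ hp.ne_zero)
  have hft : Fintype (KF p τ) := Fintype.ofFinite _
  by_contra hlt
  rw [not_le] at hlt
  have hne : (X ^ p ^ i - X : (KF p τ)[X]) ≠ 0 :=
    FiniteField.X_pow_card_pow_sub_X_ne_zero (KF p τ) hi.ne' hp.one_lt
  apply hne
  apply eq_zero_of_natDegree_lt_card_of_eval_eq_zero (f := fun k : KF p τ => k)
    (X ^ p ^ i - X : (KF p τ)[X]) (fun _ _ hab => hab)
  · intro k
    rw [eval_sub, eval_pow, eval_X, IrrEnd.pow_eq_self_of_pow_eq i hτ, sub_self]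
  · rw [FiniteField.X_pow_card_pow_sub_X_natDegree_eq (KF p τ) hi.ne' hp.one_lt,
      ← Nat.card_eq_fintype_card, hcK]
    exact Nat.pow_lt_pow_right hp.one_lt hlt

/-- conjugation by a unit, as an algebra endomorphism of `End M` -/
def conjAlg (u : (Module.End (ZMod p) M)ˣ) :
    Module.End (ZMod p) M →ₐ[ZMod p] Module.End (ZMod p) M where
  toFun a := u * a * ↑u⁻¹
  map_one' := by simp
  map_mul' a b := by
    simp only [mul_assoc]
    congr 2
    rw [← mul_assoc (↑u⁻¹ : Module.End (ZMod p) M), Units.inv_mul, one_mul]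
  map_zero' := by simp
  map_add' a b := by simp [mul_add, add_mul]
  commutes' r := by
    rw [← Algebra.commutes r (u : Module.End (ZMod p) M), mul_assoc, Units.mul_inv, mul_one]

theorem conjAlg_apply (u : (Module.End (ZMod p) M)ˣ) (a : Module.End (ZMod p) M) :
    conjAlg u a = u * a * ↑u⁻¹ := rfl

theorem conjAlg_mul (u v : (Module.End (ZMod p) M)ˣ) (a : Module.End (ZMod p) M) :
    conjAlg (u * v) a = conjAlg u (conjAlg v a) := by
  simp only [conjAlg_apply, Units.val_mul, mul_inv_rev, mul_assoc]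

theorem conjAlg_one (a : Module.End (ZMod p) M) : conjAlg (1 : (Module.End (ZMod p) M)ˣ) a = a := by
  simp [conjAlg_apply]

theorem exists_conj (u : (Module.End (ZMod p) M)ˣ) (hu : ∃ g : (ZMod p)[X], aeval τ g = conjAlg u τ)
    (k : KF p τ) : ∃ k' : KF p τ, ιK p τ k' = conjAlg u (ιK p τ k) := by
  obtain ⟨g, hg⟩ := hu
  obtain ⟨f, rfl⟩ := Ideal.Quotient.mk_surjective k
  refine ⟨Ideal.Quotient.mk _ (aeval g f), ?_⟩
  rw [ιK_mk, ιK_mk]
  have h1 : aeval τ (aeval g f) = aeval (aeval τ g) f :=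
    (aeval_algHom_apply (aeval τ : (ZMod p)[X] →ₐ[ZMod p] Module.End (ZMod p) M) g f).symm
  rw [h1, hg, aeval_algHom_apply]

/-- the automorphism of `F_p[τ]` induced by a unit normalizing it -/
noncomputable def θK (u : (Module.End (ZMod p) M)ˣ)
    (hu : ∃ g : (ZMod p)[X], aeval τ g = conjAlg u τ) : KF p τ →ₐ[ZMod p] KF p τ where
  toFun k := (exists_conj u hu k).choose
  map_one' := by
    apply ιK_injective p τ
    rw [(exists_conj u hu 1).choose_spec, map_one, map_one]
  map_mul' a b := by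
    apply ιK_injective p τ
    rw [(exists_conj u hu (a * b)).choose_spec, map_mul, map_mul, map_mul,
      (exists_conj u hu a).choose_spec, (exists_conj u hu b).choose_spec]
  map_zero' := by
    apply ιK_injective p τ
    rw [(exists_conj u hu 0).choose_spec, map_zero, map_zero]
  map_add' a b := by
    apply ιK_injective p τ
    rw [(exists_conj u hu (a + b)).choose_spec, map_add, map_add, map_add,
      (exists_conj u hu a).choose_spec, (exists_conj u hu b).choose_spec]
  commutes' r := by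
    apply ιK_injective p τ
    rw [(exists_conj u hu _).choose_spec, AlgHom.commutes, AlgHom.commutes]

theorem ιK_θK (u : (Module.End (ZMod p) M)ˣ)
    (hu : ∃ g : (ZMod p)[X], aeval τ g = conjAlg u τ) (k : KF p τ) :
    ιK p τ (θK u hu k) = conjAlg u (ιK p τ k) :=
  (exists_conj u hu k).choose_spec

theorem IrrEnd.exists_hom_cyclic [Finite M] (h : IrrEnd p τ) (d : ℕ) (hcard : Nat.card M = p ^ d)
    {Y : Type*} [Group Y] (ρ : Y →* (Module.End (ZMod p) M)ˣ)
    (hnorm : ∀ x, ∃ g : (ZMod p)[X], aeval τ g = conjAlg (ρ x) τ) :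
    ∃ (C : Type) (_ : Group C) (_ : IsCyclic C), Nat.card C = d ∧
      ∃ Θ : Y →* C, ∀ x, Θ x = 1 ↔ conjAlg (ρ x) τ = τ := by
  classical
  have hp : p.Prime := Fact.out
  have hmax := h.isMaximal_ker
  let _inst : Field (KF p τ) := Ideal.Quotient.field _
  have hcK : Nat.card (KF p τ) = p ^ d := by rw [h.card_KF, hcard]
  have hfin : Finite (KF p τ) := Nat.finite_of_card_ne_zero (by rw [hcK]; exact pow_ne_zero _ hp.ne_zero)
  let Θ' : Y →* (KF p τ →ₐ[ZMod p] KF p τ) :=
    { toFun := fun x => θK (ρ x) (hnorm x)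
      map_one' := by
        apply AlgHom.ext
        intro k
        apply ιK_injective p τ
        rw [ιK_θK, AlgHom.one_apply]
        have : ρ 1 = 1 := map_one ρ
        rw [this, conjAlg_one]
      map_mul' := by
        intro x y
        apply AlgHom.ext
        intro k
        apply ιK_injective p τ
        rw [ιK_θK, AlgHom.mul_apply, ιK_θK, ιK_θK]
        have : ρ (x * y) = ρ x * ρ y := map_mul ρ x y
        rw [this, conjAlg_mul] }
  let Θ : Y →* (KF p τ ≃ₐ[ZMod p] KF p τ) :=
    (AlgEquiv.algHomUnitsEquiv (ZMod p) (KF p τ)).toMonoidHom.comp Θ'.toHomUnits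
  have hΘ : ∀ x k, Θ x k = θK (ρ x) (hnorm x) k := fun x k => rfl
  refine ⟨KF p τ ≃ₐ[ZMod p] KF p τ, inferInstance, inferInstance, ?_, Θ, ?_⟩
  · have hb := FiniteField.bijective_frobeniusAlgEquivOfAlgebraic_pow (ZMod p) (KF p τ)
    have h1 := Nat.card_eq_of_bijective _ hb
    rw [Nat.card_fin] at h1
    rw [← h1]
    have hft : Fintype (KF p τ) := Fintype.ofFinite _
    have h2 := Module.card_eq_pow_finrank (K := ZMod p) (V := KF p τ)
    rw [ZMod.card, ← Nat.card_eq_fintype_card, hcK] at h2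
    exact (Nat.pow_right_injective hp.two_le h2).symm
  · intro x
    constructor
    · intro h1
      have h2 : Θ x (Ideal.Quotient.mk _ X) = Ideal.Quotient.mk _ X := by rw [h1]; rfl
      rw [hΘ] at h2
      have h3 := congrArg (ιK p τ) h2
      rw [ιK_θK, ιK_mk, aeval_X] at h3
      exact h3
    · intro h1
      apply AlgEquiv.ext
      intro k
      rw [hΘ, AlgEquiv.one_apply]
      apply ιK_injective p τ
      rw [ιK_θK]
      obtain ⟨f, rfl⟩ := Ideal.Quotient.mk_surjective k
      rw [ιK_mk, ← aeval_algHom_apply, h1]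

end

end Cfsg.Agent.Helper58
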