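import Mathlib
import Cfsg.Agent.Lib.Helper58.ExtPrim
import Cfsg.Agent.Lib.Helper58.IrrCyclic

set_option autoImplicit false

namespace Cfsg.Agent.Helper58

open MulAction
open scoped commutatorElement

section prim

variable {G : Type*} [Group G] {Ω : Type*} [MulAction G Ω] [FaithfulSMul G Ω]

/-- a nontrivial normal subgroup of a faithful primitive group is transitive -/
theorem prim_exists_smul_eq (hprim : IsPreprimitive G Ω) (N : Subgroup G) [N.Normal]
    (hN : N ≠ ⊥) (x y : Ω) : ∃ n ∈ N, n • x = y := by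
  have hq : IsQuasiPreprimitive G Ω := inferInstance
  have hne : fixedPoints N Ω ≠ Set.univ := by
    intro h
    apply hN
    rw [eq_bot_iff]
    intro n hn
    rw [Subgroup.mem_bot]
    apply FaithfulSMul.eq_of_smul_eq_smul (α := Ω)
    intro z
    have hz : z ∈ fixedPoints N Ω := by rw [h]; trivial
    rw [mem_fixedPoints] at hz
    rw [one_smul]
    exact hz ⟨n, hn⟩
  have htr : IsPretransitive N Ω := hq.isPretransitive_of_normal hne
  obtain ⟨n, hn⟩ := htr.exists_smul_eq x y
  exact ⟨n.1, n.2, hn⟩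

/-- an abelian normal subgroup of a faithful primitive group is semiregular -/
theorem prim_abelian_free (hprim : IsPreprimitive G Ω) (A : Subgroup G) [A.Normal]
    (hA : A ≠ ⊥) (hcomm : ∀ a ∈ A, ∀ b ∈ A, a * b = b * a) (a : G) (ha : a ∈ A) (x : Ω)
    (hax : a • x = x) : a = 1 := by
  apply FaithfulSMul.eq_of_smul_eq_smul (α := Ω)
  intro y
  obtain ⟨b, hb, rfl⟩ := prim_exists_smul_eq hprim A hA x y
  rw [one_smul, ← mul_smul, hcomm a ha b hb, mul_smul, hax]

/-- an abelian normal subgroup of a faithful primitive group is regular -/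
theorem prim_abelian_card [Fintype Ω] (hprim : IsPreprimitive G Ω) (A : Subgroup G)
    [A.Normal] (hA : A ≠ ⊥) (hcomm : ∀ a ∈ A, ∀ b ∈ A, a * b = b * a) (x : Ω) :
    Nat.card A = Fintype.card Ω := by
  rw [← Nat.card_eq_fintype_card]
  refine Nat.card_congr (Equiv.ofBijective (fun a : A => (a : G) • x) ⟨?_, ?_⟩)
  · intro a b hab
    have hab' : (a : G) • x = (b : G) • x := hab
    have h1 : (b : G)⁻¹ * a = 1 := by
      apply prim_abelian_free hprim A hA hcomm _ (A.mul_mem (A.inv_mem b.2) a.2) x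
      rw [mul_smul, hab', inv_smul_smul]
    rw [inv_mul_eq_one] at h1
    exact Subtype.ext h1.symm
  · intro y
    obtain ⟨a, ha, hay⟩ := prim_exists_smul_eq hprim A hA x y
    exact ⟨⟨a, ha⟩, hay⟩

end prim

/-- a nontrivial solvable group has a nontrivial abelian normal subgroup -/
theorem exists_abelian_normal_of_solvable (K : Type*) [Group K] [Group.IsSolvable K] [Nontrivial K] :
    ∃ A : Subgroup K, A.Normal ∧ A ≠ ⊥ ∧ ∀ a ∈ A, ∀ b ∈ A, a * b = b * a := by
  classical
  have hs : ∃ n : ℕ, derivedSeries K n = ⊥ := Group.IsSolvable.solvable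
  have hspec := Nat.find_spec hs
  have hmin : ∀ m, m < Nat.find hs → ¬ derivedSeries K m = ⊥ := fun m hm => Nat.find_min hs hm
  cases hk : Nat.find hs with
  | zero =>
    rw [hk, derivedSeries_zero] at hspec
    exact absurd hspec top_ne_bot
  | succ m =>
    refine ⟨derivedSeries K m, derivedSeries_normal K m, ?_, ?_⟩
    · exact hmin m (by omega)
    · intro a ha b hb
      rw [hk, derivedSeries_succ] at hspec
      have : ⁅a, b⁆ ∈ ⁅derivedSeries K m, derivedSeries K m⁆ :=
        Subgroup.commutator_mem_commutator ha hb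
      rw [hspec, Subgroup.mem_bot, commutatorElement_eq_one_iff_mul_comm] at this
      exact this

/-- a finite solvable primitive group has a regular normal elementary abelian subgroup -/
theorem exists_regular_normal {G : Type*} [Group G] [Finite G] {Ω : Type*} [Fintype Ω]
    [MulAction G Ω] [FaithfulSMul G Ω] [Group.IsSolvable G] (p d : ℕ) (hp : p.Prime)
    (hcard : Fintype.card Ω = p ^ d) (hd : 1 ≤ d) (hprim : IsPreprimitive G Ω) (x : Ω) :
    ∃ V : Subgroup G, V.Normal ∧ V ≠ ⊥ ∧ (∀ a ∈ V, ∀ b ∈ V, a * b = b * a) ∧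
      (∀ v ∈ V, v ^ p = 1) := by
  have hnt : Nontrivial G := by
    by_contra hcon
    rw [not_nontrivial_iff_subsingleton] at hcon
    have hΩ : Nontrivial Ω := by
      rw [← Fintype.one_lt_card_iff_nontrivial, hcard]
      exact Nat.one_lt_pow (by omega) hp.one_lt
    obtain ⟨y, hy⟩ := exists_ne x
    obtain ⟨g, hg⟩ := hprim.toIsPretransitive.exists_smul_eq x y
    apply hy
    rw [← hg, Subsingleton.elim g 1, one_smul]
  obtain ⟨A, hAn, hA, hcomm⟩ := exists_abelian_normal_of_solvable G
  have hcA : Nat.card A = p ^ d := by rw [prim_abelian_card hprim A hA hcomm x, hcard]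
  have : Fact p.Prime := ⟨hp⟩
  have hpd : p ∣ Nat.card A := by rw [hcA]; exact dvd_pow_self p (by omega)
  obtain ⟨a, ha⟩ := exists_prime_orderOf_dvd_card' p hpd
  have hKne : EPStab.powKer A hcomm p ≠ ⊥ := by
    intro hbot
    have haK : (a : G) ∈ EPStab.powKer A hcomm p := by
      refine ⟨a.2, ?_⟩
      have := pow_orderOf_eq_one a
      rw [ha] at this
      exact_mod_cast congrArg Subtype.val this
    rw [hbot, Subgroup.mem_bot] at haK
    have : a = 1 := Subtype.ext haK
    rw [this, orderOf_one] at ha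
    exact hp.one_lt.ne ha
  have hKcomm : ∀ a ∈ EPStab.powKer A hcomm p, ∀ b ∈ EPStab.powKer A hcomm p, a * b = b * a :=
    fun a ha b hb => hcomm a ha.1 b hb.1
  exact ⟨EPStab.powKer A hcomm p, inferInstance, hKne, hKcomm, fun v hv => hv.2⟩

section fpf

variable {A : Type*} [CommGroup A] {T : Type*} [CommGroup T] (c : T →* MulAut A) (q : ℕ)

/-- the norm `∏_{i<q} s^i • v` -/
def normOp (s : T) (v : A) : A := ∏ i ∈ Finset.range q, c (s ^ i) v

theorem normOp_eq_one (hT : ∀ t : T, t ^ q = 1)
    (hfpf : ∀ t : T, t ≠ 1 → ∀ v : A, c t v = v → v = 1) (s : T) (hs : s ≠ 1) (v : A) :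
    normOp c q s v = 1 := by
  apply hfpf s hs
  unfold normOp
  rw [map_prod]
  have h1 : ∀ i, c s (c (s ^ i) v) = c (s ^ (i + 1)) v := by
    intro i
    rw [pow_succ', map_mul, MulAut.mul_apply]
  simp_rw [h1]
  have h2 := Finset.prod_range_succ' (fun i => c (s ^ i) v) q
  have h3 := Finset.prod_range_succ (fun i => c (s ^ i) v) q
  rw [h3] at h2
  simp only [pow_zero, hT s, map_one, MulAut.one_apply] at h2
  exact (mul_right_cancel h2).symm

theorem pow_eq_one_of_fpf (hq : q.Prime) (hT : ∀ t : T, t ^ q = 1)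
    (hfpf : ∀ t : T, t ≠ 1 → ∀ v : A, c t v = v → v = 1) (a b : T) (hb : b ≠ 1)
    (ha : a ∉ Subgroup.zpowers b) (v : A) : v ^ q = 1 := by
  have hab : ∀ j : ℕ, a * b ^ j ≠ 1 := by
    intro j h
    apply ha
    have : a = (b ^ j)⁻¹ := eq_inv_of_mul_eq_one_left h
    rw [this]
    exact Subgroup.inv_mem _ (Subgroup.pow_mem _ (Subgroup.mem_zpowers b) j)
  have hbi : ∀ i : ℕ, 0 < i → i < q → b ^ i ≠ 1 := by
    intro i hi0 hiq h
    have : Fact q.Prime := ⟨hq⟩
    have hord : orderOf b = q := orderOf_eq_prime (hT b) hb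
    have := orderOf_dvd_of_pow_eq_one h
    rw [hord] at this
    exact absurd (Nat.le_of_dvd hi0 this) (by omega)
  have h1 : ∏ j ∈ Finset.range q, normOp c q (a * b ^ j) v = 1 := by
    apply Finset.prod_eq_one
    intro j _
    exact normOp_eq_one c q hT hfpf _ (hab j) v
  have h2 : ∏ j ∈ Finset.range q, normOp c q (a * b ^ j) v =
      ∏ i ∈ Finset.range q, c (a ^ i) (normOp c q (b ^ i) v) := by
    unfold normOp
    rw [Finset.prod_comm]
    apply Finset.prod_congr rfl
    intro i _
    rw [map_prod]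
    apply Finset.prod_congr rfl
    intro j _
    rw [← MulAut.mul_apply, ← map_mul, mul_pow, ← pow_mul, ← pow_mul, mul_comm j i]
  rw [h2] at h1
  rw [Finset.prod_eq_single 0] at h1
  · simpa [normOp] using h1
  · intro i hi hi0
    rw [normOp_eq_one c q hT hfpf _ (hbi i (Nat.pos_of_ne_zero hi0) (Finset.mem_range.mp hi)) v,
      map_one]
  · intro h
    exfalso
    apply h
    rw [Finset.mem_range]
    exact hq.pos

end fpf

section endo

variable (p : ℕ) [Fact p.Prime] {A : Type*} [CommGroup A] [Module (ZMod p) (Additive A)]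
  {Y : Type*} [Group Y]

/-- the linear action on `Additive A` coming from an action by automorphisms -/
noncomputable def endOfMulAut (c : Y →* MulAut A) : Y →* Module.End (ZMod p) (Additive A) where
  toFun h := AddMonoidHom.toZModLinearMap p (MonoidHom.toAdditive (c h).toMonoidHom)
  map_one' := by
    ext x
    induction x using Additive.rec with
    | ofMul a => simp
  map_mul' := by
    intro h k
    ext x
    induction x using Additive.rec with
    | ofMul a => simp

theorem endOfMulAut_apply (c : Y →* MulAut A) (y : Y) (a : A) :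
    endOfMulAut p c y (Additive.ofMul a) = Additive.ofMul (c y a) := rfl

theorem endOfMulAut_eq_iff (c : Y →* MulAut A) (y z : Y) :
    endOfMulAut p c y = endOfMulAut p c z ↔ c y = c z := by
  constructor
  · intro h
    ext a
    have := congrArg (fun f : Module.End (ZMod p) (Additive A) => f (Additive.ofMul a)) h
    exact this
  · intro h
    ext x
    induction x using Additive.rec with
    | ofMul a =>
      rw [endOfMulAut_apply, endOfMulAut_apply, h]

/-- irreducibility of the group action gives irreducibility of the linear map -/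
theorem irrEnd_of_mulAut [Nontrivial A] (c : Y →* MulAut A) (y : Y)
    (hirr : ∀ W : Subgroup A, (∀ w ∈ W, c y w ∈ W) → W = ⊥ ∨ W = ⊤) :
    IrrEnd p (endOfMulAut p c y) := by
  refine ⟨inferInstanceAs (Nontrivial A), ?_⟩
  intro W hW
  rcases hirr (AddSubgroup.toSubgroup' W.toAddSubgroup) (by
    intro w hw
    rw [AddSubgroup.mem_toSubgroup'] at hw ⊢
    exact hW _ hw) with h | h
  · left
    rw [eq_bot_iff]
    intro x hx
    induction x using Additive.rec with
    | ofMul a =>
      have : a ∈ AddSubgroup.toSubgroup' W.toAddSubgroup := by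
        rw [AddSubgroup.mem_toSubgroup']; exact hx
      rw [h, Subgroup.mem_bot] at this
      rw [this]; exact Submodule.zero_mem _
  · right
    rw [eq_top_iff]
    intro x _
    induction x using Additive.rec with
    | ofMul a =>
      have : a ∈ AddSubgroup.toSubgroup' W.toAddSubgroup := by rw [h]; exact Subgroup.mem_top a
      rw [AddSubgroup.mem_toSubgroup'] at this
      exact this

end endo

section assembly

variable {G : Type*} [Group G] [Finite G] {Ω : Type*} [Fintype Ω] [MulAction G Ω]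
  [FaithfulSMul G Ω]

theorem epstab_of_hep (hprim : IsPreprimitive G Ω)
    (hep : ∀ (α ω : Ω), IsPreprimitive (stabilizer G α) (orbit (stabilizer G α) ω)) (α : Ω) :
    EPStab (stabilizer G α) Ω α := by
  refine ⟨fun h => h.2, fun ω => hep α ω, ?_⟩
  intro ω hω h hh
  have hm := manning hprim hep α ω hω
  have : (h : G) ∈ kerOn (stabilizer G α) (orbit (stabilizer G α) ω) := ⟨h.2, fun x hx => hh x hx⟩
  rw [hm, Subgroup.mem_bot] at this
  exact Subtype.ext this

omit [Finite G] [Fintype Ω] in
theorem eq_one_of_centralizes (hprim : IsPreprimitive G Ω) (V : Subgroup G) [V.Normal]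
    (hV : V ≠ ⊥) (α : Ω) (x : G) (hx : x • α = α) (hc : ∀ v ∈ V, x * v * x⁻¹ = v) : x = 1 := by
  apply FaithfulSMul.eq_of_smul_eq_smul (α := Ω)
  intro y
  obtain ⟨v, hv, rfl⟩ := prim_exists_smul_eq hprim V hV α y
  rw [one_smul]
  have h1 : x * v = v * x := by
    have := hc v hv
    rw [mul_inv_eq_iff_eq_mul] at this
    exact this
  rw [← mul_smul, h1, mul_smul, hx]

theorem irr_grp (hprim : IsPreprimitive G Ω) (V : Subgroup G) [V.Normal] (hV : V ≠ ⊥)
    (hVcomm : ∀ a ∈ V, ∀ b ∈ V, a * b = b * a) (α : Ω) (b : G) (hbα : b • α = α)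
    (htr : ∀ ω : Ω, ω ≠ α → ∀ h : G, h • α = α → ∃ k : ℕ, b ^ k • ω = h • ω)
    (W : Subgroup G) (hWV : W ≤ V) (hWb : ∀ w ∈ W, b * w * b⁻¹ ∈ W) : W = ⊥ ∨ W = V := by
  by_cases hW : W = ⊥
  · left; exact hW
  right
  have hWcomm : ∀ a ∈ W, ∀ b ∈ W, a * b = b * a := fun a ha b hb => hVcomm a (hWV ha) b (hWV hb)
  have hbk : ∀ (k : ℕ) (w : G), w ∈ W → b ^ k * w * (b ^ k)⁻¹ ∈ W := by
    intro k
    induction k with
    | zero => intro w hw; simpa using hw
    | succ k ih =>
      intro w hw
      have := hWb _ (ih w hw)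
      have h2 : b ^ (k + 1) * w * (b ^ (k + 1))⁻¹ = b * (b ^ k * w * (b ^ k)⁻¹) * b⁻¹ := by
        rw [pow_succ']; group
      rw [h2]; exact this
  have hbkα : ∀ k : ℕ, (b ^ k)⁻¹ • α = α := by
    intro k
    rw [inv_smul_eq_iff]
    induction k with
    | zero => simp
    | succ k ih => rw [pow_succ, mul_smul, hbα]; exact ih
  have hHW : ∀ h : G, h • α = α → ∀ w ∈ W, h * w * h⁻¹ ∈ W := by
    intro h hh w hw
    by_cases hw1 : w = 1
    · rw [hw1]; simp
    have hω : w • α ≠ α := by
      intro hfix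
      exact hw1 (prim_abelian_free hprim V hV hVcomm w (hWV hw) α hfix)
    obtain ⟨k, hk⟩ := htr (w • α) hω h hh
    have h1 : (b ^ k * w * (b ^ k)⁻¹) • α = (h * w * h⁻¹) • α := by
      rw [mul_smul, mul_smul, hbkα, hk, mul_smul, mul_smul]
      congr 2
      rw [eq_inv_smul_iff, hh]
    have hu1 : b ^ k * w * (b ^ k)⁻¹ ∈ V := Subgroup.Normal.conj_mem inferInstance w (hWV hw) _
    have hu2 : h * w * h⁻¹ ∈ V := Subgroup.Normal.conj_mem inferInstance w (hWV hw) _
    have h2 : (h * w * h⁻¹)⁻¹ * (b ^ k * w * (b ^ k)⁻¹) = 1 := by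
      apply prim_abelian_free hprim V hV hVcomm _ (V.mul_mem (V.inv_mem hu2) hu1) α
      rw [mul_smul, h1, inv_smul_smul]
    rw [inv_mul_eq_one] at h2
    rw [h2]
    exact hbk k w hw
  have hWn : W.Normal := by
    constructor
    intro w hw g
    obtain ⟨v, hv, hvg⟩ := prim_exists_smul_eq hprim V hV α (g • α)
    have hh : (v⁻¹ * g) • α = α := by rw [mul_smul, ← hvg, inv_smul_smul]
    have h1 := hHW _ hh w hw
    have h2 : g * w * g⁻¹ = v * ((v⁻¹ * g) * w * (v⁻¹ * g)⁻¹) * v⁻¹ := by group
    rw [h2]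
    have h3 : v * ((v⁻¹ * g) * w * (v⁻¹ * g)⁻¹) = ((v⁻¹ * g) * w * (v⁻¹ * g)⁻¹) * v :=
      hVcomm _ hv _ (hWV h1)
    rw [h3, mul_assoc, mul_inv_cancel, mul_one]
    exact h1
  have c1 := prim_abelian_card hprim W hW hWcomm α
  have c2 := prim_abelian_card hprim V hV hVcomm α
  exact Subgroup.eq_of_le_of_card_ge hWV (by rw [c1, c2])

end assembly

end Cfsg.Agent.Helper58
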