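import Mathlib
import Cfsg.Agent.Lib.Helper58.SolvEP
import Cfsg.Agent.Lib.Helper59.Derangement
import Cfsg.Agent.Lib.Helper12.Sharp2

set_option autoImplicit false

/-! Conjugacy classes of derangements in primitive groups: general tools and the affine case. -/

namespace Cfsg.Agent.Helper58

open MulAction

section basics

variable {G : Type*} [Group G] {Ω : Type*} [MulAction G Ω]

/-- the type of conjugacy classes of derangements -/
abbrev DC (G : Type*) [Group G] (Ω : Type*) [MulAction G Ω] : Type _ :=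
  {c : ConjClasses G // ∃ g : G, ConjClasses.mk g = c ∧ ∀ ω : Ω, g • ω ≠ ω}

theorem der_conj {g : G} (h : ∀ ω : Ω, g • ω ≠ ω) (k : G) : ∀ ω : Ω, (k * g * k⁻¹) • ω ≠ ω := by
  intro c hc
  apply h (k⁻¹ • c)
  rw [mul_smul, mul_smul] at hc
  have := congrArg (fun x => k⁻¹ • x) hc
  simpa using this

theorem der_of_isConj {g h : G} (hg : ∀ ω : Ω, g • ω ≠ ω) (hc : IsConj g h) :
    ∀ ω : Ω, h • ω ≠ ω := by
  obtain ⟨k, rfl⟩ := isConj_iff.mp hc
  exact der_conj hg k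

theorem der_of_pow_der {g : G} {n : ℕ} (h : ∀ ω : Ω, (g ^ n) • ω ≠ ω) : ∀ ω : Ω, g • ω ≠ ω := by
  intro ω hω
  apply h ω
  clear h
  induction n with
  | zero => simp
  | succ k ih => rw [pow_succ, mul_smul, hω, ih]

theorem der_ne_one [Nonempty Ω] {g : G} (h : ∀ ω : Ω, g • ω ≠ ω) : g ≠ 1 := by
  rintro rfl
  obtain ⟨ω⟩ := ‹Nonempty Ω›
  exact h ω (one_smul _ _)

/-- lower bound for the number of classes of derangements -/
theorem le_card_DC [Finite G] (k : ℕ) (f : Fin k → G) (hder : ∀ i, ∀ ω : Ω, f i • ω ≠ ω)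
    (hnc : ∀ i j, IsConj (f i) (f j) → i = j) : k ≤ Nat.card (DC G Ω) := by
  have hinj : Function.Injective
      (fun i : Fin k => (⟨ConjClasses.mk (f i), f i, rfl, hder i⟩ : DC G Ω)) := by
    intro i j hij
    have h1 : ConjClasses.mk (f i) = ConjClasses.mk (f j) := congrArg Subtype.val hij
    exact hnc i j (ConjClasses.mk_eq_mk_iff_isConj.mp h1)
  have := Nat.card_le_card_of_injective _ hinj
  simpa using this

theorem two_le_card_DC [Finite G] {g₁ g₂ : G} (h₁ : ∀ ω : Ω, g₁ • ω ≠ ω)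
    (h₂ : ∀ ω : Ω, g₂ • ω ≠ ω) (h : ¬ IsConj g₁ g₂) : 2 ≤ Nat.card (DC G Ω) := by
  apply le_card_DC 2 ![g₁, g₂]
  · intro i; fin_cases i
    · exact h₁
    · exact h₂
  · intro i j hij
    fin_cases i <;> fin_cases j
    · rfl
    · exact absurd hij h
    · exact absurd hij.symm h
    · rfl

theorem three_le_card_DC [Finite G] {g₁ g₂ g₃ : G} (h₁ : ∀ ω : Ω, g₁ • ω ≠ ω)
    (h₂ : ∀ ω : Ω, g₂ • ω ≠ ω) (h₃ : ∀ ω : Ω, g₃ • ω ≠ ω) (h12 : ¬ IsConj g₁ g₂)
    (h13 : ¬ IsConj g₁ g₃) (h23 : ¬ IsConj g₂ g₃) : 3 ≤ Nat.card (DC G Ω) := by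
  apply le_card_DC 3 ![g₁, g₂, g₃]
  · intro i; fin_cases i
    · exact h₁
    · exact h₂
    · exact h₃
  · intro i j hij
    fin_cases i <;> fin_cases j
    · rfl
    · exact absurd hij h12
    · exact absurd hij h13
    · exact absurd hij.symm h12
    · rfl
    · exact absurd hij h23
    · exact absurd hij.symm h13
    · exact absurd hij.symm h23
    · rfl

theorem isConj_of_card_DC_eq_one [Finite G] (h : Nat.card (DC G Ω) = 1) {g₁ g₂ : G}
    (h₁ : ∀ ω : Ω, g₁ • ω ≠ ω) (h₂ : ∀ ω : Ω, g₂ • ω ≠ ω) : IsConj g₁ g₂ := by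
  by_contra hc
  have := two_le_card_DC h₁ h₂ hc
  omega

theorem isConj_of_card_DC_eq_two [Finite G] (h : Nat.card (DC G Ω) = 2) {g₁ g₂ g₃ : G}
    (h₁ : ∀ ω : Ω, g₁ • ω ≠ ω) (h₂ : ∀ ω : Ω, g₂ • ω ≠ ω) (h₃ : ∀ ω : Ω, g₃ • ω ≠ ω)
    (h12 : ¬ IsConj g₁ g₂) : IsConj g₁ g₃ ∨ IsConj g₂ g₃ := by
  by_contra hc
  push Not at hc
  have := three_le_card_DC h₁ h₂ h₃ h12 hc.1 hc.2
  omega

theorem exists_of_card_DC_eq_two (h : Nat.card (DC G Ω) = 2) :
    ∃ g₁ g₂ : G, (∀ ω : Ω, g₁ • ω ≠ ω) ∧ (∀ ω : Ω, g₂ • ω ≠ ω) ∧ ¬ IsConj g₁ g₂ := by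
  obtain ⟨x, y, hxy, -⟩ := Nat.card_eq_two_iff.mp h
  obtain ⟨c₁, g₁, hg₁, hd₁⟩ := x
  obtain ⟨c₂, g₂, hg₂, hd₂⟩ := y
  refine ⟨g₁, g₂, hd₁, hd₂, fun hc => hxy ?_⟩
  apply Subtype.ext
  show c₁ = c₂
  rw [← hg₁, ← hg₂]
  exact ConjClasses.mk_eq_mk_iff_isConj.mpr hc

theorem card_DC_eq_one_of {g₀ : G} (h₀ : ∀ ω : Ω, g₀ • ω ≠ ω)
    (hall : ∀ g : G, (∀ ω : Ω, g • ω ≠ ω) → IsConj g₀ g) : Nat.card (DC G Ω) = 1 := by
  rw [Nat.card_eq_one_iff_unique]
  refine ⟨⟨fun x y => ?_⟩, ⟨⟨ConjClasses.mk g₀, g₀, rfl, h₀⟩⟩⟩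
  obtain ⟨c₁, g₁, hg₁, hd₁⟩ := x
  obtain ⟨c₂, g₂, hg₂, hd₂⟩ := y
  apply Subtype.ext
  show c₁ = c₂
  rw [← hg₁, ← hg₂]
  exact ConjClasses.mk_eq_mk_iff_isConj.mpr ((hall g₁ hd₁).symm.trans (hall g₂ hd₂))

end basics

section jordan

/-- **Jordan**: a finite transitive group on at least two points has a derangement -/
theorem exists_der {K X : Type*} [Group K] [Finite K] [MulAction K X] [Finite X]
    [IsPretransitive K X] (hX : 2 ≤ Nat.card X) : ∃ k : K, ∀ x : X, k • x ≠ x := by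
  by_contra hcon
  push Not at hcon
  have hD := (Cfsg.Agent.Helper59.der_main (G := K) (X := X) inferInstance ⊥
    (fun g hg => by
      obtain ⟨x, hx⟩ := hcon g
      exact absurd hx (hg x))).1
  have hsub : Subsingleton X := by
    refine ⟨fun a b => ?_⟩
    obtain ⟨⟨d, hd⟩, hdab⟩ := hD.exists_smul_eq a b
    rw [Subgroup.mem_bot] at hd
    subst hd
    have : (1 : K) • a = b := hdab
    rwa [one_smul] at this
  have := Finite.card_le_one_iff_subsingleton.mpr hsub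
  omega

/-- Jordan for a transitive subgroup -/
theorem exists_der_mem {G : Type*} [Group G] [Finite G] {Ω : Type*} [MulAction G Ω] [Finite Ω]
    (N : Subgroup G) (htr : ∀ x y : Ω, ∃ n ∈ N, n • x = y) (hΩ : 2 ≤ Nat.card Ω) :
    ∃ n ∈ N, ∀ ω : Ω, n • ω ≠ ω := by
  have : IsPretransitive N Ω := ⟨fun x y => by
    obtain ⟨n, hn, hxy⟩ := htr x y
    exact ⟨⟨n, hn⟩, hxy⟩⟩
  obtain ⟨k, hk⟩ := exists_der (K := N) (X := Ω) hΩ
  exact ⟨k.1, k.2, hk⟩

/-- Jordan for conjugates of a proper subgroup -/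
theorem exists_not_conj_mem {S : Type*} [Group S] [Finite S] (R : Subgroup S) (hR : R ≠ ⊤) :
    ∃ s : S, ∀ t : S, t⁻¹ * s * t ∉ R := by
  have h2 : 2 ≤ Nat.card (S ⧸ R) := by
    by_contra hlt
    apply hR
    have h1 : R.index = 1 := by
      have hpos : R.index ≠ 0 := Subgroup.index_ne_zero_of_finite
      have : R.index ≤ 1 := by
        rw [Subgroup.index]
        omega
      omega
    exact Subgroup.index_eq_one.mp h1
  obtain ⟨s, hs⟩ := exists_der (K := S) (X := S ⧸ R) h2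
  refine ⟨s, fun t ht => hs (t : S ⧸ R) ?_⟩
  rw [MulAction.Quotient.smul_mk, QuotientGroup.eq]
  have : (s * t)⁻¹ * t = (t⁻¹ * s * t)⁻¹ := by group
  rw [smul_eq_mul, this]
  exact R.inv_mem ht

end jordan

section affine

variable {G : Type*} [Group G] {Ω : Type*} [MulAction G Ω]

/-- if the nonidentity elements of a transitive abelian normal subgroup are all conjugate,
the group is 2-transitive -/
theorem two_trans_of_conj (N : Subgroup G) [hN : N.Normal]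
    (hcomm : ∀ a ∈ N, ∀ b ∈ N, a * b = b * a) (htr : ∀ x y : Ω, ∃ n ∈ N, n • x = y)
    (hconj : ∀ u ∈ N, ∀ v ∈ N, u ≠ 1 → v ≠ 1 → IsConj u v) :
    IsMultiplyPretransitive G Ω 2 := by
  rw [is_two_pretransitive_iff]
  intro a b c d hab hcd
  obtain ⟨n₁, hn₁, h1⟩ := htr a b
  obtain ⟨n₂, hn₂, h2⟩ := htr c d
  have hn₁1 : n₁ ≠ 1 := by
    rintro rfl
    exact hab (by simpa using h1)
  have hn₂1 : n₂ ≠ 1 := by
    rintro rfl
    exact hcd (by simpa using h2)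
  obtain ⟨x, hx⟩ := isConj_iff.mp (hconj n₁ hn₁ n₂ hn₂ hn₁1 hn₂1)
  obtain ⟨m, hm, h3⟩ := htr (x • a) c
  refine ⟨m * x, by rw [mul_smul, h3], ?_⟩
  have e1 : m * x * n₁ = n₂ * (m * x) := by
    rw [← hx]
    have := hcomm m hm (x * n₁ * x⁻¹) (hN.conj_mem n₁ hn₁ x)
    calc m * x * n₁ = m * (x * n₁ * x⁻¹) * x := by group
      _ = (x * n₁ * x⁻¹) * m * x := by rw [this]
      _ = x * n₁ * x⁻¹ * (m * x) := by group
  calc (m * x) • b = (m * x * n₁) • a := by rw [← h1, mul_smul, mul_smul, mul_smul]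
    _ = n₂ • ((m * x) • a) := by rw [e1, mul_smul]
    _ = n₂ • c := by rw [mul_smul, h3]
    _ = d := h2

/-- if all derangements lie in a semiregular subgroup, nonidentity elements fix at most one point -/
theorem card_fixedBy_le_one [Finite G] [Finite Ω] [IsPretransitive G Ω] (N : Subgroup G)
    (hfree : ∀ n ∈ N, n ≠ 1 → ∀ ω : Ω, n • ω ≠ ω)
    (hder : ∀ g : G, (∀ ω : Ω, g • ω ≠ ω) → g ∈ N) :
    ∀ g : G, g ≠ 1 → Nat.card (fixedBy Ω g) ≤ 1 := by
  intro g hg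
  by_cases hgN : g ∈ N
  · have : IsEmpty (fixedBy Ω g) := ⟨fun ⟨ω, hω⟩ => hfree g hgN hg ω hω⟩
    simp
  · have := (Cfsg.Agent.Helper59.der_main (G := G) (X := Ω) inferInstance N hder).2 g
    by_contra h
    exact hgN (this (by omega))

theorem eq_of_card_fixedBy_le_one {g : G} [Finite Ω] (h : Nat.card (fixedBy Ω g) ≤ 1) {a b : Ω}
    (ha : g • a = a) (hb : g • b = b) : a = b := by
  have hsub : Subsingleton (fixedBy Ω g) := Finite.card_le_one_iff_subsingleton.mp h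
  have := hsub.elim ⟨a, ha⟩ ⟨b, hb⟩
  exact congrArg Subtype.val this

/-- counting in a Frobenius group whose kernel has exactly two classes of nonidentity elements -/
theorem frob_count [Finite G] [Fintype Ω] (N : Subgroup G) [hN : N.Normal]
    (hcomm : ∀ a ∈ N, ∀ b ∈ N, a * b = b * a) (htr : ∀ x y : Ω, ∃ n ∈ N, n • x = y)
    (hfree : ∀ n ∈ N, ∀ ω : Ω, n • ω = ω → n = 1) (hcardN : Nat.card N = Fintype.card Ω)
    (hfix : ∀ g : G, g ≠ 1 → ∀ a b : Ω, g • a = a → g • b = b → a = b)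
    (u₁ u₂ : G) (hu₁ : u₁ ∈ N) (hu₂ : u₂ ∈ N) (h1 : u₁ ≠ 1) (h2 : u₂ ≠ 1) (hnc : ¬ IsConj u₁ u₂)
    (hall : ∀ u ∈ N, u ≠ 1 → IsConj u₁ u ∨ IsConj u₂ u) (α : Ω) :
    Fintype.card Ω = 2 * Nat.card (stabilizer G α) + 1 := by
  classical
  let w : Bool → G := fun i => cond i u₁ u₂
  have hwN : ∀ i, w i ∈ N := fun i => by cases i <;> simp [w, hu₁, hu₂]
  have hw1 : ∀ i, w i ≠ 1 := fun i => by cases i <;> simp [w, h1, h2]
  have hwc : ∀ i j, IsConj (w i) (w j) → i = j := by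
    intro i j hij
    cases i <;> cases j
    · rfl
    · exact absurd hij.symm hnc
    · exact absurd hij hnc
    · rfl
  let T : Set G := (N : Set G) \ {1}
  have hT : T.ncard + 1 = Nat.card N := by
    have h1N : (1 : G) ∈ (N : Set G) := N.one_mem
    have hpos : 0 < (N : Set G).ncard := (Set.ncard_pos (Set.toFinite _)).mpr ⟨1, h1N⟩
    have h4 : T.ncard = (N : Set G).ncard - 1 := Set.ncard_sdiff_singleton_of_mem h1N
    have h3 : (N : Set G).ncard = Nat.card N := (Nat.card_coe_set_eq (N : Set G)).symm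
    omega
  let f : stabilizer G α × Bool → T := fun x =>
    ⟨(x.1 : G) * w x.2 * (x.1 : G)⁻¹, hN.conj_mem _ (hwN x.2) _, by
      intro h
      apply hw1 x.2
      have h' : (x.1 : G) * w x.2 * (x.1 : G)⁻¹ = 1 := h
      have := congrArg (fun z => (x.1 : G)⁻¹ * z * (x.1 : G)) h'
      simpa [mul_assoc] using this⟩
  have hbij : Function.Bijective f := by
    constructor
    · rintro ⟨⟨h, hh⟩, i⟩ ⟨⟨h', hh'⟩, j⟩ hxy
      have hxy' : h * w i * h⁻¹ = h' * w j * h'⁻¹ := congrArg Subtype.val hxy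
      have hij : i = j := by
        apply hwc
        rw [isConj_iff]
        refine ⟨h'⁻¹ * h, ?_⟩
        calc h'⁻¹ * h * w i * (h'⁻¹ * h)⁻¹ = h'⁻¹ * (h * w i * h⁻¹) * h' := by group
          _ = h'⁻¹ * (h' * w j * h'⁻¹) * h' := by rw [hxy']
          _ = w j := by group
      subst hij
      have hk : (h'⁻¹ * h) * w i = w i * (h'⁻¹ * h) := by
        calc (h'⁻¹ * h) * w i = h'⁻¹ * (h * w i * h⁻¹) * h := by group
          _ = h'⁻¹ * (h' * w i * h'⁻¹) * h := by rw [hxy']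
          _ = w i * (h'⁻¹ * h) := by group
      have hka : (h'⁻¹ * h) • α = α := by
        rw [mul_smul, mem_stabilizer_iff.mp hh, inv_smul_eq_iff, mem_stabilizer_iff.mp hh']
      have hkb : (h'⁻¹ * h) • (w i • α) = w i • α := by
        rw [← mul_smul, hk, mul_smul, hka]
      have hk1 : h'⁻¹ * h = 1 := by
        by_contra hne
        have := hfix _ hne _ _ hka hkb
        exact hw1 i (hfree _ (hwN i) α this.symm)
      have : h = h' := by
        rw [inv_mul_eq_one] at hk1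
        exact hk1.symm
      subst this
      rfl
    · rintro ⟨u, huN, hu1⟩
      have hu1' : u ≠ 1 := fun h => hu1 (by simp [h])
      have : ∃ i, IsConj (w i) u := by
        rcases hall u huN hu1' with h | h
        · exact ⟨true, h⟩
        · exact ⟨false, h⟩
      obtain ⟨i, hi⟩ := this
      obtain ⟨g, hg⟩ := isConj_iff.mp hi
      obtain ⟨n, hn, hnα⟩ := htr α (g • α)
      have hmem : n⁻¹ * g ∈ stabilizer G α := by
        rw [mem_stabilizer_iff, mul_smul, inv_smul_eq_iff, hnα]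
      refine ⟨(⟨n⁻¹ * g, hmem⟩, i), ?_⟩
      apply Subtype.ext
      show n⁻¹ * g * w i * (n⁻¹ * g)⁻¹ = u
      have e : n⁻¹ * g * w i * (n⁻¹ * g)⁻¹ = n⁻¹ * u * n := by
        rw [← hg]; group
      rw [e, hcomm _ (N.inv_mem hn) u huN]
      group
  have hcard := Nat.card_congr (Equiv.ofBijective f hbij)
  rw [Nat.card_prod, Nat.card_eq_fintype_card (α := Bool), Fintype.card_bool,
    Nat.card_coe_set_eq] at hcard
  omega

/-- sharply 2-transitive groups have a single class of derangements -/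
theorem card_DC_eq_one_of_sharp2 [Finite Ω] (hΩ : 2 ≤ Nat.card Ω)
    (h2 : IsMultiplyPretransitive G Ω 2)
    (hsharp : ∀ g : G, g ≠ 1 → ∀ a b : Ω, a ≠ b → g • a = a → g • b ≠ b) :
    Nat.card (DC G Ω) = 1 := by
  have hS : Cfsg.Agent.Helper12.Sharp2.IsSharp2 G Ω :=
    ⟨fun a b c d hab hcd => is_two_pretransitive_iff.mp h2 hab hcd,
      fun g a b hab ha hb => by
        by_contra hg
        exact hsharp g hg a b hab ha hb⟩
  have hnt : Nontrivial Ω := Finite.one_lt_card_iff_nontrivial.mp (by omega)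
  obtain ⟨a, b, hab⟩ := exists_pair_ne Ω
  obtain ⟨g₀, ⟨hg₀a, hg₀⟩, -⟩ := Cfsg.Agent.Helper12.Sharp2.existsUnique_fpf hS a b hab
  apply card_DC_eq_one_of (g₀ := g₀) hg₀
  intro g hg
  have h1 : g₀ ∈ Cfsg.Agent.Helper12.Sharp2.kernel hS := Or.inr hg₀
  have h2 : g ∈ Cfsg.Agent.Helper12.Sharp2.kernel hS := Or.inr hg
  have hne1 : g₀ ≠ 1 := der_ne_one hg₀
  have hne2 : g ≠ 1 := der_ne_one hg
  obtain ⟨k, -, hk⟩ := Cfsg.Agent.Helper12.Sharp2.kernel_conj hS h1 h2 hne1 hne2 a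
  exact isConj_iff.mpr ⟨k, hk⟩

end affine

end Cfsg.Agent.Helper58
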