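import Mathlib
import Cfsg.Agent.Lib.Helper58.DerClass
import Cfsg.Agent.Lib.Helper61.MinNormalProd

set_option autoImplicit false

/-! Conjugacy classes of derangements in primitive groups: a nonabelian minimal normal subgroup
of a primitive group that is not almost simple gives at least three classes of derangements. -/

namespace Cfsg.Agent.Helper58

open MulAction
open Cfsg.Agent.Helper61
open scoped Pointwise

section prelim

variable {G : Type*} [Group G]

theorem orderOf_eq_of_isConj {g h : G} (hc : IsConj g h) : orderOf g = orderOf h := by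
  obtain ⟨k, rfl⟩ := isConj_iff.mp hc
  exact ((MulAut.conj k).orderOf_eq g).symm

theorem three_le_of_orders [Finite G] {Ω : Type*} [MulAction G Ω] (S : Subgroup G)
    (hfree : ∀ s ∈ S, s ≠ 1 → ∀ ω : Ω, s • ω ≠ ω) {p r : ℕ} (hp : p.Prime) (hr : r.Prime)
    (hpr : p ≠ r) {sp sr yr : G} (hspS : sp ∈ S) (hsrS : sr ∈ S) (hsp : orderOf sp = p)
    (hsr : orderOf sr = r) (hyr : orderOf yr = r) (hc : Commute sp yr) :
    3 ≤ Nat.card (DC G Ω) := by
  have hsp1 : sp ≠ 1 := by
    rintro rfl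
    rw [orderOf_one] at hsp
    exact hp.one_lt.ne hsp
  have hsr1 : sr ≠ 1 := by
    rintro rfl
    rw [orderOf_one] at hsr
    exact hr.one_lt.ne hsr
  have hz : orderOf (sp * yr) = p * r := by
    rw [hc.orderOf_mul_eq_mul_orderOf_of_coprime
      (by rw [hsp, hyr]; exact (Nat.coprime_primes hp hr).mpr hpr), hsp, hyr]
  have hzr : (sp * yr) ^ r = sp ^ r := by
    rw [hc.mul_pow, ← hyr, pow_orderOf_eq_one, mul_one]
  have hspr : sp ^ r ≠ 1 := by
    intro h
    have := orderOf_dvd_of_pow_eq_one h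
    rw [hsp] at this
    exact hpr ((Nat.prime_dvd_prime_iff_eq hp hr).mp this)
  apply three_le_card_DC (g₁ := sp) (g₂ := sr) (g₃ := sp * yr)
  · exact hfree sp hspS hsp1
  · exact hfree sr hsrS hsr1
  · apply der_of_pow_der (n := r)
    rw [hzr]
    exact hfree _ (S.pow_mem hspS r) hspr
  · intro h
    have := orderOf_eq_of_isConj h
    rw [hsp, hsr] at this
    exact hpr this
  · intro h
    have := orderOf_eq_of_isConj h
    rw [hsp, hz] at this
    have h1 : r = 1 := by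
      have hp0 := hp.pos
      nlinarith
    exact hr.one_lt.ne' h1
  · intro h
    have := orderOf_eq_of_isConj h
    rw [hsr, hz] at this
    have h1 : p = 1 := by
      have hr0 := hr.pos
      nlinarith
    exact hp.one_lt.ne' h1

theorem exists_mul_of_mem_sup_centralizer (S : Subgroup G) {n : G}
    (hn : n ∈ S ⊔ Subgroup.centralizer (S : Set G)) :
    ∃ t ∈ S, ∃ d ∈ Subgroup.centralizer (S : Set G), n = t * d := by
  let K : Subgroup G :=
    { carrier := {n | ∃ t ∈ S, ∃ d ∈ Subgroup.centralizer (S : Set G), n = t * d}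
      one_mem' := ⟨1, S.one_mem, 1, Subgroup.one_mem _, by simp⟩
      mul_mem' := by
        rintro _ _ ⟨t, ht, d, hd, rfl⟩ ⟨t', ht', d', hd', rfl⟩
        refine ⟨t * t', S.mul_mem ht ht', d * d', Subgroup.mul_mem _ hd hd', ?_⟩
        have := Subgroup.mem_centralizer_iff.mp hd t' ht'
        calc t * d * (t' * d') = t * (d * t') * d' := by group
          _ = t * (t' * d) * d' := by rw [this]
          _ = t * t' * (d * d') := by group
      inv_mem' := by
        rintro _ ⟨t, ht, d, hd, rfl⟩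
        refine ⟨t⁻¹, S.inv_mem ht, d⁻¹, Subgroup.inv_mem _ hd, ?_⟩
        have := Subgroup.mem_centralizer_iff.mp hd t ht
        rw [this, mul_inv_rev] }
  have hle : S ⊔ Subgroup.centralizer (S : Set G) ≤ K :=
    sup_le (fun s hs => ⟨s, hs, 1, Subgroup.one_mem _, by simp⟩)
      (fun d hd => ⟨1, S.one_mem, d, hd, by simp⟩)
  exact hle hn

theorem key_star {N S X : Subgroup G} [N.Normal] (hS : IsMinInv N S)
    (hSZ : S ⊓ Subgroup.centralizer (S : Set G) = ⊥) (hXS : X ⊓ S = ⊥)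
    (hXc : ∀ x ∈ X, ∀ s ∈ S, x * s = s * x) {a b g : G} (ha : a ∈ S) (hb : b ∈ X)
    (hg : g * (a * b) * g⁻¹ ∈ S) : a = 1 ∨ b = 1 := by
  have hY : IsMinInv N (MulAut.conj g⁻¹ • S) := hS.conj g⁻¹
  have hab : a * b ∈ MulAut.conj g⁻¹ • S := by
    rw [Subgroup.mem_pointwise_smul_iff_inv_smul_mem]
    simpa [MulAut.smul_def] using hg
  rcases hS.2.2 (MulAut.conj g⁻¹ • S ⊓ S) (hY.1.inf hS.1) inf_le_right with h | h
  · left
    have hc : ∀ s ∈ S, Commute (a * b) s := fun s hs => hY.1.commute hS.1 h hab hs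
    have hmem : a ∈ S ⊓ Subgroup.centralizer (S : Set G) := by
      refine Subgroup.mem_inf.mpr ⟨ha, ?_⟩
      rw [Subgroup.mem_centralizer_iff]
      intro s hs
      have h1 : a * b * s = s * (a * b) := (hc s hs).eq
      have h2 : b * s = s * b := hXc b hb s hs
      have h3 : a * s * b = s * a * b := by
        calc a * s * b = a * (s * b) := by group
          _ = a * (b * s) := by rw [h2]
          _ = a * b * s := by group
          _ = s * (a * b) := h1
          _ = s * a * b := by group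
      exact (mul_right_cancel h3).symm
    rw [hSZ] at hmem
    exact Subgroup.mem_bot.mp hmem
  · right
    have hSY : S ≤ MulAut.conj g⁻¹ • S := by
      have h0 : MulAut.conj g⁻¹ • S ⊓ S ≤ MulAut.conj g⁻¹ • S := inf_le_left
      rwa [h] at h0
    have hEq : S = MulAut.conj g⁻¹ • S := by
      rcases hY.2.2 S hS.1 hSY with h' | h'
      · exact absurd h' hS.2.1
      · exact h'
    have hbS : b ∈ S := by
      have h1 : a * b ∈ S := by rw [hEq]; exact hab
      have : a⁻¹ * (a * b) ∈ S := S.mul_mem (S.inv_mem ha) h1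
      simpa using this
    have hmem : b ∈ X ⊓ S := Subgroup.mem_inf.mpr ⟨hb, hbS⟩
    rw [hXS] at hmem
    exact Subgroup.mem_bot.mp hmem

end prelim

section caseI

variable {G : Type*} [Group G] [Finite G] {Ω : Type*} [MulAction G Ω]

theorem three_le_caseI {N S X : Subgroup G} [N.Normal] (hS : IsMinInv N S)
    (hNC : N ≤ S ⊔ Subgroup.centralizer (S : Set G))
    (hSZ : S ⊓ Subgroup.centralizer (S : Set G) = ⊥)
    (htr : ∀ x y : Ω, ∃ n ∈ N, n • x = y)
    (hfaith : ∀ g : G, (∀ ω : Ω, g • ω = ω) → g = 1)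
    (hXN : X ≤ N) (hXS : X ⊓ S = ⊥) (hXc : ∀ x ∈ X, ∀ s ∈ S, x * s = s * x)
    {p r : ℕ} (hp : p.Prime) (hr : r.Prime) (hpr : p ≠ r) {yp yr : G} (hypX : yp ∈ X)
    (hyrX : yr ∈ X) (hyp : orderOf yp = p) (hyr : orderOf yr = r)
    {s₀ : G} (hs₀ : s₀ ∈ S) (hs₀1 : s₀ ≠ 1) {ω₀ : Ω} (hfix : s₀ • ω₀ = ω₀) :
    3 ≤ Nat.card (DC G Ω) := by
  classical
  -- decomposition of elements of N
  have hdec : ∀ n ∈ N, ∃ t ∈ S, ∃ d ∈ Subgroup.centralizer (S : Set G), d ∈ N ∧ n = t * d := by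
    intro n hn
    obtain ⟨t, ht, d, hd, rfl⟩ := exists_mul_of_mem_sup_centralizer S (hNC hn)
    refine ⟨t, ht, d, hd, ?_, rfl⟩
    have : t⁻¹ * (t * d) ∈ N := N.mul_mem (N.inv_mem (hS.1.1 ht)) hn
    simpa using this
  have hcs : ∀ d ∈ Subgroup.centralizer (S : Set G), ∀ s ∈ S, s * d = d * s :=
    fun d hd s hs => Subgroup.mem_centralizer_iff.mp hd s hs
  let R₁ : Subgroup G :=
    { carrier := {s | s ∈ S ∧ ∃ c ∈ Subgroup.centralizer (S : Set G), c ∈ N ∧ (s * c) • ω₀ = ω₀}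
      one_mem' := ⟨S.one_mem, 1, Subgroup.one_mem _, N.one_mem, by simp⟩
      mul_mem' := by
        rintro s s' ⟨hs, c, hc, hcN, h⟩ ⟨hs', c', hc', hcN', h'⟩
        refine ⟨S.mul_mem hs hs', c * c', Subgroup.mul_mem _ hc hc', N.mul_mem hcN hcN', ?_⟩
        have e : s * s' * (c * c') = (s * c) * (s' * c') := by
          have := hcs c hc s' hs'
          calc s * s' * (c * c') = s * (s' * c) * c' := by group
            _ = s * (c * s') * c' := by rw [this]
            _ = (s * c) * (s' * c') := by group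
        rw [e, mul_smul, h', h]
      inv_mem' := by
        rintro s ⟨hs, c, hc, hcN, h⟩
        refine ⟨S.inv_mem hs, c⁻¹, Subgroup.inv_mem _ hc, N.inv_mem hcN, ?_⟩
        have e : s⁻¹ * c⁻¹ = (s * c)⁻¹ := by rw [hcs c hc s hs, mul_inv_rev]
        rw [e, inv_smul_eq_iff, h] }
  have hR₁mem : ∀ s : G, s ∈ R₁ ↔
      s ∈ S ∧ ∃ c ∈ Subgroup.centralizer (S : Set G), c ∈ N ∧ (s * c) • ω₀ = ω₀ :=
    fun s => Iff.rfl
  have hne : ¬ S ≤ R₁ := by
    intro hle
    have hinv : NInv N (S ⊓ stabilizer G ω₀) := by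
      refine ⟨inf_le_left.trans hS.1.1, ?_⟩
      apply conj_smul_eq_of_forall
      intro n hn x hx
      obtain ⟨t, ht, d, hd, hdN, rfl⟩ := hdec n hn
      obtain ⟨hxS, hxst⟩ := Subgroup.mem_inf.mp hx
      obtain ⟨-, c, hc, hcN, hfixtc⟩ := (hR₁mem t).mp (hle ht)
      have e1 : t * d * x * (t * d)⁻¹ = t * x * t⁻¹ := by
        have := hcs d hd x hxS
        calc t * d * x * (t * d)⁻¹ = t * (d * x) * d⁻¹ * t⁻¹ := by group
          _ = t * (x * d) * d⁻¹ * t⁻¹ := by rw [this]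
          _ = t * x * t⁻¹ := by group
      have e2 : t * x * t⁻¹ = (t * c) * x * (t * c)⁻¹ := by
        have := hcs c hc x hxS
        calc t * x * t⁻¹ = t * (x * c) * c⁻¹ * t⁻¹ := by group
          _ = t * (c * x) * c⁻¹ * t⁻¹ := by rw [this]
          _ = (t * c) * x * (t * c)⁻¹ := by group
      rw [e1]
      refine Subgroup.mem_inf.mpr ⟨S.mul_mem (S.mul_mem ht hxS) (S.inv_mem ht), ?_⟩
      rw [e2, mem_stabilizer_iff, mul_smul, mul_smul, inv_smul_eq_iff.mpr hfixtc.symm,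
        mem_stabilizer_iff.mp hxst, hfixtc]
    rcases hS.2.2 _ hinv inf_le_left with h | h
    · have : s₀ ∈ S ⊓ stabilizer G ω₀ := Subgroup.mem_inf.mpr ⟨hs₀, hfix⟩
      rw [h] at this
      exact hs₀1 (Subgroup.mem_bot.mp this)
    · have hSfix : ∀ s ∈ S, s • ω₀ = ω₀ := fun s hs => by
        have : s ∈ S ⊓ stabilizer G ω₀ := by rw [h]; exact hs
        exact (Subgroup.mem_inf.mp this).2
      apply hs₀1
      apply hfaith
      intro ω
      obtain ⟨n, hn, rfl⟩ := htr ω₀ ω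
      have hmem : n⁻¹ * s₀ * n ∈ S := by
        have := hS.1.conj_mem (N.inv_mem hn) hs₀
        simpa using this
      have h2 := hSfix _ hmem
      calc s₀ • n • ω₀ = n • (n⁻¹ * s₀ * n) • ω₀ := by simp [mul_smul]
        _ = n • ω₀ := by rw [h2]
  have hRtop : R₁.subgroupOf S ≠ ⊤ := by
    rw [Ne, Subgroup.subgroupOf_eq_top]
    exact hne
  obtain ⟨s₁, hs₁⟩ := exists_not_conj_mem (R₁.subgroupOf S) hRtop
  have hs₁' : ∀ t ∈ S, t⁻¹ * (s₁ : G) * t ∉ R₁ := by
    intro t ht hmem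
    apply hs₁ ⟨t, ht⟩
    rw [Subgroup.mem_subgroupOf]
    simpa using hmem
  have hs₁1 : (s₁ : G) ≠ 1 := by
    intro h
    apply hs₁' 1 S.one_mem
    rw [h]
    simp
  have hder : ∀ c ∈ Subgroup.centralizer (S : Set G), c ∈ N →
      ∀ ω : Ω, ((s₁ : G) * c) • ω ≠ ω := by
    intro c hc hcN ω hω
    obtain ⟨n, hn, rfl⟩ := htr ω₀ ω
    obtain ⟨t, ht, d, hd, hdN, rfl⟩ := hdec n hn
    apply hs₁' t ht
    have hu : t⁻¹ * (s₁ : G) * t ∈ S := S.mul_mem (S.mul_mem (S.inv_mem ht) s₁.2) ht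
    rw [hR₁mem]
    refine ⟨hu, d⁻¹ * c * d, ?_, ?_, ?_⟩
    · exact Subgroup.mul_mem _ (Subgroup.mul_mem _ (Subgroup.inv_mem _ hd) hc) hd
    · exact N.mul_mem (N.mul_mem (N.inv_mem hdN) hcN) hdN
    · have e : t⁻¹ * (s₁ : G) * t * (d⁻¹ * c * d) = (t * d)⁻¹ * ((s₁ : G) * c) * (t * d) := by
        have h1' := hcs d⁻¹ (Subgroup.inv_mem _ hd) _ hu
        have h2 := hcs c hc t ht
        calc t⁻¹ * (s₁ : G) * t * (d⁻¹ * c * d)
            = (t⁻¹ * (s₁ : G) * t * d⁻¹) * c * d := by group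
          _ = (d⁻¹ * (t⁻¹ * (s₁ : G) * t)) * c * d := by rw [h1']
          _ = d⁻¹ * t⁻¹ * (s₁ : G) * (t * c) * d := by group
          _ = d⁻¹ * t⁻¹ * (s₁ : G) * (c * t) * d := by rw [h2]
          _ = (t * d)⁻¹ * ((s₁ : G) * c) * (t * d) := by group
      rw [e, mul_smul, mul_smul, hω, inv_smul_smul]
  have hXcent : ∀ x ∈ X, x ∈ Subgroup.centralizer (S : Set G) := fun x hx => by
    rw [Subgroup.mem_centralizer_iff]
    intro s hs
    exact (hXc x hx s hs).symm
  have hyp1 : yp ≠ 1 := by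
    rintro rfl
    rw [orderOf_one] at hyp
    exact hp.one_lt.ne hyp
  have hyr1 : yr ≠ 1 := by
    rintro rfl
    rw [orderOf_one] at hyr
    exact hr.one_lt.ne hyr
  have d1 : ∀ ω : Ω, (s₁ : G) • ω ≠ ω := by
    have := hder 1 (Subgroup.one_mem _) N.one_mem
    simpa using this
  have d2 : ∀ ω : Ω, ((s₁ : G) * yp) • ω ≠ ω := hder yp (hXcent yp hypX) (hXN hypX)
  have d3 : ∀ ω : Ω, ((s₁ : G) * yr) • ω ≠ ω := hder yr (hXcent yr hyrX) (hXN hyrX)
  have n1 : ∀ y ∈ X, y ≠ 1 → ¬ IsConj (s₁ : G) ((s₁ : G) * y) := by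
    intro y hy hy1 h
    obtain ⟨k, hk⟩ := isConj_iff.mp h
    have hmem : k⁻¹ * ((s₁ : G) * y) * k⁻¹⁻¹ ∈ S := by
      rw [← hk]
      have : k⁻¹ * (k * (s₁ : G) * k⁻¹) * k⁻¹⁻¹ = (s₁ : G) := by group
      rw [this]
      exact s₁.2
    rcases key_star hS hSZ hXS hXc s₁.2 hy hmem with h' | h'
    · exact hs₁1 h'
    · exact hy1 h'
  have hcp : Commute (s₁ : G) yp := (hXc yp hypX _ s₁.2).symm
  have hcr : Commute (s₁ : G) yr := (hXc yr hyrX _ s₁.2).symm
  have n23 : ¬ IsConj ((s₁ : G) * yp) ((s₁ : G) * yr) := by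
    intro h
    obtain ⟨k, hk⟩ := isConj_iff.mp h
    have hpow : ∀ i : ℕ, k * ((s₁ : G) ^ i * yp ^ i) * k⁻¹ = (s₁ : G) ^ i * yr ^ i := by
      intro i
      rw [← hcp.mul_pow, ← hcr.mul_pow, ← hk, conj_pow]
    have hA : (s₁ : G) ^ r = 1 := by
      have h1 := hpow r
      rw [← hyr, pow_orderOf_eq_one, mul_one, hyr] at h1
      have hmem : k * ((s₁ : G) ^ r * yp ^ r) * k⁻¹ ∈ S := by
        rw [h1]
        exact S.pow_mem s₁.2 r
      rcases key_star hS hSZ hXS hXc (S.pow_mem s₁.2 r) (X.pow_mem hypX r) hmem with h' | h'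
      · exact h'
      · exfalso
        have := orderOf_dvd_of_pow_eq_one h'
        rw [hyp] at this
        exact hpr ((Nat.prime_dvd_prime_iff_eq hp hr).mp this)
    have hB : (s₁ : G) ^ p = 1 := by
      have h1 := hpow p
      rw [← hyp, pow_orderOf_eq_one, mul_one, hyp] at h1
      have hmem : k⁻¹ * ((s₁ : G) ^ p * yr ^ p) * k⁻¹⁻¹ ∈ S := by
        rw [← h1]
        have : k⁻¹ * (k * (s₁ : G) ^ p * k⁻¹) * k⁻¹⁻¹ = (s₁ : G) ^ p := by group
        rw [this]
        exact S.pow_mem s₁.2 p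
      rcases key_star hS hSZ hXS hXc (S.pow_mem s₁.2 p) (X.pow_mem hyrX p) hmem with h' | h'
      · exact h'
      · exfalso
        have := orderOf_dvd_of_pow_eq_one h'
        rw [hyr] at this
        exact hpr ((Nat.prime_dvd_prime_iff_eq hr hp).mp this).symm
    have h1 := orderOf_dvd_of_pow_eq_one hA
    have h2 := orderOf_dvd_of_pow_eq_one hB
    have h3 : orderOf (s₁ : G) ∣ Nat.gcd p r := Nat.dvd_gcd h2 h1
    rw [(Nat.coprime_primes hp hr).mpr hpr, Nat.dvd_one, orderOf_eq_one_iff] at h3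
    exact hs₁1 h3
  exact three_le_card_DC d1 d2 d3 (n1 yp hypX hyp1) (n1 yr hyrX hyr1) n23

end caseI

section main

variable {G : Type*} [Group G] [Finite G] {Ω : Type*} [MulAction G Ω]

omit [Finite G] in
/-- a regular subgroup has the cardinality of the set acted upon -/
theorem card_eq_of_regular (K : Subgroup G) (htr : ∀ x y : Ω, ∃ k ∈ K, k • x = y)
    (hfree : ∀ k ∈ K, ∀ ω : Ω, k • ω = ω → k = 1) (ω₀ : Ω) : Nat.card K = Nat.card Ω := by
  refine Nat.card_congr (Equiv.ofBijective (fun a : K => (a : G) • ω₀) ⟨?_, ?_⟩)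
  · intro a b hab
    have hab' : (a : G) • ω₀ = (b : G) • ω₀ := hab
    have h1 : (b : G)⁻¹ * a = 1 := by
      apply hfree _ (K.mul_mem (K.inv_mem b.2) a.2) ω₀
      rw [mul_smul, hab', inv_smul_smul]
    rw [inv_mul_eq_one] at h1
    exact Subtype.ext h1.symm
  · intro y
    obtain ⟨a, ha, hay⟩ := htr ω₀ y
    exact ⟨⟨a, ha⟩, hay⟩

omit [Finite G] in
/-- a subgroup commuting elementwise with a transitive subgroup is semiregular -/
theorem free_of_commute_transitive [FaithfulSMul G Ω] (A B : Subgroup G)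
    (htr : ∀ x y : Ω, ∃ a ∈ A, a • x = y)
    (hc : ∀ a ∈ A, ∀ b ∈ B, a * b = b * a) : ∀ b ∈ B, ∀ ω : Ω, b • ω = ω → b = 1 := by
  intro b hb ω hω
  apply FaithfulSMul.eq_of_smul_eq_smul (α := Ω)
  intro y
  obtain ⟨a, ha, rfl⟩ := htr ω y
  rw [one_smul, ← mul_smul, ← hc a ha b hb, mul_smul, hω]

/-- A nonabelian minimal normal subgroup of a primitive group which is not almost simple gives
at least three conjugacy classes of derangements. -/
theorem three_le_of_nonabelian [Finite Ω] [Nonempty Ω] [FaithfulSMul G Ω] (hprim : IsPreprimitive G Ω)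
    (hnas : ¬ ∃ T : Subgroup G, T.Normal ∧ IsSimpleGroup T ∧ ¬ IsMulCommutative T ∧
      Subgroup.centralizer (T : Set G) = ⊥)
    (N : Subgroup G) [hNn : N.Normal] (hN : N ≠ ⊥)
    (hmin : ∀ M : Subgroup G, M.Normal → M ≤ N → M = ⊥ ∨ M = N)
    (hna : ¬ ∀ a ∈ N, ∀ b ∈ N, a * b = b * a) : 3 ≤ Nat.card (DC G Ω) := by
  classical
  obtain ⟨S, hS⟩ := exists_isMinInv N hN
  obtain ⟨hNC, -⟩ := exists_equiv_pi hmin hS S hS.1 le_rfl le_sup_left
    ⟨1, Nat.one_pos, ⟨(MulEquiv.funUnique (Fin 1) S).symm⟩⟩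
  have hsimple : IsSimpleGroup S := isSimpleGroup_of_isMinInv hS hNC
  have htr : ∀ x y : Ω, ∃ n ∈ N, n • x = y := prim_exists_smul_eq hprim N hN
  have hfaith : ∀ g : G, (∀ ω : Ω, g • ω = ω) → g = 1 := fun g hg =>
    FaithfulSMul.eq_of_smul_eq_smul (α := Ω) (fun ω => by rw [hg ω, one_smul])
  have hZ : N ⊓ Subgroup.centralizer (N : Set G) = ⊥ := by
    rcases hmin (N ⊓ Subgroup.centralizer (N : Set G)) inferInstance inf_le_left with h | h
    · exact h
    · exfalso
      apply hna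
      intro a ha b hb
      have hb' : b ∈ N ⊓ Subgroup.centralizer (N : Set G) := by rw [h]; exact hb
      exact Subgroup.mem_centralizer_iff.mp (Subgroup.mem_inf.mp hb').2 a ha
  have hSZ : S ⊓ Subgroup.centralizer (S : Set G) = ⊥ := by
    rw [eq_bot_iff]
    intro x hx
    obtain ⟨hxS, hxC⟩ := Subgroup.mem_inf.mp hx
    have hmem : x ∈ N ⊓ Subgroup.centralizer (N : Set G) := by
      refine Subgroup.mem_inf.mpr ⟨hS.1.1 hxS, ?_⟩
      rw [Subgroup.mem_centralizer_iff]
      intro n hn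
      obtain ⟨t, ht, d, hd, rfl⟩ := exists_mul_of_mem_sup_centralizer S (hNC hn)
      have h1 := Subgroup.mem_centralizer_iff.mp hxC t ht
      have h2 := Subgroup.mem_centralizer_iff.mp hd x hxS
      calc t * d * x = t * (d * x) := by group
        _ = t * (x * d) := by rw [h2]
        _ = (t * x) * d := by group
        _ = (x * t) * d := by rw [h1]
        _ = x * (t * d) := by group
    rw [hZ] at hmem
    exact hmem
  -- two primes
  have hSnt : Nontrivial S := (Subgroup.nontrivial_iff_ne_bot S).mpr hS.2.1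
  have hcard1 : 1 < Nat.card S := Finite.one_lt_card
  obtain ⟨p, hp, hpd⟩ := Nat.exists_prime_and_dvd (n := Nat.card S) (by omega)
  have hex : ∃ r, r.Prime ∧ r ∣ Nat.card S ∧ r ≠ p := by
    by_contra hcon
    push Not at hcon
    have hpow := Nat.eq_prime_pow_of_unique_prime_dvd (n := Nat.card S) (p := p) (by omega)
      (fun {d} hd hdd => hcon d hd hdd)
    have : Fact p.Prime := ⟨hp⟩
    have hpg : IsPGroup p S := IsPGroup.of_card hpow
    have hcn := hpg.center_nontrivial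
    obtain ⟨⟨z, hz⟩, hz1⟩ := exists_ne (1 : Subgroup.center S)
    have hmem : (z : G) ∈ S ⊓ Subgroup.centralizer (S : Set G) := by
      refine Subgroup.mem_inf.mpr ⟨z.2, ?_⟩
      rw [Subgroup.mem_centralizer_iff]
      intro s hs
      have := Subgroup.mem_center_iff.mp hz ⟨s, hs⟩
      exact congrArg Subtype.val this
    rw [hSZ, Subgroup.mem_bot] at hmem
    apply hz1
    apply Subtype.ext
    apply Subtype.ext
    exact hmem
  obtain ⟨r, hr, hrd, hrp⟩ := hex
  have hpF : Fact p.Prime := ⟨hp⟩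
  have hrF : Fact r.Prime := ⟨hr⟩
  obtain ⟨sp', hsp'⟩ := exists_prime_orderOf_dvd_card' p hpd
  obtain ⟨sr', hsr'⟩ := exists_prime_orderOf_dvd_card' r hrd
  have hsp : orderOf (sp' : G) = p := by rw [Subgroup.orderOf_coe, hsp']
  have hsr : orderOf (sr' : G) = r := by rw [Subgroup.orderOf_coe, hsr']
  by_cases hnorm : ∀ g : G, MulAut.conj g • S = S
  · -- `S` is normal, hence equal to `N`
    have hSn : S.Normal := Subgroup.Normal.of_conjugate_fixed hnorm
    have hSN : S = N := (hmin S hSn hS.1.1).resolve_left hS.2.1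
    have hCne : Subgroup.centralizer (S : Set G) ≠ ⊥ := by
      intro hC
      apply hnas
      refine ⟨S, hSn, hsimple, ?_, hC⟩
      intro hcomm
      apply hS.2.1
      rw [eq_bot_iff, ← hSZ]
      intro s hs
      refine Subgroup.mem_inf.mpr ⟨hs, ?_⟩
      rw [Subgroup.mem_centralizer_iff]
      intro t ht
      have := mul_comm' (⟨t, ht⟩ : S) ⟨s, hs⟩
      exact congrArg Subtype.val this
    have hCn : (Subgroup.centralizer (S : Set G)).Normal := Subgroup.normal_centralizer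
    have htrC := prim_exists_smul_eq hprim (Subgroup.centralizer (S : Set G)) hCne
    have htrS : ∀ x y : Ω, ∃ s ∈ S, s • x = y := hSN ▸ htr
    have hcomm : ∀ c ∈ Subgroup.centralizer (S : Set G), ∀ s ∈ S, c * s = s * c :=
      fun c hc s hs => (Subgroup.mem_centralizer_iff.mp hc s hs).symm
    have hfreeS : ∀ s ∈ S, ∀ ω : Ω, s • ω = ω → s = 1 :=
      free_of_commute_transitive (Subgroup.centralizer (S : Set G)) S htrC hcomm
    have hfreeC : ∀ c ∈ Subgroup.centralizer (S : Set G), ∀ ω : Ω, c • ω = ω → c = 1 :=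
      free_of_commute_transitive S (Subgroup.centralizer (S : Set G)) htrS
        (fun s hs c hc => (hcomm c hc s hs).symm)
    obtain ⟨ω₀⟩ := ‹Nonempty Ω›
    have hcardS := card_eq_of_regular S htrS hfreeS ω₀
    have hcardC := card_eq_of_regular (Subgroup.centralizer (S : Set G)) htrC hfreeC ω₀
    have hrC : r ∣ Nat.card (Subgroup.centralizer (S : Set G)) := by
      rw [hcardC, ← hcardS]
      exact hrd
    obtain ⟨yr', hyr'⟩ := exists_prime_orderOf_dvd_card' r hrC
    have hyr : orderOf (yr' : G) = r := by rw [Subgroup.orderOf_coe, hyr']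
    exact three_le_of_orders S (fun s hs hs1 ω hω => hs1 (hfreeS s hs ω hω)) hp hr hrp.symm
      sp'.2 sr'.2 hsp hsr hyr (hcomm _ yr'.2 _ sp'.2).symm
  · push Not at hnorm
    obtain ⟨g₀, hg₀⟩ := hnorm
    have hX : IsMinInv N (MulAut.conj g₀ • S) := hS.conj g₀
    have hXS : MulAut.conj g₀ • S ⊓ S = ⊥ := by
      rcases hX.2.2 (MulAut.conj g₀ • S ⊓ S) (hX.1.inf hS.1) inf_le_left with h | h
      · exact h
      · exfalso
        have hXleS : MulAut.conj g₀ • S ≤ S := by
          have h0 : MulAut.conj g₀ • S ⊓ S ≤ S := inf_le_right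
          rwa [h] at h0
        rcases hS.2.2 _ hX.1 hXleS with h' | h'
        · exact hX.2.1 h'
        · exact hg₀ h'
    have hXc : ∀ x ∈ MulAut.conj g₀ • S, ∀ s ∈ S, x * s = s * x :=
      fun x hx s hs => (hX.1.commute hS.1 hXS hx hs).eq
    have hconjmem : ∀ s ∈ S, g₀ * s * g₀⁻¹ ∈ MulAut.conj g₀ • S := fun s hs => by
      have := Subgroup.smul_mem_pointwise_smul s (MulAut.conj g₀) S hs
      simpa [MulAut.smul_def] using this
    have hyp : orderOf (g₀ * (sp' : G) * g₀⁻¹) = p := by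
      rw [← orderOf_eq_of_isConj (isConj_iff.mpr ⟨g₀, rfl⟩), hsp]
    have hyr : orderOf (g₀ * (sr' : G) * g₀⁻¹) = r := by
      rw [← orderOf_eq_of_isConj (isConj_iff.mpr ⟨g₀, rfl⟩), hsr]
    by_cases hfree : ∀ s ∈ S, s ≠ 1 → ∀ ω : Ω, s • ω ≠ ω
    · exact three_le_of_orders S hfree hp hr hrp.symm sp'.2 sr'.2 hsp hsr hyr
        (hXc _ (hconjmem _ sr'.2) _ sp'.2).symm
    · push Not at hfree
      obtain ⟨s₀, hs₀, hs₀1, ω₀, hfix⟩ := hfree
      exact three_le_caseI hS hNC hSZ htr hfaith hX.1.1 hXS hXc hp hr hrp.symm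
        (hconjmem _ sp'.2) (hconjmem _ sr'.2) hyp hyr hs₀ hs₀1 hfix

end main

section setup

variable {G : Type*} [Group G] [Finite G] {Ω : Type*} [MulAction G Ω]

/-- a nontrivial finite group has a minimal normal subgroup -/
theorem exists_min_normal [Nontrivial G] : ∃ N : Subgroup G, N.Normal ∧ N ≠ ⊥ ∧
    ∀ M : Subgroup G, M.Normal → M ≤ N → M = ⊥ ∨ M = N := by
  classical
  let s : Set (Subgroup G) := {X | X.Normal ∧ X ≠ ⊥}
  have hne : s.Nonempty := ⟨⊤, inferInstance, top_ne_bot⟩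
  obtain ⟨N, hNs, hmin⟩ :=
    WellFounded.has_min (measure (fun X : Subgroup G => Nat.card X)).wf s hne
  refine ⟨N, hNs.1, hNs.2, fun M hM hle => ?_⟩
  by_cases hM0 : M = ⊥
  · exact Or.inl hM0
  · right
    have h1 : ¬ (Nat.card M < Nat.card N) := hmin M ⟨hM, hM0⟩
    exact Subgroup.eq_of_le_of_card_ge hle (by omega)

/-- In a primitive group which is not almost simple, either there are at least three classes of
derangements or there is a regular abelian normal subgroup. -/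
theorem three_le_or_exists_regular_abelian [Finite Ω] [FaithfulSMul G Ω]
    (hΩ : 2 ≤ Nat.card Ω) (hprim : IsPreprimitive G Ω)
    (hnas : ¬ ∃ T : Subgroup G, T.Normal ∧ IsSimpleGroup T ∧ ¬ IsMulCommutative T ∧
      Subgroup.centralizer (T : Set G) = ⊥) :
    3 ≤ Nat.card (DC G Ω) ∨ ∃ N : Subgroup G, N.Normal ∧ N ≠ ⊥ ∧
      (∀ a ∈ N, ∀ b ∈ N, a * b = b * a) ∧ (∀ x y : Ω, ∃ n ∈ N, n • x = y) ∧
      (∀ n ∈ N, ∀ ω : Ω, n • ω = ω → n = 1) := by
  have hnt : Nontrivial Ω := Finite.one_lt_card_iff_nontrivial.mp (by omega)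
  obtain ⟨a, b, hab⟩ := exists_pair_ne Ω
  have hGnt : Nontrivial G := by
    obtain ⟨g, hg⟩ := hprim.toIsPretransitive.exists_smul_eq a b
    refine ⟨⟨g, 1, ?_⟩⟩
    rintro rfl
    exact hab (by simpa using hg)
  obtain ⟨N, hNn, hN, hmin⟩ := exists_min_normal (G := G)
  by_cases hna : ∀ a ∈ N, ∀ b ∈ N, a * b = b * a
  · right
    exact ⟨N, hNn, hN, hna, prim_exists_smul_eq hprim N hN,
      fun n hn ω hω => prim_abelian_free hprim N hN hna n hn ω hω⟩
  · left
    have : Nonempty Ω := ⟨a⟩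
    exact three_le_of_nonabelian hprim hnas N hN hmin hna

end setup

end Cfsg.Agent.Helper58
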