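import Mathlib
import Cfsg.Agent.Lib.Helper58.DerClassNA

set_option autoImplicit false

/-! Derangements of orders divisible by two different primes in a primitive group with a
nonabelian minimal normal subgroup which is not almost simple. -/

namespace Cfsg.Agent.Helper58

open MulAction
open Cfsg.Agent.Helper61
open scoped Pointwise

section derprime

variable {G : Type*} [Group G] [Finite G] {Ω : Type*} [MulAction G Ω]

/-- if the minimal `N`-invariant subgroup `S` is not semiregular, some `s₁ ∈ S` has all its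
translates by `C_N(S)` fixed point free -/
theorem exists_caseI_der {N S : Subgroup G} [N.Normal] (hS : IsMinInv N S)
    (hNC : N ≤ S ⊔ Subgroup.centralizer (S : Set G))
    (htr : ∀ x y : Ω, ∃ n ∈ N, n • x = y)
    (hfaith : ∀ g : G, (∀ ω : Ω, g • ω = ω) → g = 1)
    {s₀ : G} (hs₀ : s₀ ∈ S) (hs₀1 : s₀ ≠ 1) {ω₀ : Ω} (hfix : s₀ • ω₀ = ω₀) :
    ∃ s₁ ∈ S, s₁ ≠ 1 ∧ ∀ c ∈ Subgroup.centralizer (S : Set G), c ∈ N →
      ∀ ω : Ω, (s₁ * c) • ω ≠ ω := by
  classical
  -- decomposition of elements of N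
  have hdec : ∀ n ∈ N, ∃ t ∈ S, ∃ d ∈ Subgroup.centralizer (S : Set G), d ∈ N ∧ n = t * d := by
    intro n hn
    obtain ⟨t, ht, d, hd, rfl⟩ := exists_mul_of_mem_sup_centralizer S (hNC hn)
    refine ⟨t, ht, d, hd, ?_, rfl⟩
    have : t⁻¹ * (t * d) ∈ N := N.mul_mem (N.inv_mem (hS.1.1 ht)) hn
    simpa using this
  have hcs : ∀ d ∈ Subgroup.centralizer (S : Set G), ∀ s ∈ S, s * d = d * s :=
    fun d hd s hs => Subgroup.mem_centralizer_iff.mp hd s hs
  let R₁ : Subgroup G :=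
    { carrier := {s | s ∈ S ∧ ∃ c ∈ Subgroup.centralizer (S : Set G), c ∈ N ∧ (s * c) • ω₀ = ω₀}
      one_mem' := ⟨S.one_mem, 1, Subgroup.one_mem _, N.one_mem, by simp⟩
      mul_mem' := by
        rintro s s' ⟨hs, c, hc, hcN, h⟩ ⟨hs', c', hc', hcN', h'⟩
        refine ⟨S.mul_mem hs hs', c * c', Subgroup.mul_mem _ hc hc', N.mul_mem hcN hcN', ?_⟩
        have e : s * s' * (c * c') = (s * c) * (s' * c') := by
          have := hcs c hc s' hs'
          calc s * s' * (c * c') = s * (s' * c) * c' := by group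
            _ = s * (c * s') * c' := by rw [this]
            _ = (s * c) * (s' * c') := by group
        rw [e, mul_smul, h', h]
      inv_mem' := by
        rintro s ⟨hs, c, hc, hcN, h⟩
        refine ⟨S.inv_mem hs, c⁻¹, Subgroup.inv_mem _ hc, N.inv_mem hcN, ?_⟩
        have e : s⁻¹ * c⁻¹ = (s * c)⁻¹ := by rw [hcs c hc s hs, mul_inv_rev]
        rw [e, inv_smul_eq_iff, h] }
  have hR₁mem : ∀ s : G, s ∈ R₁ ↔
      s ∈ S ∧ ∃ c ∈ Subgroup.centralizer (S : Set G), c ∈ N ∧ (s * c) • ω₀ = ω₀ :=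
    fun s => Iff.rfl
  have hne : ¬ S ≤ R₁ := by
    intro hle
    have hinv : NInv N (S ⊓ stabilizer G ω₀) := by
      refine ⟨inf_le_left.trans hS.1.1, ?_⟩
      apply conj_smul_eq_of_forall
      intro n hn x hx
      obtain ⟨t, ht, d, hd, hdN, rfl⟩ := hdec n hn
      obtain ⟨hxS, hxst⟩ := Subgroup.mem_inf.mp hx
      obtain ⟨-, c, hc, hcN, hfixtc⟩ := (hR₁mem t).mp (hle ht)
      have e1 : t * d * x * (t * d)⁻¹ = t * x * t⁻¹ := by
        have := hcs d hd x hxS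
        calc t * d * x * (t * d)⁻¹ = t * (d * x) * d⁻¹ * t⁻¹ := by group
          _ = t * (x * d) * d⁻¹ * t⁻¹ := by rw [this]
          _ = t * x * t⁻¹ := by group
      have e2 : t * x * t⁻¹ = (t * c) * x * (t * c)⁻¹ := by
        have := hcs c hc x hxS
        calc t * x * t⁻¹ = t * (x * c) * c⁻¹ * t⁻¹ := by group
          _ = t * (c * x) * c⁻¹ * t⁻¹ := by rw [this]
          _ = (t * c) * x * (t * c)⁻¹ := by group
      rw [e1]
      refine Subgroup.mem_inf.mpr ⟨S.mul_mem (S.mul_mem ht hxS) (S.inv_mem ht), ?_⟩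
      rw [e2, mem_stabilizer_iff, mul_smul, mul_smul, inv_smul_eq_iff.mpr hfixtc.symm,
        mem_stabilizer_iff.mp hxst, hfixtc]
    rcases hS.2.2 _ hinv inf_le_left with h | h
    · have : s₀ ∈ S ⊓ stabilizer G ω₀ := Subgroup.mem_inf.mpr ⟨hs₀, hfix⟩
      rw [h] at this
      exact hs₀1 (Subgroup.mem_bot.mp this)
    · have hSfix : ∀ s ∈ S, s • ω₀ = ω₀ := fun s hs => by
        have : s ∈ S ⊓ stabilizer G ω₀ := by rw [h]; exact hs
        exact (Subgroup.mem_inf.mp this).2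
      apply hs₀1
      apply hfaith
      intro ω
      obtain ⟨n, hn, rfl⟩ := htr ω₀ ω
      have hmem : n⁻¹ * s₀ * n ∈ S := by
        have := hS.1.conj_mem (N.inv_mem hn) hs₀
        simpa using this
      have h2 := hSfix _ hmem
      calc s₀ • n • ω₀ = n • (n⁻¹ * s₀ * n) • ω₀ := by simp [mul_smul]
        _ = n • ω₀ := by rw [h2]
  have hRtop : R₁.subgroupOf S ≠ ⊤ := by
    rw [Ne, Subgroup.subgroupOf_eq_top]
    exact hne
  obtain ⟨s₁, hs₁⟩ := exists_not_conj_mem (R₁.subgroupOf S) hRtop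
  have hs₁' : ∀ t ∈ S, t⁻¹ * (s₁ : G) * t ∉ R₁ := by
    intro t ht hmem
    apply hs₁ ⟨t, ht⟩
    rw [Subgroup.mem_subgroupOf]
    simpa using hmem
  have hs₁1 : (s₁ : G) ≠ 1 := by
    intro h
    apply hs₁' 1 S.one_mem
    rw [h]
    simp
  have hder : ∀ c ∈ Subgroup.centralizer (S : Set G), c ∈ N →
      ∀ ω : Ω, ((s₁ : G) * c) • ω ≠ ω := by
    intro c hc hcN ω hω
    obtain ⟨n, hn, rfl⟩ := htr ω₀ ω
    obtain ⟨t, ht, d, hd, hdN, rfl⟩ := hdec n hn
    apply hs₁' t ht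
    have hu : t⁻¹ * (s₁ : G) * t ∈ S := S.mul_mem (S.mul_mem (S.inv_mem ht) s₁.2) ht
    rw [hR₁mem]
    refine ⟨hu, d⁻¹ * c * d, ?_, ?_, ?_⟩
    · exact Subgroup.mul_mem _ (Subgroup.mul_mem _ (Subgroup.inv_mem _ hd) hc) hd
    · exact N.mul_mem (N.mul_mem (N.inv_mem hdN) hcN) hdN
    · have e : t⁻¹ * (s₁ : G) * t * (d⁻¹ * c * d) = (t * d)⁻¹ * ((s₁ : G) * c) * (t * d) := by
        have h1' := hcs d⁻¹ (Subgroup.inv_mem _ hd) _ hu
        have h2 := hcs c hc t ht
        calc t⁻¹ * (s₁ : G) * t * (d⁻¹ * c * d)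
            = (t⁻¹ * (s₁ : G) * t * d⁻¹) * c * d := by group
          _ = (d⁻¹ * (t⁻¹ * (s₁ : G) * t)) * c * d := by rw [h1']
          _ = d⁻¹ * t⁻¹ * (s₁ : G) * (t * c) * d := by group
          _ = d⁻¹ * t⁻¹ * (s₁ : G) * (c * t) * d := by rw [h2]
          _ = (t * d)⁻¹ * ((s₁ : G) * c) * (t * d) := by group
      rw [e, mul_smul, mul_smul, hω, inv_smul_smul]
  exact ⟨s₁, s₁.2, hs₁1, hder⟩

/-- A nonabelian minimal normal subgroup of a primitive group which is not almost simple gives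
derangements of orders divisible by two different primes. -/
theorem exists_ders_of_nonabelian [Finite Ω] [Nonempty Ω] [FaithfulSMul G Ω]
    (hprim : IsPreprimitive G Ω)
    (hnas : ¬ ∃ T : Subgroup G, T.Normal ∧ IsSimpleGroup T ∧ ¬ IsMulCommutative T ∧
      Subgroup.centralizer (T : Set G) = ⊥)
    (N : Subgroup G) [hNn : N.Normal] (hN : N ≠ ⊥)
    (hmin : ∀ M : Subgroup G, M.Normal → M ≤ N → M = ⊥ ∨ M = N)
    (hna : ¬ ∀ a ∈ N, ∀ b ∈ N, a * b = b * a) :
    ∃ p₁ r₁ : ℕ, p₁.Prime ∧ r₁.Prime ∧ p₁ ≠ r₁ ∧ ∃ g₁ g₂ : G, (∀ ω : Ω, g₁ • ω ≠ ω) ∧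
      (∀ ω : Ω, g₂ • ω ≠ ω) ∧ p₁ ∣ orderOf g₁ ∧ r₁ ∣ orderOf g₂ := by
  classical
  obtain ⟨S, hS⟩ := exists_isMinInv N hN
  obtain ⟨hNC, -⟩ := exists_equiv_pi hmin hS S hS.1 le_rfl le_sup_left
    ⟨1, Nat.one_pos, ⟨(MulEquiv.funUnique (Fin 1) S).symm⟩⟩
  have hsimple : IsSimpleGroup S := isSimpleGroup_of_isMinInv hS hNC
  have htr : ∀ x y : Ω, ∃ n ∈ N, n • x = y := prim_exists_smul_eq hprim N hN
  have hfaith : ∀ g : G, (∀ ω : Ω, g • ω = ω) → g = 1 := fun g hg =>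
    FaithfulSMul.eq_of_smul_eq_smul (α := Ω) (fun ω => by rw [hg ω, one_smul])
  have hZ : N ⊓ Subgroup.centralizer (N : Set G) = ⊥ := by
    rcases hmin (N ⊓ Subgroup.centralizer (N : Set G)) inferInstance inf_le_left with h | h
    · exact h
    · exfalso
      apply hna
      intro a ha b hb
      have hb' : b ∈ N ⊓ Subgroup.centralizer (N : Set G) := by rw [h]; exact hb
      exact Subgroup.mem_centralizer_iff.mp (Subgroup.mem_inf.mp hb').2 a ha
  have hSZ : S ⊓ Subgroup.centralizer (S : Set G) = ⊥ := by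
    rw [eq_bot_iff]
    intro x hx
    obtain ⟨hxS, hxC⟩ := Subgroup.mem_inf.mp hx
    have hmem : x ∈ N ⊓ Subgroup.centralizer (N : Set G) := by
      refine Subgroup.mem_inf.mpr ⟨hS.1.1 hxS, ?_⟩
      rw [Subgroup.mem_centralizer_iff]
      intro n hn
      obtain ⟨t, ht, d, hd, rfl⟩ := exists_mul_of_mem_sup_centralizer S (hNC hn)
      have h1 := Subgroup.mem_centralizer_iff.mp hxC t ht
      have h2 := Subgroup.mem_centralizer_iff.mp hd x hxS
      calc t * d * x = t * (d * x) := by group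
        _ = t * (x * d) := by rw [h2]
        _ = (t * x) * d := by group
        _ = (x * t) * d := by rw [h1]
        _ = x * (t * d) := by group
    rw [hZ] at hmem
    exact hmem
  -- two primes
  have hSnt : Nontrivial S := (Subgroup.nontrivial_iff_ne_bot S).mpr hS.2.1
  have hcard1 : 1 < Nat.card S := Finite.one_lt_card
  obtain ⟨p, hp, hpd⟩ := Nat.exists_prime_and_dvd (n := Nat.card S) (by omega)
  have hex : ∃ r, r.Prime ∧ r ∣ Nat.card S ∧ r ≠ p := by
    by_contra hcon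
    push Not at hcon
    have hpow := Nat.eq_prime_pow_of_unique_prime_dvd (n := Nat.card S) (p := p) (by omega)
      (fun {d} hd hdd => hcon d hd hdd)
    have : Fact p.Prime := ⟨hp⟩
    have hpg : IsPGroup p S := IsPGroup.of_card hpow
    have hcn := hpg.center_nontrivial
    obtain ⟨⟨z, hz⟩, hz1⟩ := exists_ne (1 : Subgroup.center S)
    have hmem : (z : G) ∈ S ⊓ Subgroup.centralizer (S : Set G) := by
      refine Subgroup.mem_inf.mpr ⟨z.2, ?_⟩
      rw [Subgroup.mem_centralizer_iff]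
      intro s hs
      have := Subgroup.mem_center_iff.mp hz ⟨s, hs⟩
      exact congrArg Subtype.val this
    rw [hSZ, Subgroup.mem_bot] at hmem
    apply hz1
    apply Subtype.ext
    apply Subtype.ext
    exact hmem
  obtain ⟨r, hr, hrd, hrp⟩ := hex
  have hpF : Fact p.Prime := ⟨hp⟩
  have hrF : Fact r.Prime := ⟨hr⟩
  obtain ⟨sp', hsp'⟩ := exists_prime_orderOf_dvd_card' p hpd
  obtain ⟨sr', hsr'⟩ := exists_prime_orderOf_dvd_card' r hrd
  have hsp : orderOf (sp' : G) = p := by rw [Subgroup.orderOf_coe, hsp']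
  have hsr : orderOf (sr' : G) = r := by rw [Subgroup.orderOf_coe, hsr']
  have hsp1 : (sp' : G) ≠ 1 := by
    intro h
    rw [h, orderOf_one] at hsp
    exact hp.one_lt.ne hsp
  have hsr1 : (sr' : G) ≠ 1 := by
    intro h
    rw [h, orderOf_one] at hsr
    exact hr.one_lt.ne hsr
  have hsemi : (∀ s ∈ S, s ≠ 1 → ∀ ω : Ω, s • ω ≠ ω) →
      ∃ p₁ r₁ : ℕ, p₁.Prime ∧ r₁.Prime ∧ p₁ ≠ r₁ ∧ ∃ g₁ g₂ : G, (∀ ω : Ω, g₁ • ω ≠ ω) ∧
        (∀ ω : Ω, g₂ • ω ≠ ω) ∧ p₁ ∣ orderOf g₁ ∧ r₁ ∣ orderOf g₂ := by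
    intro hfree
    exact ⟨p, r, hp, hr, hrp.symm, sp', sr', hfree _ sp'.2 hsp1, hfree _ sr'.2 hsr1,
      by rw [hsp], by rw [hsr]⟩
  by_cases hnorm : ∀ g : G, MulAut.conj g • S = S
  · -- `S` is normal, hence equal to `N`
    have hSn : S.Normal := Subgroup.Normal.of_conjugate_fixed hnorm
    have hCne : Subgroup.centralizer (S : Set G) ≠ ⊥ := by
      intro hC
      apply hnas
      refine ⟨S, hSn, hsimple, ?_, hC⟩
      intro hcomm
      apply hS.2.1
      rw [eq_bot_iff, ← hSZ]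
      intro s hs
      refine Subgroup.mem_inf.mpr ⟨hs, ?_⟩
      rw [Subgroup.mem_centralizer_iff]
      intro t ht
      have := mul_comm' (⟨t, ht⟩ : S) ⟨s, hs⟩
      exact congrArg Subtype.val this
    have hCn : (Subgroup.centralizer (S : Set G)).Normal := Subgroup.normal_centralizer
    have htrC := prim_exists_smul_eq hprim (Subgroup.centralizer (S : Set G)) hCne
    have hcomm : ∀ c ∈ Subgroup.centralizer (S : Set G), ∀ s ∈ S, c * s = s * c :=
      fun c hc s hs => (Subgroup.mem_centralizer_iff.mp hc s hs).symm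
    have hfreeS : ∀ s ∈ S, ∀ ω : Ω, s • ω = ω → s = 1 :=
      free_of_commute_transitive (Subgroup.centralizer (S : Set G)) S htrC hcomm
    exact hsemi (fun s hs hs1 ω hω => hs1 (hfreeS s hs ω hω))
  · push Not at hnorm
    obtain ⟨g₀, hg₀⟩ := hnorm
    have hX : IsMinInv N (MulAut.conj g₀ • S) := hS.conj g₀
    have hXS : MulAut.conj g₀ • S ⊓ S = ⊥ := by
      rcases hX.2.2 (MulAut.conj g₀ • S ⊓ S) (hX.1.inf hS.1) inf_le_left with h | h
      · exact h
      · exfalso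
        have hXleS : MulAut.conj g₀ • S ≤ S := by
          have h0 : MulAut.conj g₀ • S ⊓ S ≤ S := inf_le_right
          rwa [h] at h0
        rcases hS.2.2 _ hX.1 hXleS with h' | h'
        · exact hX.2.1 h'
        · exact hg₀ h'
    have hXc : ∀ x ∈ MulAut.conj g₀ • S, ∀ s ∈ S, x * s = s * x :=
      fun x hx s hs => (hX.1.commute hS.1 hXS hx hs).eq
    have hconjmem : ∀ s ∈ S, g₀ * s * g₀⁻¹ ∈ MulAut.conj g₀ • S := fun s hs => by
      have := Subgroup.smul_mem_pointwise_smul s (MulAut.conj g₀) S hs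
      simpa [MulAut.smul_def] using this
    have hyp : orderOf (g₀ * (sp' : G) * g₀⁻¹) = p := by
      rw [← orderOf_eq_of_isConj (isConj_iff.mpr ⟨g₀, rfl⟩), hsp]
    have hyr : orderOf (g₀ * (sr' : G) * g₀⁻¹) = r := by
      rw [← orderOf_eq_of_isConj (isConj_iff.mpr ⟨g₀, rfl⟩), hsr]
    by_cases hfree : ∀ s ∈ S, s ≠ 1 → ∀ ω : Ω, s • ω ≠ ω
    · exact hsemi hfree
    · push Not at hfree
      obtain ⟨s₀, hs₀, hs₀1, ω₀, hfix⟩ := hfree
      obtain ⟨s₁, hs₁S, hs₁1, hder⟩ := exists_caseI_der hS hNC htr hfaith hs₀ hs₀1 hfix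
      have hXcent : ∀ x ∈ MulAut.conj g₀ • S, x ∈ Subgroup.centralizer (S : Set G) :=
        fun x hx => by
          rw [Subgroup.mem_centralizer_iff]
          intro s hs
          exact (hXc x hx s hs).symm
      have hdvd : ∀ y ∈ MulAut.conj g₀ • S, orderOf y ∣ orderOf (s₁ * y) := by
        intro y hy
        apply orderOf_dvd_of_pow_eq_one
        have hc : Commute s₁ y := (hXc y hy s₁ hs₁S).symm
        have h1 : s₁ ^ orderOf (s₁ * y) * y ^ orderOf (s₁ * y) = 1 := by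
          rw [← hc.mul_pow, pow_orderOf_eq_one]
        have h2 : y ^ orderOf (s₁ * y) ∈ MulAut.conj g₀ • S ⊓ S := by
          refine Subgroup.mem_inf.mpr ⟨Subgroup.pow_mem _ hy _, ?_⟩
          rw [eq_inv_of_mul_eq_one_right h1]
          exact S.inv_mem (S.pow_mem hs₁S _)
        rw [hXS] at h2
        exact Subgroup.mem_bot.mp h2
      refine ⟨p, r, hp, hr, hrp.symm, s₁ * (g₀ * (sp' : G) * g₀⁻¹),
        s₁ * (g₀ * (sr' : G) * g₀⁻¹),
        hder _ (hXcent _ (hconjmem _ sp'.2)) (hX.1.1 (hconjmem _ sp'.2)),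
        hder _ (hXcent _ (hconjmem _ sr'.2)) (hX.1.1 (hconjmem _ sr'.2)), ?_, ?_⟩
      · have := hdvd _ (hconjmem _ sp'.2)
        rwa [hyp] at this
      · have := hdvd _ (hconjmem _ sr'.2)
        rwa [hyr] at this

end derprime

end Cfsg.Agent.Helper58
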