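import Mathlib
import Cfsg.Agent.Lib.Helper52.FLDefs

/-!
# FL (CQ) core for helper52's server (S3822): `C_{V/D}(Q) = 1`, with (COMM) and (DNOR) as hypotheses.
-/

set_option autoImplicit false

namespace Cfsg.Agent.Helper58.FL

open Cfsg.Agent.Helper52.FL

variable {G : Type*} [Group G]

section CTX
variable {A Q V : Subgroup G} {r s : ℕ}

theorem h58_mem_Dsub {x : G} :
    x ∈ Dsub Q V ↔ x ∈ V ∧ x ∈ Subgroup.centralizer (Q : Set G) := Subgroup.mem_inf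

/-- `A` normalises `D = C_V(Q)`. -/
theorem h58_A_conj_D (h : Ctx A Q V r s) {α : G} (hα : α ∈ A) {d : G} (hd : d ∈ Dsub Q V) :
    α * d * α⁻¹ ∈ Dsub Q V := by
  obtain ⟨hdV, hdC⟩ := h58_mem_Dsub.mp hd
  refine h58_mem_Dsub.mpr ⟨(Subgroup.mem_normalizer_iff.mp (h.hAV hα) d).mp hdV, ?_⟩
  rw [Subgroup.mem_centralizer_iff]
  intro q hq
  have hq' : α⁻¹ * q * α ∈ Q := by
    have := (Subgroup.mem_normalizer_iff.mp (h.hAQ (inv_mem hα)) q).mp hq
    simpa using this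
  have hc := (Subgroup.mem_centralizer_iff.mp hdC) _ hq'
  -- hc : α⁻¹ * q * α * d = d * (α⁻¹ * q * α)
  calc q * (α * d * α⁻¹) = α * (α⁻¹ * q * α * d) * α⁻¹ := by group
    _ = α * (d * (α⁻¹ * q * α)) * α⁻¹ := by rw [hc]
    _ = α * d * α⁻¹ * q := by group

theorem h58_A_le_normalizer_D (h : Ctx A Q V r s) :
    A ≤ Subgroup.normalizer (Dsub Q V : Set G) := by
  intro α hα
  rw [Subgroup.mem_normalizer_iff]
  intro d
  constructor
  · intro hd
    exact h58_A_conj_D h hα hd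
  · intro hd
    have := h58_A_conj_D h (inv_mem hα) hd
    simpa [mul_assoc] using this

/-- (CQ) with (COMM) and (DNOR) as hypotheses. -/
theorem h58_CQ_core (h : Ctx A Q V r s) (hcomm : ⁅V, Q⁆ = V)
    (hdn : V ≤ Subgroup.normalizer (Dsub Q V : Set G)) :
    ∀ v ∈ V, (∀ q ∈ Q, v * q * v⁻¹ * q⁻¹ ∈ Dsub Q V) → v ∈ Dsub Q V := by
  classical
  let E : Subgroup G :=
    { carrier := {v | v ∈ V ∧ ∀ q ∈ Q, v * q * v⁻¹ * q⁻¹ ∈ Dsub Q V}
      one_mem' := by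
        refine ⟨one_mem V, ?_⟩
        intro q _
        have : (1 : G) * q * 1⁻¹ * q⁻¹ = 1 := by group
        rw [this]
        exact one_mem _
      mul_mem' := by
        rintro v₁ v₂ ⟨hv₁, h₁⟩ ⟨hv₂, h₂⟩
        refine ⟨mul_mem hv₁ hv₂, ?_⟩
        intro q hq
        have e : v₁ * v₂ * q * (v₁ * v₂)⁻¹ * q⁻¹ =
            v₁ * (v₂ * q * v₂⁻¹ * q⁻¹) * v₁⁻¹ * (v₁ * q * v₁⁻¹ * q⁻¹) := by group
        rw [e]
        exact mul_mem ((Subgroup.mem_normalizer_iff.mp (hdn hv₁) _).mp (h₂ q hq)) (h₁ q hq)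
      inv_mem' := by
        rintro v ⟨hv, h₁⟩
        refine ⟨inv_mem hv, ?_⟩
        intro q hq
        have e : v⁻¹ * q * v⁻¹⁻¹ * q⁻¹ = v⁻¹ * (v * q * v⁻¹ * q⁻¹)⁻¹ * v⁻¹⁻¹ := by group
        rw [e]
        exact (Subgroup.mem_normalizer_iff.mp (hdn (inv_mem hv)) _).mp (inv_mem (h₁ q hq)) }
  have hE : ∀ v, v ∈ E ↔ (v ∈ V ∧ ∀ q ∈ Q, v * q * v⁻¹ * q⁻¹ ∈ Dsub Q V) := fun v => Iff.rfl
  have hEV : E ≤ V := fun v hv => ((hE v).mp hv).1
  -- `A` normalises `E`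
  have hconj : ∀ α ∈ A, ∀ v ∈ E, α * v * α⁻¹ ∈ E := by
    intro α hα v hv
    obtain ⟨hvV, hvQ⟩ := (hE v).mp hv
    rw [hE]
    refine ⟨(Subgroup.mem_normalizer_iff.mp (h.hAV hα) v).mp hvV, ?_⟩
    intro q hq
    have hq' : α⁻¹ * q * α ∈ Q := by
      have := (Subgroup.mem_normalizer_iff.mp (h.hAQ (inv_mem hα)) q).mp hq
      simpa using this
    have e : α * v * α⁻¹ * q * (α * v * α⁻¹)⁻¹ * q⁻¹ =
        α * (v * (α⁻¹ * q * α) * v⁻¹ * (α⁻¹ * q * α)⁻¹) * α⁻¹ := by group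
    rw [e]
    exact h58_A_conj_D h hα (hvQ _ hq')
  have hAE : A ≤ Subgroup.normalizer (E : Set G) := by
    intro α hα
    rw [Subgroup.mem_normalizer_iff]
    intro v
    constructor
    · intro hv
      exact hconj α hα v hv
    · intro hv
      have := hconj α⁻¹ (inv_mem hα) _ hv
      simpa [mul_assoc] using this
  have hne : E ≠ V := by
    intro hEq
    apply h.hnc
    have hle : ⁅V, Q⁆ ≤ Dsub Q V := by
      rw [Subgroup.commutator_le]
      intro v hv q hq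
      have hvE : v ∈ E := by rw [hEq]; exact hv
      have := ((hE v).mp hvE).2 q hq
      rw [commutatorElement_def]
      exact this
    rw [hcomm] at hle
    exact fun v hv => (h58_mem_Dsub.mp (hle hv)).2
  have hEC := h.hmin E hEV hne hAE
  intro v hv hvQ
  have hvE : v ∈ E := (hE v).mpr ⟨hv, hvQ⟩
  exact h58_mem_Dsub.mpr ⟨hv, hEC hvE⟩

end CTX

end Cfsg.Agent.Helper58.FL
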