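import Mathlib
import Cfsg.Agent.Lib.Helper52.FLDefs
import Cfsg.Agent.Lib.Helper58.FLCQCore

/-!
# FL server (helper52, S3822): own copies of (DNOR) and (DER), used by my (CQ) and (POW).
-/

set_option autoImplicit false

namespace Cfsg.Agent.Helper58.FL

open Cfsg.Agent.Helper52.FL
open scoped commutatorElement

variable {G : Type*} [Group G] [Finite G]

section CTX
variable {A Q V : Subgroup G} {r s : ℕ} [Fact r.Prime]

/-- A subgroup stable under conjugation by `A` is normalised by `A`. -/
theorem h58_le_normalizer_of_conj {A K : Subgroup G}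
    (hc : ∀ α ∈ A, ∀ k ∈ K, α * k * α⁻¹ ∈ K) : A ≤ Subgroup.normalizer (K : Set G) := by
  intro α hα
  rw [Subgroup.mem_normalizer_iff]
  intro v
  constructor
  · intro hv
    exact hc α hα v hv
  · intro hv
    have := hc α⁻¹ (inv_mem hα) _ hv
    simpa [mul_assoc] using this

theorem h58_V_nilpotent (h : Ctx A Q V r s) : Group.IsNilpotent ↥V :=
  IsPGroup.isNilpotent (p := r) h.hV

theorem h58_D_ne_V (h : Ctx A Q V r s) : Dsub Q V ≠ V := by
  intro he
  apply h.hnc
  intro v hv
  rw [← he] at hv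
  exact (h58_mem_Dsub.mp hv).2

/-- own copy of (DNOR): `V` normalises `D`. -/
theorem h58_DNOR (h : Ctx A Q V r s) : V ≤ Subgroup.normalizer (Dsub Q V : Set G) := by
  classical
  have hDV : Dsub Q V ≤ V := inf_le_left
  set N : Subgroup G := V ⊓ Subgroup.normalizer (Dsub Q V : Set G) with hN
  have hNV : N ≤ V := inf_le_left
  have hAN : A ≤ Subgroup.normalizer (N : Set G) := by
    apply h58_le_normalizer_of_conj
    intro α hα k hk
    obtain ⟨hkV, hkN⟩ := Subgroup.mem_inf.mp hk
    refine Subgroup.mem_inf.mpr ⟨(Subgroup.mem_normalizer_iff.mp (h.hAV hα) k).mp hkV, ?_⟩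
    have hαN : α ∈ Subgroup.normalizer (Dsub Q V : Set G) := h58_A_le_normalizer_D h hα
    exact mul_mem (mul_mem hαN hkN) (inv_mem hαN)
  by_cases hNe : N = V
  · intro v hv
    rw [← hNe] at hv
    exact (Subgroup.mem_inf.mp hv).2
  · exfalso
    have hNC := h.hmin N hNV hNe hAN
    -- `N ≤ D`
    have hND : N ≤ Dsub Q V := fun x hx => h58_mem_Dsub.mpr ⟨hNV hx, hNC hx⟩
    -- normaliser condition in `V`
    haveI := h58_V_nilpotent h
    have hlt : (Dsub Q V).subgroupOf V < ⊤ := by
      rw [lt_top_iff_ne_top]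
      intro htop
      rw [Subgroup.subgroupOf_eq_top] at htop
      exact h58_D_ne_V h (le_antisymm hDV htop)
    have hnc := normalizerCondition_of_isNilpotent (G := ↥V) _ hlt
    obtain ⟨x, hxN, hxD⟩ := SetLike.exists_of_lt hnc
    rw [← Subgroup.subgroupOf_normalizer_eq hDV, Subgroup.mem_subgroupOf] at hxN
    apply hxD
    rw [Subgroup.mem_subgroupOf]
    exact hND (Subgroup.mem_inf.mpr ⟨x.2, hxN⟩)

/-- own copy of (DER): `[V,V] ≤ D`. -/
theorem h58_DER (h : Ctx A Q V r s) : ⁅V, V⁆ ≤ Dsub Q V := by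
  classical
  have hle : ⁅V, V⁆ ≤ V := Subgroup.commutator_le_self V
  have hne : ⁅V, V⁆ ≠ V := by
    intro he
    haveI := h58_V_nilpotent h
    haveI : Nontrivial ↥V := by
      rw [Subgroup.nontrivial_iff_ne_bot]
      intro hb
      apply h.hnc
      rw [hb]
      exact bot_le
    have hlt := Group.IsSolvable.commutator_lt_top_of_nontrivial ↥V
    have hmap : (_root_.commutator ↥V).map V.subtype = (⊤ : Subgroup ↥V).map V.subtype := by
      rw [Subgroup.map_subtype_commutator, he, ← MonoidHom.range_eq_map, Subgroup.range_subtype]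
    have := Subgroup.map_injective V.subtype_injective hmap
    exact hlt.ne this
  have hA : A ≤ Subgroup.normalizer ((⁅V, V⁆ : Subgroup G) : Set G) := by
    apply h58_le_normalizer_of_conj
    intro α hα k hk
    have hmapV : V.map (MulAut.conj α).toMonoidHom ≤ V := by
      rintro _ ⟨v, hv, rfl⟩
      exact (Subgroup.mem_normalizer_iff.mp (h.hAV hα) v).mp hv
    have h1 : α * k * α⁻¹ ∈ (⁅V, V⁆).map (MulAut.conj α).toMonoidHom :=
      ⟨k, hk, by simp [MulAut.conj_apply]⟩
    rw [Subgroup.map_commutator] at h1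
    exact Subgroup.commutator_mono hmapV hmapV h1
  have hC := h.hmin _ hle hne hA
  exact fun x hx => h58_mem_Dsub.mpr ⟨hle hx, hC hx⟩

end CTX

end Cfsg.Agent.Helper58.FL
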