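import Mathlib
import Cfsg.Agent.Lib.Helper52.FLDefs
import Cfsg.Agent.Lib.Helper58.FLCQCore

/-!
# FL (POW) core for helper52's server (S3822): `v ^ r ∈ D`, with (DER) and (DNOR) as hypotheses.
-/

set_option autoImplicit false

namespace Cfsg.Agent.Helper58.FL

open Cfsg.Agent.Helper52.FL
open scoped commutatorElement

variable {G : Type*} [Group G] [Finite G]

section CTX
variable {A Q V : Subgroup G} {r s : ℕ} [Fact r.Prime]

/-- (POW) with (DER) and (DNOR) as hypotheses. -/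
theorem h58_POW_core (h : Ctx A Q V r s) (hder : ⁅V, V⁆ ≤ Dsub Q V)
    (hdn : V ≤ Subgroup.normalizer (Dsub Q V : Set G)) :
    ∀ v ∈ V, v ^ r ∈ Dsub Q V := by
  classical
  have hDV : Dsub Q V ≤ V := inf_le_left
  haveI hD'n : ((Dsub Q V).subgroupOf V).Normal :=
    (Subgroup.normal_subgroupOf_iff_le_normalizer hDV).mpr hdn
  -- the quotient `V / D` is commutative
  have hcomm : ∀ a b : ↥V ⧸ (Dsub Q V).subgroupOf V, Commute a b := by
    intro a b
    induction a using QuotientGroup.induction_on with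
    | H a =>
    induction b using QuotientGroup.induction_on with
    | H b =>
    show (a : ↥V ⧸ (Dsub Q V).subgroupOf V) * (b : ↥V ⧸ (Dsub Q V).subgroupOf V) = b * a
    rw [← QuotientGroup.mk_mul, ← QuotientGroup.mk_mul, QuotientGroup.eq, Subgroup.mem_subgroupOf]
    have e : (((a * b)⁻¹ * (b * a) : ↥V) : G) = ⁅(b : G)⁻¹, (a : G)⁻¹⁆ := by
      rw [commutatorElement_def]
      push_cast
      group
    rw [e]
    exact hder (Subgroup.commutator_mem_commutator (inv_mem b.2) (inv_mem a.2))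
  -- membership of `v ^ r` in `D` in terms of the quotient
  have hpow : ∀ (v : G) (hv : v ∈ V), v ^ r ∈ Dsub Q V ↔
      ((⟨v, hv⟩ : ↥V) : ↥V ⧸ (Dsub Q V).subgroupOf V) ^ r = 1 := by
    intro v hv
    rw [← QuotientGroup.mk_pow, QuotientGroup.eq_one_iff, Subgroup.mem_subgroupOf]
    rfl
  let E : Subgroup G :=
    { carrier := {v | v ∈ V ∧ v ^ r ∈ Dsub Q V}
      one_mem' := by
        refine ⟨one_mem V, ?_⟩
        rw [one_pow]
        exact one_mem _
      mul_mem' := by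
        rintro v₁ v₂ ⟨hv₁, h₁⟩ ⟨hv₂, h₂⟩
        refine ⟨mul_mem hv₁ hv₂, ?_⟩
        rw [hpow _ (mul_mem hv₁ hv₂)]
        rw [hpow _ hv₁] at h₁
        rw [hpow _ hv₂] at h₂
        have e : ((⟨v₁ * v₂, mul_mem hv₁ hv₂⟩ : ↥V) : ↥V ⧸ (Dsub Q V).subgroupOf V) =
            ((⟨v₁, hv₁⟩ : ↥V) : ↥V ⧸ (Dsub Q V).subgroupOf V) *
              ((⟨v₂, hv₂⟩ : ↥V) : ↥V ⧸ (Dsub Q V).subgroupOf V) := by
          rw [← QuotientGroup.mk_mul]
          rfl
        rw [e, (hcomm _ _).mul_pow, h₁, h₂, one_mul]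
      inv_mem' := by
        rintro v ⟨hv, h₁⟩
        refine ⟨inv_mem hv, ?_⟩
        rw [inv_pow]
        exact inv_mem h₁ }
  have hE : ∀ v, v ∈ E ↔ (v ∈ V ∧ v ^ r ∈ Dsub Q V) := fun v => Iff.rfl
  have hEV : E ≤ V := fun v hv => ((hE v).mp hv).1
  have hconj : ∀ α ∈ A, ∀ v ∈ E, α * v * α⁻¹ ∈ E := by
    intro α hα v hv
    obtain ⟨hvV, hvD⟩ := (hE v).mp hv
    rw [hE]
    refine ⟨(Subgroup.mem_normalizer_iff.mp (h.hAV hα) v).mp hvV, ?_⟩
    rw [conj_pow]
    exact h58_A_conj_D h hα hvD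
  have hAE : A ≤ Subgroup.normalizer (E : Set G) := by
    intro α hα
    rw [Subgroup.mem_normalizer_iff]
    intro v
    constructor
    · intro hv
      exact hconj α hα v hv
    · intro hv
      have := hconj α⁻¹ (inv_mem hα) _ hv
      simpa [mul_assoc] using this
  -- Cauchy in `V / D`
  have hne_top : (Dsub Q V).subgroupOf V ≠ ⊤ := by
    intro htop
    rw [Subgroup.subgroupOf_eq_top] at htop
    exact h.hnc (fun v hv => (h58_mem_Dsub.mp (htop hv)).2)
  have hVp : IsPGroup r ↥V := h.hV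
  have hQp : IsPGroup r (↥V ⧸ (Dsub Q V).subgroupOf V) := hVp.to_quotient _
  obtain ⟨n, hn⟩ := IsPGroup.iff_card.mp hQp
  have hn0 : n ≠ 0 := by
    intro h0
    rw [h0, pow_zero] at hn
    apply hne_top
    rw [← Subgroup.index_eq_one]
    exact hn
  have hdvd : r ∣ Nat.card (↥V ⧸ (Dsub Q V).subgroupOf V) := by
    rw [hn]
    exact dvd_pow_self r hn0
  obtain ⟨x₀, hx₀⟩ := exists_prime_orderOf_dvd_card' r hdvd
  obtain ⟨v₀, rfl⟩ := QuotientGroup.mk_surjective x₀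
  have hv₀r : (v₀ : G) ^ r ∈ Dsub Q V := by
    rw [hpow _ v₀.2]
    have : ((v₀ : ↥V) : ↥V ⧸ (Dsub Q V).subgroupOf V) ^ r = 1 := by
      rw [← hx₀]
      exact pow_orderOf_eq_one _
    exact this
  have hv₀D : (v₀ : G) ∉ Dsub Q V := by
    intro hmem
    have h1 : ((v₀ : ↥V) : ↥V ⧸ (Dsub Q V).subgroupOf V) = 1 := by
      rw [QuotientGroup.eq_one_iff, Subgroup.mem_subgroupOf]
      exact hmem
    rw [h1, orderOf_one] at hx₀
    exact (Fact.out : r.Prime).one_lt.ne hx₀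
  have hv₀E : (v₀ : G) ∈ E := (hE _).mpr ⟨v₀.2, hv₀r⟩
  have hEeq : E = V := by
    by_contra hne
    have hEC := h.hmin E hEV hne hAE
    exact hv₀D (h58_mem_Dsub.mpr ⟨v₀.2, hEC hv₀E⟩)
  intro v hv
  have : v ∈ E := by rw [hEeq]; exact hv
  exact ((hE v).mp this).2

end CTX

end Cfsg.Agent.Helper58.FL
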