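import Mathlib
import Cfsg.Agent.Lib.Helper52.FLDefs
import Cfsg.Agent.Lib.Helper52.Coprime
import Cfsg.Agent.Lib.Helper9.WielandtBasic
import Cfsg.Agent.Lib.Helper97.FXDefs
import Cfsg.Agent.Lib.Helper58.FLAux
import Cfsg.Agent.Lib.Helper58.FLPOWCore

/-!
# FL (POW) `pow_mem_D` for helper52's server (S3822)
-/

set_option autoImplicit false

namespace Cfsg.Agent.Helper58.FL

open Cfsg.Agent.Helper52.FL Cfsg.Agent.Helper97.FX

variable {G : Type*} [Group G] [Finite G]

section CTX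
variable {A Q V : Subgroup G} {r s : ℕ} [Fact r.Prime] [Fact s.Prime]

/-- **(POW) [M]** uses (DER), (DNOR). -/
theorem pow_mem_D (h : Ctx A Q V r s) : ∀ v ∈ V, v ^ r ∈ Dsub Q V :=
  h58_POW_core h (h58_DER h) (h58_DNOR h)

end CTX

end Cfsg.Agent.Helper58.FL
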