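import Mathlib
import Cfsg.Agent.Lib.Helper97.FXDefs
import Cfsg.Agent.Lib.Helper48.SympRep
import Cfsg.Agent.Lib.Helper86.ESREC

/-!
# FX (SHIFT) for helper97's FX server (S3818): `shift_bound`.
-/

set_option autoImplicit false

namespace Cfsg.Agent.Helper58.FX

open Cfsg.Agent.Helper97.FX Cfsg.Agent.Helper48.SympRep

universe u

section LA
variable {K : Type*} [Field K] {V : Type u} [AddCommGroup V] [Module K V] [FiniteDimensional K V]

omit [FiniteDimensional K V] in
/-- `T * P' ^ j = κ ^ j • (P' ^ j * T)` -/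
theorem h58_shift_pow (T P P' : Module.End K V) (hP'P : P' * P = 1) (κ : K)
    (hconj : P * T * P' = κ • T) (j : ℕ) : T * P' ^ j = κ ^ j • (P' ^ j * T) := by
  have h1 : T * P' = κ • (P' * T) := by
    have h2 : P' * (P * T * P') = P' * (κ • T) := by rw [hconj]
    rw [← mul_assoc, ← mul_assoc, hP'P, one_mul, mul_smul_comm] at h2
    exact h2
  induction j with
  | zero => simp
  | succ j ih =>
    rw [pow_succ, ← mul_assoc, ih, smul_mul_assoc, mul_assoc, h1, mul_smul_comm, smul_smul,
      ← mul_assoc, ← pow_succ]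

/-- piece (SHIFT) -/
theorem shift_bound (T P P' : Module.End K V) (hPP' : P * P' = 1) (hP'P : P' * P = 1) (κ : K)
    {p : ℕ} (hp : p.Prime) (hκ1 : κ ≠ 1) (hκp : κ ^ p = 1) (hconj : P * T * P' = κ • T) :
    p * fixDim T ≤ Module.finrank K V := by
  have : Fact p.Prime := ⟨hp⟩
  have hord : orderOf κ = p := orderOf_eq_prime hκp hκ1
  -- the eigenvalues `κ ^ j`, `j < p`, are distinct
  have hinj : Function.Injective (fun j : Fin p => κ ^ (j : ℕ)) := by
    intro i j hij
    have h1 : (i : ℕ) ∈ Set.Iio (orderOf κ) := by rw [hord]; exact i.2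
    have h2 : (j : ℕ) ∈ Set.Iio (orderOf κ) := by rw [hord]; exact j.2
    exact Fin.ext (pow_injOn_Iio_orderOf h1 h2 hij)
  have hind : iSupIndep (fun j : Fin p => T.eigenspace (κ ^ (j : ℕ))) :=
    (Module.End.eigenspaces_iSupIndep T).comp hinj
  -- `P' ^ j` maps the fixed space into the `κ ^ j`-eigenspace
  have hmem : ∀ (j : ℕ) (v : V), v ∈ LinearMap.ker (T - 1) →
      (P' ^ j) v ∈ T.eigenspace (κ ^ j) := by
    intro j v hv
    rw [LinearMap.mem_ker, LinearMap.sub_apply, Module.End.one_apply, sub_eq_zero] at hv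
    rw [Module.End.mem_eigenspace_iff]
    have h3 := congrArg (fun f : Module.End K V => f v) (h58_shift_pow T P P' hP'P κ hconj j)
    simp only [Module.End.mul_apply, LinearMap.smul_apply] at h3
    rw [h3, hv]
  -- `P' ^ j` is injective
  have hPinj : ∀ (j : ℕ) (v : V), (P' ^ j) v = 0 → v = 0 := by
    intro j v hv
    have hcomm : Commute P P' := by
      show P * P' = P' * P
      rw [hPP', hP'P]
    have h4 : P ^ j * P' ^ j = 1 := by rw [← hcomm.mul_pow, hPP', one_pow]
    have h5 := congrArg (fun f : Module.End K V => f v) h4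
    simp only [Module.End.mul_apply, Module.End.one_apply] at h5
    rw [← h5, hv, map_zero]
  -- the linear map `(v_j) ↦ ∑ P' ^ j v_j`
  obtain ⟨Φ, hΦ⟩ : ∃ Φ : (Fin p → LinearMap.ker (T - 1)) →ₗ[K] V,
      ∀ v, Φ v = ∑ j : Fin p, (P' ^ (j : ℕ)) (v j : V) := by
    refine ⟨∑ j : Fin p, (P' ^ (j : ℕ)) ∘ₗ (LinearMap.ker (T - 1)).subtype ∘ₗ
      LinearMap.proj j, ?_⟩
    intro v
    simp [LinearMap.sum_apply]
  have hΦinj : Function.Injective Φ := by
    rw [← LinearMap.ker_eq_bot, LinearMap.ker_eq_bot']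
    intro v hv
    rw [hΦ] at hv
    have h6 := (iSupIndep_iff_finsetSum_eq_zero_imp_eq_zero _).mp hind Finset.univ
      (fun j : Fin p => (P' ^ (j : ℕ)) (v j : V))
      (fun j _ => hmem (j : ℕ) (v j : V) (v j).2) hv
    funext j
    apply Subtype.ext
    exact hPinj (j : ℕ) (v j : V) (h6 j (Finset.mem_univ j))
  have hle := LinearMap.finrank_le_finrank_of_injective hΦinj
  rw [Module.finrank_pi_fintype, Finset.sum_const, Finset.card_univ, Fintype.card_fin,
    smul_eq_mul] at hle
  exact hle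

end LA

end Cfsg.Agent.Helper58.FX
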