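import Mathlib
import Cfsg.Agent.Lib.Helper97.FXDefs
import Cfsg.Agent.Lib.Helper48.SympRep
import Cfsg.Agent.Lib.Helper86.ESREC
import Cfsg.Agent.Lib.Helper58.FXSHIFT

/-!
# FX (SHC) for helper97's FX server (S3818): `shift_case`.
-/

set_option autoImplicit false

namespace Cfsg.Agent.Helper58.FX

open Cfsg.Agent.Helper97.FX Cfsg.Agent.Helper48.SympRep

universe u

section SY
variable {K : Type*} [Field K] {M : Type u} [AddCommGroup M] [Module K M] [FiniteDimensional K M]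
variable {Q : Type*} [Group Q] [Fintype Q]
variable {ρ : Q →* Module.End K M} {a : Q ≃* Q} {g g' : Module.End K M}

/-- piece (SHC) -/
theorem shift_case (h : Normalises ρ a g g') {p : ℕ} (hp : p.Prime) (hgp : g ^ p = 1) (m : Q)
    (hm : a m * m⁻¹ ∈ scalarSubgroup ρ) (hne : ρ (a m * m⁻¹) ≠ 1) :
    p * fixDim g ≤ Module.finrank K M := by
  obtain ⟨κ, hκ⟩ : IsScalar (ρ (a m * m⁻¹)) := hm
  have hκ1 : κ ≠ 1 := by
    rintro rfl
    rw [one_smul] at hκ
    exact hne hκ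
  have h10 : (1 : Module.End K M) ≠ 0 := by
    intro h0
    apply hne
    rw [← mul_one (ρ (a m * m⁻¹)), h0, mul_zero]
  have hPP' : ρ m⁻¹ * ρ m = 1 := rho_inv_mul ρ m
  have hP'P : ρ m * ρ m⁻¹ = 1 := rho_mul_inv ρ m
  have ham : ρ (a m) = κ • ρ m := by
    have h1 : a m = (a m * m⁻¹) * m := by rw [inv_mul_cancel_right]
    rw [h1, map_mul, hκ, smul_mul_assoc, one_mul]
  have hconj : ρ m⁻¹ * g * ρ m = κ • g := by
    rw [mul_assoc, h.conj m, ham, smul_mul_assoc, mul_smul_comm, ← mul_assoc, hPP', one_mul]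
  have hκp : κ ^ p = 1 := by
    let u : (Module.End K M)ˣ := ⟨ρ m⁻¹, ρ m, hPP', hP'P⟩
    have h2 : (ρ m⁻¹ * g * ρ m) ^ p = ρ m⁻¹ * g ^ p * ρ m := Units.conj_pow u g p
    rw [hconj, hgp, mul_one, hPP', smul_pow, hgp] at h2
    have h3 : (κ ^ p - 1) • (1 : Module.End K M) = 0 := by
      rw [sub_smul, h2, one_smul, sub_self]
    rcases smul_eq_zero.mp h3 with h4 | h4
    · exact sub_eq_zero.mp h4
    · exact absurd h4 h10
  exact shift_bound g (ρ m⁻¹) (ρ m) hPP' hP'P κ hp hκ1 hκp hconj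

end SY

end Cfsg.Agent.Helper58.FX
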