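import Mathlib
import Cfsg.Agent.Lib.Helper97.FXDefs
import Cfsg.Agent.Lib.Helper97.FXDefs2
import Cfsg.Agent.Lib.Helper48.SympRep

/-!
# FX (WT) for helper97's FX server (S3818), core: `weight_decomp` from the simultaneous
eigenspace decomposition (SIMEIG) as a hypothesis.
-/

set_option autoImplicit false

namespace Cfsg.Agent.Helper58.FX

open Cfsg.Agent.Helper97.FX Cfsg.Agent.Helper48.SympRep
open scoped TensorProduct

universe u

section RT
variable {K : Type*} [Field K] {G : Type*} [Group G]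
variable {V : Type u} [AddCommGroup V] [Module K V]

/-- the weight space of the "character" `χ` of `N` -/
def h58wt (ρ : G →* Module.End K V) (N : Subgroup G) (χ : ↥N → K) : Submodule K V :=
  ⨅ n : ↥N, Module.End.eigenspace (ρ (n : G)) (χ n)

theorem h58_mem_wt (ρ : G →* Module.End K V) (N : Subgroup G) (χ : ↥N → K) (w : V) :
    w ∈ h58wt ρ N χ ↔ ∀ n : ↥N, ρ (n : G) w = χ n • w := by
  unfold h58wt
  rw [Submodule.mem_iInf]
  simp only [Module.End.mem_eigenspace_iff]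

/-- the twisted character `n ↦ χ (g⁻¹ n g)` -/
def h58tw (N : Subgroup G) [hN : N.Normal] (g : G) (χ : ↥N → K) : ↥N → K :=
  fun n => χ ⟨g⁻¹ * (n : G) * g, by
    have h := hN.conj_mem (n : G) n.2 g⁻¹
    rwa [inv_inv] at h⟩

theorem h58_tw_tw (N : Subgroup G) [hN : N.Normal] (g : G) (χ : ↥N → K) :
    h58tw N g⁻¹ (h58tw N g χ) = χ := by
  funext n
  unfold h58tw
  apply congrArg χ
  apply Subtype.ext
  show g⁻¹ * (g⁻¹⁻¹ * (n : G) * g⁻¹) * g = (n : G)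
  group

theorem h58_map_wt_le (ρ : G →* Module.End K V) (N : Subgroup G) [hN : N.Normal] (g : G)
    (χ : ↥N → K) : (h58wt ρ N χ).map (ρ g) ≤ h58wt ρ N (h58tw N g χ) := by
  rintro _ ⟨w, hw, rfl⟩
  rw [SetLike.mem_coe, h58_mem_wt] at hw
  rw [h58_mem_wt]
  intro n
  have hmem : g⁻¹ * (n : G) * g ∈ N := by
    have h := hN.conj_mem (n : G) n.2 g⁻¹
    rwa [inv_inv] at h
  have key : ρ (n : G) * ρ g = ρ g * ρ (g⁻¹ * (n : G) * g) := by
    rw [← map_mul, ← map_mul]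
    apply congrArg ρ
    group
  have h1 := congrArg (fun f : Module.End K V => f w) key
  simp only [Module.End.mul_apply] at h1
  rw [h1, hw ⟨g⁻¹ * (n : G) * g, hmem⟩, map_smul]
  rfl

theorem h58_map_wt_eq (ρ : G →* Module.End K V) (N : Subgroup G) [hN : N.Normal] (g : G)
    (χ : ↥N → K) : (h58wt ρ N χ).map (ρ g) = h58wt ρ N (h58tw N g χ) := by
  apply le_antisymm (h58_map_wt_le ρ N g χ)
  intro w hw
  have h1 : ρ g⁻¹ w ∈ h58wt ρ N χ := by
    have h2 := h58_map_wt_le ρ N g⁻¹ (h58tw N g χ) (Submodule.mem_map_of_mem hw)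
    rwa [h58_tw_tw] at h2
  refine ⟨ρ g⁻¹ w, h1, ?_⟩
  rw [← Module.End.mul_apply, ← map_mul, mul_inv_cancel, map_one, Module.End.one_apply]

/-- (WT) from (SIMEIG) -/
theorem h58_weight_decomp_of [Nontrivial V] (ρ : G →* Module.End K V) (hirr : Irr ρ)
    (N : Subgroup G) [hN : N.Normal]
    (hSE : iSupIndep (fun χ : ↥N → K => ⨅ n : ↥N, Module.End.eigenspace (ρ (n : G)) (χ n)) ∧
      ⨆ χ : ↥N → K, ⨅ n : ↥N, Module.End.eigenspace (ρ (n : G)) (χ n) = ⊤) :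
    ∃ W₀ : Submodule K V, W₀ ≠ ⊥ ∧ (∀ n ∈ N, ∃ c : K, ∀ w ∈ W₀, ρ n w = c • w) ∧
      iSupIndep (fun i : WtOrbit ρ W₀ => i.1) ∧ (⨆ i : WtOrbit ρ W₀, i.1) = ⊤ := by
  obtain ⟨hind, htop⟩ := hSE
  have hind' : iSupIndep (h58wt ρ N) := hind
  have htop' : ⨆ χ : ↥N → K, h58wt ρ N χ = ⊤ := htop
  -- some weight space is nonzero
  obtain ⟨χ₀, hχ₀⟩ : ∃ χ₀ : ↥N → K, h58wt ρ N χ₀ ≠ ⊥ := by
    by_contra hcon
    push Not at hcon
    have h1 : ⨆ χ : ↥N → K, h58wt ρ N χ = ⊥ := by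
      rw [iSup_eq_bot]
      exact hcon
    rw [h1] at htop'
    exact bot_ne_top htop'
  refine ⟨h58wt ρ N χ₀, hχ₀, ?_, ?_, ?_⟩
  · intro n hn
    refine ⟨χ₀ ⟨n, hn⟩, fun w hw => ?_⟩
    exact (h58_mem_wt ρ N χ₀ w).mp hw ⟨n, hn⟩
  · -- independence
    have hex : ∀ i : WtOrbit ρ (h58wt ρ N χ₀), ∃ χ : ↥N → K, i.1 = h58wt ρ N χ := by
      rintro ⟨W, g, hg⟩
      exact ⟨h58tw N g χ₀, hg.trans (h58_map_wt_eq ρ N g χ₀)⟩
    choose φ hφ using hex
    have hφinj : Function.Injective φ := by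
      intro i j hij
      apply Subtype.ext
      rw [hφ i, hφ j, hij]
    have h2 : iSupIndep (fun i : WtOrbit ρ (h58wt ρ N χ₀) => h58wt ρ N (φ i)) :=
      hind'.comp hφinj
    have h3 : (fun i : WtOrbit ρ (h58wt ρ N χ₀) => i.1)
        = (fun i : WtOrbit ρ (h58wt ρ N χ₀) => h58wt ρ N (φ i)) := by
      funext i
      exact hφ i
    rw [h3]
    exact h2
  · -- the sum is invariant and nonzero
    have hinv : ∀ g, ∀ w ∈ (⨆ i : WtOrbit ρ (h58wt ρ N χ₀), i.1), ρ g w ∈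
        (⨆ i : WtOrbit ρ (h58wt ρ N χ₀), i.1) := by
      intro g w hw
      have h4 : (⨆ i : WtOrbit ρ (h58wt ρ N χ₀), i.1).map (ρ g)
          ≤ ⨆ i : WtOrbit ρ (h58wt ρ N χ₀), i.1 := by
        rw [Submodule.map_iSup]
        apply iSup_le
        intro i
        have h5 : (i.1).map (ρ g) = (g • i).1 := (WtOrbit.smul_val ρ _ g i).symm
        rw [h5]
        exact le_iSup (fun j : WtOrbit ρ (h58wt ρ N χ₀) => j.1) (g • i)
      exact h4 (Submodule.mem_map_of_mem hw)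
    rcases hirr _ hinv with h6 | h6
    · exfalso
      apply hχ₀
      have h7 : h58wt ρ N χ₀ ≤ ⨆ i : WtOrbit ρ (h58wt ρ N χ₀), i.1 :=
        le_iSup (fun j : WtOrbit ρ (h58wt ρ N χ₀) => j.1) (WtOrbit.base ρ (h58wt ρ N χ₀))
      rw [h6] at h7
      exact le_bot_iff.mp h7
    · exact h6

end RT

end Cfsg.Agent.Helper58.FX
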