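import Mathlib
import Cfsg.Agent.Lib.Helper97.FXDefs
import Cfsg.Agent.Lib.Helper97.FXDefs2
import Cfsg.Agent.Lib.Helper48.SympRep
import Cfsg.Agent.Lib.Helper58.FXSIMEIG
import Cfsg.Agent.Lib.Helper58.FXWTCore

/-!
# FX (WT) for helper97's FX server (S3818): `weight_decomp`.
-/

set_option autoImplicit false

namespace Cfsg.Agent.Helper58.FX

open Cfsg.Agent.Helper97.FX Cfsg.Agent.Helper48.SympRep
open scoped TensorProduct

universe u

section RT
variable {K : Type*} [Field K] [IsAlgClosed K] {G : Type*} [Group G] [Finite G]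
variable {V : Type u} [AddCommGroup V] [Module K V] [FiniteDimensional K V] [Nontrivial V]

/-- piece (WT) -/
theorem weight_decomp (ρ : G →* Module.End K V) (hirr : Irr ρ) (N : Subgroup G) [N.Normal]
    (hab : ∀ a ∈ N, ∀ b ∈ N, a * b = b * a) (hcard : (Nat.card N : K) ≠ 0) :
    ∃ W₀ : Submodule K V, W₀ ≠ ⊥ ∧ (∀ n ∈ N, ∃ c : K, ∀ w ∈ W₀, ρ n w = c • w) ∧
      iSupIndep (fun i : WtOrbit ρ W₀ => i.1) ∧ (⨆ i : WtOrbit ρ W₀, i.1) = ⊤ := by
  apply h58_weight_decomp_of ρ hirr N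
  apply simul_eigen (fun n : ↥N => ρ (n : G)) ?_ (Nat.card N) hcard ?_
  · intro i j
    rw [← map_mul, ← map_mul, hab i i.2 j j.2]
  · intro i
    rw [← map_pow]
    have h1 : (i : G) ^ Nat.card N = 1 := by
      have h2 : i ^ Nat.card N = 1 := pow_card_eq_one'
      have h3 : ((i ^ Nat.card N : ↥N) : G) = ((1 : ↥N) : G) := congrArg Subtype.val h2
      rw [Subgroup.coe_pow, Subgroup.coe_one] at h3
      exact h3
    rw [h1, map_one]

end RT

end Cfsg.Agent.Helper58.FX
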