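import Mathlib
import Cfsg.Agent.S4399
import Cfsg.Agent.S0106
import Cfsg.Agent.Lib.Helper73.TwoGroupC

set_option autoImplicit false

open scoped commutatorElement

namespace Cfsg.Agent.Helper58.Fix2

/-- A finite `2`-group with an involution whose centralizer is proper of order at most `4` is dihedral
or quasi-dihedral (Suzuki's lemma, through Taussky's theorem). -/
theorem dihedral_or_qd_of_centralizer_four {X : Type*} [Group X] [Finite X] (hX : IsPGroup 2 X)
    (t : X) (ht : orderOf t = 2)
    (hC : Nat.card (Subgroup.centralizer ({t} : Set X)) ≤ 4)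
    (hC' : Subgroup.centralizer ({t} : Set X) ≠ ⊤) :
    (∃ n : ℕ, Nonempty (X ≃* DihedralGroup n)) ∨ Cfsg.IsQuasiDihedral X := by
  classical
  -- some element does not commute with t
  have hnc : ∃ g : X, g * t ≠ t * g := by
    by_contra hcon
    push Not at hcon
    apply hC'
    rw [eq_top_iff]
    intro g _
    rw [Subgroup.mem_centralizer_singleton_iff]
    exact hcon g
  have hcomm_ne : commutator X ≠ ⊥ := by
    intro h
    obtain ⟨g, hg⟩ := hnc
    apply hg
    have : ⁅g, t⁆ ∈ commutator X :=
      Subgroup.commutator_mem_commutator (Subgroup.mem_top g) (Subgroup.mem_top t)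
    rw [h, Subgroup.mem_bot, commutatorElement_def] at this
    have h2 : g * t * g⁻¹ = t := by
      have := congrArg (· * t) this
      simpa using this
    calc g * t = g * t * g⁻¹ * g := by group
      _ = t * g := by rw [h2]
  have h4dvd : 4 ∣ (commutator X).index := Cfsg.Agent.Helper73.four_dvd_index_commutator hX hcomm_ne
  -- the index of the commutator subgroup is at most 4
  set C := Subgroup.centralizer ({t} : Set X) with hCdef
  have hinj : Nat.card (X ⧸ C) ≤ Nat.card (commutator X) := by
    let f : X ⧸ C → commutator X := Quotient.lift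
      (fun g : X => (⟨⁅g, t⁆, Subgroup.commutator_mem_commutator (Subgroup.mem_top g)
        (Subgroup.mem_top t)⟩ : commutator X)) (by
        intro a b hab
        have hab' : a⁻¹ * b ∈ C := QuotientGroup.leftRel_apply.mp hab
        rw [hCdef, Subgroup.mem_centralizer_singleton_iff] at hab'
        apply Subtype.ext
        show ⁅a, t⁆ = ⁅b, t⁆
        rw [commutatorElement_def, commutatorElement_def]
        have h3 : b * t * b⁻¹ = a * t * a⁻¹ := by
          calc b * t * b⁻¹ = a * ((a⁻¹ * b) * t) * (a⁻¹ * b)⁻¹ * a⁻¹ := by group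
            _ = a * (t * (a⁻¹ * b)) * (a⁻¹ * b)⁻¹ * a⁻¹ := by rw [hab']
            _ = a * t * a⁻¹ := by group
        rw [h3])
    apply Nat.card_le_card_of_injective f
    intro q₁ q₂
    refine Quotient.inductionOn₂ q₁ q₂ ?_
    intro a b hab
    have hab' : ⁅a, t⁆ = ⁅b, t⁆ := congrArg Subtype.val hab
    rw [commutatorElement_def, commutatorElement_def] at hab'
    have h5 : a * t * a⁻¹ = b * t * b⁻¹ := by
      have := congrArg (· * t) hab'
      simpa using this
    apply Quotient.sound
    apply QuotientGroup.leftRel_apply.mpr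
    show a⁻¹ * b ∈ C
    rw [hCdef, Subgroup.mem_centralizer_singleton_iff]
    calc a⁻¹ * b * t = a⁻¹ * (b * t * b⁻¹) * b := by group
      _ = a⁻¹ * (a * t * a⁻¹) * b := by rw [h5]
      _ = t * (a⁻¹ * b) := by group
  have hidx_le : (commutator X).index ≤ 4 := by
    have h1 : Nat.card C * C.index = Nat.card X := Subgroup.card_mul_index C
    have h2 : Nat.card (commutator X) * (commutator X).index = Nat.card X :=
      Subgroup.card_mul_index (commutator X)
    have h3 : C.index = Nat.card (X ⧸ C) := Subgroup.index_eq_card C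
    have hpos : 0 < Nat.card (commutator X) := Nat.card_pos
    have h6 : Nat.card (commutator X) * (commutator X).index ≤ Nat.card (commutator X) * 4 := by
      rw [h2, ← h1, h3]
      calc Nat.card C * Nat.card (X ⧸ C) ≤ 4 * Nat.card (commutator X) :=
            Nat.mul_le_mul hC hinj
        _ = Nat.card (commutator X) * 4 := by ring
    exact Nat.le_of_mul_le_mul_left h6 hpos
  have hidx : (commutator X).index = 4 := by
    have hpos : (commutator X).index ≠ 0 := Subgroup.index_ne_zero_of_finite
    obtain ⟨k, hk⟩ := h4dvd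
    have : k = 1 := by
      rcases k with _ | _ | k
      · omega
      · rfl
      · omega
    omega
  have hab : Nat.card (Abelianization X) = 4 := by
    rw [← hidx, Subgroup.index_eq_card]
    rfl
  have hexp : ∀ x : Abelianization X, x ^ 2 = 1 := by
    intro x
    by_contra hx
    have hdvd : orderOf x ∣ 2 ^ 2 := by
      have := orderOf_dvd_natCard x
      rw [hab] at this
      exact this
    obtain ⟨k, hk, hk2⟩ := (Nat.dvd_prime_pow Nat.prime_two).1 hdvd
    have hk' : k = 2 := by
      interval_cases k
      · exfalso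
        apply hx
        rw [pow_zero, orderOf_eq_one_iff] at hk2
        rw [hk2, one_pow]
      · exfalso
        apply hx
        rw [pow_one] at hk2
        rw [← hk2, pow_orderOf_eq_one]
      · rfl
    rw [hk'] at hk2
    -- x generates the abelianization
    have hz : Subgroup.zpowers x = ⊤ := by
      apply Subgroup.eq_top_of_card_eq
      rw [Nat.card_zpowers, hk2, hab]
      norm_num
    obtain ⟨g, hg⟩ := QuotientGroup.mk_surjective x
    have hsup : Subgroup.zpowers g ⊔ commutator X = ⊤ := by
      rw [eq_top_iff]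
      intro y _
      have hy : (Abelianization.of y) ∈ Subgroup.zpowers x := by
        rw [hz]; exact Subgroup.mem_top _
      obtain ⟨n, hn⟩ := Subgroup.mem_zpowers_iff.mp hy
      have hgx : Abelianization.of g = x := hg
      have h7 : Abelianization.of (g ^ n) = Abelianization.of y := by
        rw [map_zpow, hgx, hn]
      have h8 : (g ^ n)⁻¹ * y ∈ commutator X :=
        QuotientGroup.eq.mp (show (QuotientGroup.mk (g ^ n) : X ⧸ commutator X) = QuotientGroup.mk y from h7)
      have h9 : y = g ^ n * ((g ^ n)⁻¹ * y) := by group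
      rw [h9]
      exact Subgroup.mul_mem_sup (Subgroup.zpow_mem_zpowers g n) h8
    have htop : Subgroup.zpowers g = ⊤ := Cfsg.Agent.Helper73.eq_top_of_sup_commutator hX _ hsup
    obtain ⟨g', hg'⟩ := hnc
    apply hg'
    have h1 : g' ∈ Subgroup.zpowers g := by rw [htop]; exact Subgroup.mem_top _
    have h2 : t ∈ Subgroup.zpowers g := by rw [htop]; exact Subgroup.mem_top _
    obtain ⟨a, rfl⟩ := Subgroup.mem_zpowers_iff.mp h1
    obtain ⟨b, rfl⟩ := Subgroup.mem_zpowers_iff.mp h2
    rw [← zpow_add, ← zpow_add, add_comm]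
  rcases Cfsg.Agent.S4399.result hX hab hexp with h4 | ⟨k, ⟨e⟩⟩ | ⟨k, hcard, a, b, ha, hb, hba⟩ | ⟨k, ⟨e⟩⟩
  · exfalso
    obtain ⟨g, hg⟩ := hnc
    apply hg
    exact (IsPGroup.isMulCommutative_of_card_eq_prime_sq (p := 2) (by rw [h4]; norm_num)).is_comm.comm g t
  · exact Or.inl ⟨_, ⟨e⟩⟩
  · right
    refine ⟨k + 3, by omega, hcard, a, b, ha, hb, ?_⟩
    rw [hba]
    congr 2
  · exfalso
    obtain ⟨g, hg⟩ := hnc
    apply hg
    have h1 : orderOf (e t) = 2 := by rw [MulEquiv.orderOf_eq]; exact ht
    have h2 : orderOf (e (g * t * g⁻¹)) = 2 := by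
      rw [MulEquiv.orderOf_eq]
      have := MulEquiv.orderOf_eq (MulAut.conj g) t
      rw [MulAut.conj_apply] at this
      rw [this, ht]
    have h3 := Cfsg.Agent.S0106.quat_invol_unique _ h1
    have h4 := Cfsg.Agent.S0106.quat_invol_unique _ h2
    have h5 : g * t * g⁻¹ = t := e.injective (by rw [h3, h4])
    calc g * t = g * t * g⁻¹ * g := by group
      _ = t * g := by rw [h5]

end Cfsg.Agent.Helper58.Fix2
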