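import Mathlib
import Cfsg.Agent.Lib.Helper58.Fix2A

set_option autoImplicit false

namespace Cfsg.Agent.Helper58.Fix2

open MulAction

/-- Fixity at most `2`, in the form: a non-identity element cannot fix three distinct points. -/
def Fix3 (G : Type*) [Group G] (Ω : Type*) [MulAction G Ω] : Prop :=
  ∀ g : G, g ≠ 1 → ∀ a b c : Ω, g • a = a → g • b = b → g • c = c → a = b ∨ a = c ∨ b = c

section
variable {G : Type*} [Group G] {Ω : Type*} [MulAction G Ω]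

theorem fix3_of_card [Finite Ω]
    (hfix : ∀ g : G, g ≠ 1 → Nat.card (MulAction.fixedBy Ω g) ≤ 2) : Fix3 G Ω := by
  intro g hg a b c ha hb hc
  by_contra hcon
  push Not at hcon
  obtain ⟨hab, hac, hbc⟩ := hcon
  have h1 : ({a, b, c} : Set Ω) ⊆ MulAction.fixedBy Ω g := by
    intro x hx
    rcases hx with rfl | rfl | rfl
    · exact ha
    · exact hb
    · exact hc
  have h2 : ({a, b, c} : Set Ω).ncard = 3 := Set.ncard_eq_three.mpr ⟨a, b, c, hab, hac, hbc, rfl⟩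
  have h3 := Set.ncard_le_ncard h1 (Set.toFinite _)
  have h4 := hfix g hg
  rw [Nat.card_coe_set_eq] at h4
  omega

/-- In a finite `2`-group a proper subgroup is properly contained in its normalizer. -/
theorem exists_normalizing [Finite G] {S U : Subgroup G} (hS : IsPGroup 2 S) (hUS : U ≤ S)
    (hne : U ≠ S) : ∃ x ∈ S, x ∉ U ∧ ∀ u, u ∈ U ↔ x * u * x⁻¹ ∈ U := by
  have : Fact (Nat.Prime 2) := ⟨Nat.prime_two⟩
  have : Group.IsNilpotent S := hS.isNilpotent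
  have hnc : NormalizerCondition S := normalizerCondition_of_isNilpotent
  have hlt : U.subgroupOf S < ⊤ := by
    rw [lt_top_iff_ne_top]
    intro h
    rw [Subgroup.subgroupOf_eq_top] at h
    exact hne (le_antisymm hUS h)
  obtain ⟨x, hxN, hxU⟩ := SetLike.exists_of_lt (hnc _ hlt)
  rw [Subgroup.mem_normalizer_iff] at hxN
  refine ⟨x, x.2, fun h => hxU (Subgroup.mem_subgroupOf.mpr h), fun u => ⟨fun hu => ?_, fun hu => ?_⟩⟩
  · have := (hxN ⟨u, hUS hu⟩).mp (Subgroup.mem_subgroupOf.mpr hu)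
    exact Subgroup.mem_subgroupOf.mp this
  · have huS : u ∈ S := by
      have h1 : (x : G) * u * (x : G)⁻¹ ∈ S := hUS hu
      have : u = (x : G)⁻¹ * ((x : G) * u * (x : G)⁻¹) * (x : G) := by group
      rw [this]
      exact S.mul_mem (S.mul_mem (S.inv_mem x.2) h1) x.2
    have := (hxN ⟨u, huS⟩).mpr (Subgroup.mem_subgroupOf.mpr hu)
    exact Subgroup.mem_subgroupOf.mp this

/-- If `y` normalizes the point stabilizer `U` of `ω` in `S`, then `U` fixes `y • ω`. -/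
theorem fix_conj {S : Subgroup G} (ω : Ω) (y : G)
    (hyN : ∀ u, u ∈ S ⊓ stabilizer G ω ↔ y * u * y⁻¹ ∈ S ⊓ stabilizer G ω) :
    ∀ u ∈ S ⊓ stabilizer G ω, u • (y • ω) = y • ω := by
  intro u hu
  have h1 : y⁻¹ * u * y ∈ S ⊓ stabilizer G ω := by
    rw [hyN]
    have : y * (y⁻¹ * u * y) * y⁻¹ = u := by group
    rw [this]; exact hu
  have h2 : (y⁻¹ * u * y) • ω = ω := mem_stabilizer_iff.mp h1.2
  calc u • (y • ω) = y • ((y⁻¹ * u * y) • ω) := by
        rw [← mul_smul, ← mul_smul]; congr 1; group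
    _ = y • ω := by rw [h2]

theorem stab_step (hF : Fix3 G Ω) {S : Subgroup G} (ω : Ω)
    (hUne : S ⊓ stabilizer G ω ≠ ⊥) (x : G) (hxS : x ∈ S) (hxU : x ∉ S ⊓ stabilizer G ω)
    (hxN : ∀ u, u ∈ S ⊓ stabilizer G ω ↔ x * u * x⁻¹ ∈ S ⊓ stabilizer G ω) :
    x • ω ≠ ω ∧ (∀ u ∈ S ⊓ stabilizer G ω, u • (x • ω) = x • ω) ∧
    ∀ y ∈ S, (∀ u, u ∈ S ⊓ stabilizer G ω ↔ y * u * y⁻¹ ∈ S ⊓ stabilizer G ω) →
      y ∈ S ⊓ stabilizer G ω ∨ x⁻¹ * y ∈ S ⊓ stabilizer G ω := by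
  have hxω : x • ω ≠ ω := fun h => hxU ⟨hxS, mem_stabilizer_iff.mpr h⟩
  refine ⟨hxω, fix_conj ω x hxN, ?_⟩
  intro y hyS hyN
  by_cases hyU : y ∈ S ⊓ stabilizer G ω
  · exact Or.inl hyU
  right
  have hyω : y • ω ≠ ω := fun h => hyU ⟨hyS, mem_stabilizer_iff.mpr h⟩
  obtain ⟨u₀, hu₀, hu₀1'⟩ := (Subgroup.bot_or_exists_ne_one _).resolve_left hUne
  have h1 : (u₀ : G) • ω = ω := mem_stabilizer_iff.mp hu₀.2
  have h2 := fix_conj ω x hxN u₀ hu₀
  have h3 := fix_conj ω y hyN u₀ hu₀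
  rcases hF u₀ hu₀1' ω (x • ω) (y • ω) h1 h2 h3 with h | h | h
  · exact absurd h.symm hxω
  · exact absurd h.symm hyω
  · refine ⟨S.mul_mem (S.inv_mem hxS) hyS, mem_stabilizer_iff.mpr ?_⟩
    rw [mul_smul, ← h, ← mul_smul, inv_mul_cancel, one_smul]

theorem card_eq_two_of_unique {H : Subgroup G} (hne : H ≠ ⊥)
    (huniq : ∀ a ∈ H, ∀ b ∈ H, a ≠ 1 → b ≠ 1 → a = b) : Nat.card H = 2 := by
  obtain ⟨t₀, ht₀, ht₀1'⟩ := (Subgroup.bot_or_exists_ne_one _).resolve_left hne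
  have hset : (H : Set G) = {1, (t₀ : G)} := by
    ext g
    constructor
    · intro hg
      by_cases hg1 : g = 1
      · left; exact hg1
      · right; exact huniq g hg t₀ ht₀ hg1 ht₀1'
    · intro hg
      rcases hg with rfl | rfl
      · exact H.one_mem
      · exact ht₀
  have : Nat.card H = (H : Set G).ncard := Nat.card_coe_set_eq (H : Set G)
  rw [this, hset]
  exact Set.ncard_pair (Ne.symm ht₀1')

/-- Either `S` normalizes the stabilizer `T` of `α` in `S`, or `T` has order `2`. -/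
theorem normal_or_card_two [Finite G] (hF : Fix3 G Ω) {S : Subgroup G} (hS : IsPGroup 2 S) (α : Ω)
    (hTne : S ⊓ stabilizer G α ≠ ⊥) (hTS : S ⊓ stabilizer G α ≠ S) :
    (∀ y ∈ S, ∀ u, u ∈ S ⊓ stabilizer G α ↔ y * u * y⁻¹ ∈ S ⊓ stabilizer G α) ∨
      Nat.card ↥(S ⊓ stabilizer G α) = 2 := by
  by_cases hall : ∀ y ∈ S, ∀ u, u ∈ S ⊓ stabilizer G α ↔ y * u * y⁻¹ ∈ S ⊓ stabilizer G α
  · exact Or.inl hall
  right
  set T := S ⊓ stabilizer G α with hT
  obtain ⟨x, hxS, hxT, hxN⟩ := exists_normalizing hS (inf_le_left : T ≤ S) hTS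
  obtain ⟨hxα, hxfix, hcos⟩ := stab_step hF α hTne x hxS hxT hxN
  set N := S ⊓ Subgroup.normalizer (T : Set G) with hN
  have hNS : N ≠ S := by
    intro h
    apply hall
    intro y hy
    have : y ∈ N := by rw [h]; exact hy
    exact Subgroup.mem_normalizer_iff.mp this.2
  obtain ⟨y, hyS, hyN', hyN⟩ := exists_normalizing hS (inf_le_left : N ≤ S) hNS
  have hTN : T ≤ N := le_inf inf_le_left Subgroup.le_normalizer
  have hxNmem : x ∈ N := ⟨hxS, Subgroup.mem_normalizer_iff.mpr hxN⟩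
  have hyT : y ∉ T := fun h => hyN' (hTN h)
  have hyα : y • α ≠ α := fun h => hyT ⟨hyS, mem_stabilizer_iff.mpr h⟩
  have hxy : x • α ≠ y • α := by
    intro h
    apply hyN'
    have h1 : x⁻¹ * y ∈ T := by
      refine ⟨S.mul_mem (S.inv_mem hxS) hyS, mem_stabilizer_iff.mpr ?_⟩
      rw [mul_smul, ← h, ← mul_smul, inv_mul_cancel, one_smul]
    have : y = x * (x⁻¹ * y) := by group
    rw [this]
    exact N.mul_mem hxNmem (hTN h1)
  have hdisj : ∀ t' ∈ T, y * t' * y⁻¹ ∈ T → t' = 1 := by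
    intro t' ht' hv
    by_contra ht1
    have hv1 : y * t' * y⁻¹ ≠ 1 := by
      intro h
      apply ht1
      have : t' = y⁻¹ * (y * t' * y⁻¹) * y := by group
      rw [this, h]; group
    have h1 : (y * t' * y⁻¹) • α = α := mem_stabilizer_iff.mp hv.2
    have h2 := hxfix _ hv
    have h3 : (y * t' * y⁻¹) • (y • α) = y • α := by
      have ht'α : t' • α = α := mem_stabilizer_iff.mp ht'.2
      calc (y * t' * y⁻¹) • (y • α) = y • (t' • α) := by
            rw [← mul_smul, ← mul_smul]; congr 1; group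
        _ = y • α := by rw [ht'α]
    rcases hF _ hv1 α (x • α) (y • α) h1 h2 h3 with h | h | h
    · exact hxα h.symm
    · exact hyα h.symm
    · exact hxy h
  have hcos' : ∀ t' ∈ T, t' ≠ 1 → x⁻¹ * (y * t' * y⁻¹) ∈ T := by
    intro t' ht' ht1
    have h1 : y * t' * y⁻¹ ∈ N := (hyN t').mp (hTN ht')
    rcases hcos _ h1.1 (Subgroup.mem_normalizer_iff.mp h1.2) with h | h
    · exact absurd (hdisj t' ht' h) ht1
    · exact h
  apply card_eq_two_of_unique hTne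
  intro a ha b hb ha1 hb1
  have h1 := hcos' a ha ha1
  have h2 := hcos' b hb hb1
  have h3 : y * (a⁻¹ * b) * y⁻¹ ∈ T := by
    have : y * (a⁻¹ * b) * y⁻¹ = (x⁻¹ * (y * a * y⁻¹))⁻¹ * (x⁻¹ * (y * b * y⁻¹)) := by group
    rw [this]
    exact T.mul_mem (T.inv_mem h1) h2
  have h4 := hdisj (a⁻¹ * b) (T.mul_mem (T.inv_mem ha) hb) h3
  calc a = a * (a⁻¹ * b) := by rw [h4, mul_one]
    _ = b := by group

theorem relIndex_eq_two (hF : Fix3 G Ω) {S : Subgroup G} (ω : Ω)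
    (hUne : S ⊓ stabilizer G ω ≠ ⊥)
    (hall : ∀ y ∈ S, ∀ u, u ∈ S ⊓ stabilizer G ω ↔ y * u * y⁻¹ ∈ S ⊓ stabilizer G ω)
    (x : G) (hxS : x ∈ S) (hxU : x ∉ S ⊓ stabilizer G ω) :
    (S ⊓ stabilizer G ω).relIndex S = 2 := by
  obtain ⟨-, -, hcos⟩ := stab_step hF ω hUne x hxS hxU (hall x hxS)
  show ((S ⊓ stabilizer G ω).subgroupOf S).index = 2
  rw [Subgroup.index_eq_two_iff]
  refine ⟨⟨x⁻¹, S.inv_mem hxS⟩, fun b => ?_⟩
  rw [Subgroup.mem_subgroupOf, Subgroup.mem_subgroupOf]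
  show Xor ((b : G) * x⁻¹ ∈ S ⊓ stabilizer G ω) ((b : G) ∈ S ⊓ stabilizer G ω)
  by_cases hb : (b : G) ∈ S ⊓ stabilizer G ω
  · right
    refine ⟨hb, fun h => hxU ?_⟩
    have : x = ((b : G)⁻¹ * ((b : G) * x⁻¹))⁻¹ := by group
    rw [this]
    exact Subgroup.inv_mem _ (Subgroup.mul_mem _ (Subgroup.inv_mem _ hb) h)
  · left
    refine ⟨?_, hb⟩
    rcases hcos b b.2 (hall b b.2) with h | h
    · exact absurd h hb
    · have := (hall x hxS _).mp h
      have h2 : x * (x⁻¹ * (b : G)) * x⁻¹ = (b : G) * x⁻¹ := by group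
      rw [h2] at this
      exact this

end

end Cfsg.Agent.Helper58.Fix2
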