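import Mathlib
import Cfsg.Agent.Lib.Helper58.Fix2B

set_option autoImplicit false

namespace Cfsg.Agent.Helper58.Fix2

open MulAction

section
variable {G : Type*} [Group G] {Ω : Type*} [MulAction G Ω]

/-- A point stabilizer of order `2` in the `2`-group `S` that is not normal in `S` forces `S` to be
dihedral or quasi-dihedral. -/
theorem dqd_of_card_two [Finite G] (hF : Fix3 G Ω) {S : Subgroup G} (hS : IsPGroup 2 S) (ω : Ω)
    (hU2 : Nat.card ↥(S ⊓ stabilizer G ω) = 2) (hUS : S ⊓ stabilizer G ω ≠ S)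
    (hnot : ¬ ∀ y ∈ S, ∀ u, u ∈ S ⊓ stabilizer G ω ↔ y * u * y⁻¹ ∈ S ⊓ stabilizer G ω) :
    (∃ n : ℕ, Nonempty (↥S ≃* DihedralGroup n)) ∨ Cfsg.IsQuasiDihedral ↥S := by
  classical
  have : Fact (Nat.Prime 2) := ⟨Nat.prime_two⟩
  set U := S ⊓ stabilizer G ω with hU
  have hUne : U ≠ ⊥ := by
    intro h
    rw [h] at hU2
    simp at hU2
  obtain ⟨x, hxS, hxU, hxN⟩ := exists_normalizing hS (inf_le_left : U ≤ S) hUS
  obtain ⟨-, -, hcos⟩ := stab_step hF ω hUne x hxS hxU hxN
  obtain ⟨t', ht'1, huniq⟩ := (Nat.card_eq_two_iff' (1 : U)).mp hU2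
  have hUelts : ∀ u ∈ U, u = 1 ∨ u = (t' : G) := by
    intro u hu
    by_cases h1 : u = 1
    · exact Or.inl h1
    · right
      have := huniq ⟨u, hu⟩ (fun h => h1 (congrArg Subtype.val h))
      exact congrArg Subtype.val this
  set t : G := (t' : G) with ht
  have htU : t ∈ U := t'.2
  have ht1 : t ≠ 1 := fun h => ht'1 (Subtype.ext h)
  have htt : t * t = 1 := by
    rcases hUelts (t * t) (U.mul_mem htU htU) with h | h
    · exact h
    · exfalso
      apply ht1
      have : t * t = t * 1 := by rw [mul_one]; exact h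
      exact mul_left_cancel this
  have hnorm_of_comm : ∀ y : G, y * t = t * y → ∀ u, u ∈ U ↔ y * u * y⁻¹ ∈ U := by
    intro y hy u
    have hconj_t : y * t * y⁻¹ = t := by rw [hy]; group
    have hconj_t' : y⁻¹ * t * y = t := by
      calc y⁻¹ * t * y = y⁻¹ * (t * y) := by group
        _ = y⁻¹ * (y * t) := by rw [hy]
        _ = t := by group
    constructor
    · intro hu
      rcases hUelts u hu with h | h
      · rw [h]; simpa using U.one_mem
      · rw [h, hconj_t]; exact htU
    · intro hu
      have h2 : u = y⁻¹ * (y * u * y⁻¹) * y := by group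
      rcases hUelts _ hu with h | h
      · have : u = 1 := by rw [h2, h]; group
        rw [this]; exact U.one_mem
      · have : u = t := by rw [h2, h, hconj_t']
        rw [this]; exact htU
  set tS : ↥S := ⟨t, htU.1⟩ with htS
  have hord : orderOf tS = 2 := by
    apply orderOf_eq_prime
    · apply Subtype.ext
      show t ^ 2 = 1
      rw [pow_two, htt]
    · intro h
      exact ht1 (congrArg Subtype.val h)
  have hCne : Subgroup.centralizer ({tS} : Set ↥S) ≠ ⊤ := by
    intro h
    apply hnot
    intro y hy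
    have h1 : (⟨y, hy⟩ : ↥S) ∈ Subgroup.centralizer ({tS} : Set ↥S) := by rw [h]; trivial
    rw [Subgroup.mem_centralizer_singleton_iff] at h1
    have hyt : y * t = t * y := congrArg Subtype.val h1
    exact hnorm_of_comm y hyt
  have hCcard : Nat.card (Subgroup.centralizer ({tS} : Set ↥S)) ≤ 4 := by
    have key : ∀ y : Subgroup.centralizer ({tS} : Set ↥S),
        ((y : ↥S) : G) ∈ U ∨ x⁻¹ * ((y : ↥S) : G) ∈ U := by
      intro y
      have h1 := Subgroup.mem_centralizer_singleton_iff.mp y.2
      have hyt : ((y : ↥S) : G) * t = t * ((y : ↥S) : G) := congrArg Subtype.val h1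
      exact hcos _ (y : ↥S).2 (hnorm_of_comm _ hyt)
    let f : Subgroup.centralizer ({tS} : Set ↥S) → Bool × U := fun y =>
      if h : ((y : ↥S) : G) ∈ U then (true, ⟨_, h⟩)
      else (false, ⟨x⁻¹ * ((y : ↥S) : G), (key y).resolve_left h⟩)
    have hf : Function.Injective f := by
      intro y₁ y₂ h12
      simp only [f] at h12
      by_cases h1 : ((y₁ : ↥S) : G) ∈ U <;> by_cases h2 : ((y₂ : ↥S) : G) ∈ U
      · rw [dif_pos h1, dif_pos h2] at h12
        have h3 := congrArg (fun p => ((p.2 : U) : G)) h12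
        exact Subtype.ext (Subtype.ext h3)
      · rw [dif_pos h1, dif_neg h2] at h12
        have h3 := congrArg Prod.fst h12
        simp at h3
      · rw [dif_neg h1, dif_pos h2] at h12
        have h3 := congrArg Prod.fst h12
        simp at h3
      · rw [dif_neg h1, dif_neg h2] at h12
        have h3 := congrArg (fun p => ((p.2 : U) : G)) h12
        simp only at h3
        exact Subtype.ext (Subtype.ext (mul_left_cancel h3))
    calc Nat.card _ ≤ Nat.card (Bool × U) := Nat.card_le_card_of_injective f hf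
      _ = 2 * 2 := by rw [Nat.card_prod, hU2]; simp
      _ = 4 := rfl
  exact dihedral_or_qd_of_centralizer_four hS tS hord hCcard hCne

theorem card_mul_relIndex' {H K : Subgroup G} (h : H ≤ K) :
    Nat.card H * H.relIndex K = Nat.card K := by
  have h1 := Subgroup.card_mul_index (H.subgroupOf K)
  have h2 : Nat.card (H.subgroupOf K) = Nat.card H :=
    Nat.card_congr (Subgroup.subgroupOfEquivOfLe h).toEquiv
  rw [h2] at h1
  exact h1

theorem klein_case {S T U : Subgroup G} (hT : T.relIndex S = 2) (hU : U.relIndex S = 2)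
    (hUS : U ≤ S) (hTU : T ⊓ U = ⊥) (hU2 : Nat.card U = 2) :
    Nonempty (↥S ≃* DihedralGroup 2) := by
  have hcard : Nat.card S = 4 := by
    rw [← card_mul_relIndex' hUS, hU2, hU]
  have hsq : ∀ g : ↥S, g ^ 2 = 1 := by
    intro g
    have h1 : g ^ 2 ∈ T.subgroupOf S := Subgroup.sq_mem_of_index_two hT g
    have h2 : g ^ 2 ∈ U.subgroupOf S := Subgroup.sq_mem_of_index_two hU g
    have h3 : ((g ^ 2 : ↥S) : G) ∈ T ⊓ U :=
      ⟨Subgroup.mem_subgroupOf.mp h1, Subgroup.mem_subgroupOf.mp h2⟩
    rw [hTU, Subgroup.mem_bot] at h3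
    exact Subtype.ext h3
  have : Fact (Nat.Prime 2) := ⟨Nat.prime_two⟩
  have hnt : Nontrivial ↥S := by
    have : Finite ↥S := Nat.finite_of_card_ne_zero (by rw [hcard]; norm_num)
    rw [← Finite.one_lt_card_iff_nontrivial, hcard]
    norm_num
  have hK : IsKleinFour ↥S :=
    { card_four := hcard
      exponent_two := by
        rw [Monoid.exponent_eq_prime_iff Nat.prime_two]
        intro g hg
        exact orderOf_eq_prime (hsq g) hg }
  exact IsKleinFour.nonempty_mulEquiv

end

section transfer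

variable {G : Type*} [Group G] [Finite G]

/-- Evaluation of a transfer when the contribution of every cycle of length `n` is `c₀ ^ n`. -/
theorem transfer_eq_pow_index (H : Subgroup G) {A : Type*} [CommGroup A] (ϕ : H →* A) (m : G)
    (c₀ : A)
    (h : ∀ (k : G) (n : ℕ) (hk : k⁻¹ * m ^ n * k ∈ H), ϕ ⟨k⁻¹ * m ^ n * k, hk⟩ = c₀ ^ n) :
    MonoidHom.transfer ϕ m = c₀ ^ H.index := by
  classical
  haveI : Fintype (Quotient (MulAction.orbitRel (Subgroup.zpowers m) (G ⧸ H))) := Fintype.ofFinite _
  haveI : Fintype (G ⧸ H) := Fintype.ofFinite _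
  rw [MonoidHom.transfer_eq_prod_quotient_orbitRel_zpowers_quot ϕ m]
  have hsum : ∑ q : Quotient (MulAction.orbitRel (Subgroup.zpowers m) (G ⧸ H)),
      Function.minimalPeriod (m • ·) q.out = H.index := by
    rw [Subgroup.index_eq_card, Nat.card_eq_fintype_card,
      Fintype.card_congr (MulAction.selfEquivSigmaOrbits (Subgroup.zpowers m) (G ⧸ H)),
      Fintype.card_sigma]
    refine Finset.sum_congr rfl (fun q _ => ?_)
    rw [MulAction.minimalPeriod_eq_card]
    rfl
  rw [← hsum, ← Finset.prod_pow_eq_pow_sum]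
  exact Finset.prod_congr rfl (fun q _ => h _ _ _)

end transfer

end Cfsg.Agent.Helper58.Fix2
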