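import Mathlib
import Cfsg.Prelude.Def_Solvable
import Cfsg.Agent.Lib.Helper58.Fix2C

set_option autoImplicit false

namespace Cfsg.Agent.Helper58.Fix2

open MulAction

section
variable {G : Type*} [Group G] {Ω : Type*} [MulAction G Ω]

/-- An element of odd order cannot swap two distinct points. -/
theorem odd_swap (y : G) (hodd : Odd (orderOf y)) (a b : Ω) (h1 : y • a = b) (h2 : y • b = a) :
    a = b := by
  obtain ⟨m, hm⟩ := hodd
  have hsq : (y ^ 2) • a = a := by rw [pow_two, mul_smul, h1, h2]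
  have hmem : y ^ 2 ∈ stabilizer G a := mem_stabilizer_iff.mpr hsq
  have hpow : (y ^ 2) ^ (m + 1) ∈ stabilizer G a := Subgroup.pow_mem _ hmem _
  have hy : (y ^ 2) ^ (m + 1) = y := by
    rw [← pow_mul]
    have : 2 * (m + 1) = orderOf y + 1 := by omega
    rw [this, pow_succ, pow_orderOf_eq_one, one_mul]
  rw [hy] at hpow
  rw [← h1]
  exact (mem_stabilizer_iff.mp hpow).symm

/-- An element of odd order commuting with a non-identity element `w` fixing the distinct points
`a`, `b` fixes both points. -/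
theorem odd_fix (hF : Fix3 G Ω) (w : G) (hw1 : w ≠ 1) (a b : Ω) (hab : a ≠ b) (hwa : w • a = a)
    (hwb : w • b = b) (y : G) (hodd : Odd (orderOf y)) (hc : y * w = w * y) :
    y • a = a ∧ y • b = b := by
  have hfix : ∀ c : Ω, w • c = c → w • (y • c) = y • c := by
    intro c hcw
    rw [← mul_smul, ← hc, mul_smul, hcw]
  have hya : y • a = a ∨ y • a = b := by
    rcases hF w hw1 a b (y • a) hwa hwb (hfix a hwa) with h | h | h
    · exact absurd h hab
    · exact Or.inl h.symm
    · exact Or.inr h.symm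
  have hyb : y • b = a ∨ y • b = b := by
    rcases hF w hw1 a b (y • b) hwa hwb (hfix b hwb) with h | h | h
    · exact absurd h hab
    · exact Or.inl h.symm
    · exact Or.inr h.symm
  have hinj : y • a ≠ y • b := fun h => hab (MulAction.injective y h)
  rcases hya with ha | ha <;> rcases hyb with hb | hb
  · exact absurd (ha.trans hb.symm) hinj
  · exact ⟨ha, hb⟩
  · exact absurd (odd_swap y hodd a b ha hb) hab
  · exact absurd (ha.trans hb.symm) hinj

end

section main

variable {G : Type*} [Group G] [Finite G] {Ω : Type*} [MulAction G Ω]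

set_option maxHeartbeats 1000000 in
/-- The transfer argument: a normal subgroup of index `2` in which the point stabilizer is a
Frobenius complement. -/
theorem exists_frobenius_index_two [FaithfulSMul G Ω] (htr : IsPretransitive G Ω)
    (hF : Fix3 G Ω) (S : Sylow 2 G) (α : Ω)
    (hTne : (S : Subgroup G) ⊓ stabilizer G α ≠ ⊥)
    (hidx : ((S : Subgroup G) ⊓ stabilizer G α).relIndex S = 2)
    (hall : ∀ y ∈ (S : Subgroup G), ∀ u, u ∈ (S : Subgroup G) ⊓ stabilizer G α ↔
      y * u * y⁻¹ ∈ (S : Subgroup G) ⊓ stabilizer G α)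
    (x : G) (hxS : x ∈ (S : Subgroup G)) (hxT : x ∉ (S : Subgroup G) ⊓ stabilizer G α)
    (hR : ∀ y ∈ (S : Subgroup G), ∀ ω : Ω, y • ω = ω → y ∈ (S : Subgroup G) ⊓ stabilizer G α) :
    ∃ N : Subgroup G, N.Normal ∧ N.index = 2 ∧ ∃ H : Subgroup ↥N, Cfsg.IsFrobeniusComplement H := by
  classical
  have : Fact (Nat.Prime 2) := ⟨Nat.prime_two⟩
  set T := (S : Subgroup G) ⊓ stabilizer G α with hT
  have hidx' : (T.subgroupOf (S : Subgroup G)).index = 2 := hidx
  -- the sign homomorphism S → ℤˣ with kernel T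
  let ϕ : ↥(S : Subgroup G) →* ℤˣ :=
    { toFun := fun s => if (s : G) ∈ T then 1 else -1
      map_one' := by
        have : ((1 : ↥(S : Subgroup G)) : G) ∈ T := T.one_mem
        simp [this]
      map_mul' := by
        intro a b
        have h := Subgroup.mul_mem_iff_of_index_two hidx' (a := a) (b := b)
        rw [Subgroup.mem_subgroupOf, Subgroup.mem_subgroupOf, Subgroup.mem_subgroupOf] at h
        by_cases ha : (a : G) ∈ T <;> by_cases hb : (b : G) ∈ T
        · have hab : (a : G) * (b : G) ∈ T := h.mpr ⟨fun _ => hb, fun _ => ha⟩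
          simp [ha, hb, hab]
        · have hab : (a : G) * (b : G) ∉ T := fun h' => hb ((h.mp h').mp ha)
          simp [ha, hb, hab]
        · have hab : (a : G) * (b : G) ∉ T := fun h' => ha ((h.mp h').mpr hb)
          simp [ha, hb, hab]
        · have hab : (a : G) * (b : G) ∈ T :=
            h.mpr ⟨fun h' => absurd h' ha, fun h' => absurd h' hb⟩
          simp [ha, hb, hab] }
  have hϕ1 : ∀ s : ↥(S : Subgroup G), (s : G) ∈ T → ϕ s = 1 := by
    intro s hs
    show (if (s : G) ∈ T then (1 : ℤˣ) else -1) = 1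
    rw [if_pos hs]
  have hϕ2 : ∀ s : ↥(S : Subgroup G), (s : G) ∉ T → ϕ s = -1 := by
    intro s hs
    show (if (s : G) ∈ T then (1 : ℤˣ) else -1) = -1
    rw [if_neg hs]
  set τ : G →* ℤˣ := MonoidHom.transfer ϕ with hτ
  -- elements with a fixed point lie in the kernel
  have hA : ∀ (g : G) (ω₀ : Ω), g • ω₀ = ω₀ → τ g = 1 := by
    intro g ω₀ hg
    have := transfer_eq_pow_index (S : Subgroup G) ϕ g 1 (by
      intro k n hk
      rw [one_pow]
      apply hϕ1
      apply hR _ hk (k⁻¹ • ω₀)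
      have hgn : g ^ n • ω₀ = ω₀ :=
        mem_stabilizer_iff.mp (Subgroup.pow_mem _ (mem_stabilizer_iff.mpr hg) n)
      calc (k⁻¹ * g ^ n * k) • (k⁻¹ • ω₀) = k⁻¹ • (g ^ n • ω₀) := by
            rw [← mul_smul, ← mul_smul]; congr 1; group
        _ = k⁻¹ • ω₀ := by rw [hgn])
    rw [hτ, this, one_pow]
  -- x is not in the kernel
  have hodd : Odd (S : Subgroup G).index := by
    rw [← Nat.not_even_iff_odd, even_iff_two_dvd]
    exact S.not_dvd_index
  have hx : τ x = -1 := by
    have := transfer_eq_pow_index (S : Subgroup G) ϕ x (-1) (by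
      intro k n hk
      have hxn : x ^ n ∈ (S : Subgroup G) := Subgroup.pow_mem _ hxS n
      have h1 : ϕ ⟨x ^ n, hxn⟩ = (-1) ^ n := by
        have : (⟨x ^ n, hxn⟩ : ↥(S : Subgroup G)) = ⟨x, hxS⟩ ^ n := Subtype.ext rfl
        rw [this, map_pow, hϕ2 ⟨x, hxS⟩ hxT]
      rw [← h1]
      by_cases hmem : x ^ n ∈ T
      · rw [hϕ1 ⟨x ^ n, hxn⟩ hmem]
        apply hϕ1
        apply hR _ hk (k⁻¹ • α)
        have hxα : x ^ n • α = α := mem_stabilizer_iff.mp hmem.2
        calc (k⁻¹ * x ^ n * k) • (k⁻¹ • α) = k⁻¹ • (x ^ n • α) := by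
              rw [← mul_smul, ← mul_smul]; congr 1; group
          _ = k⁻¹ • α := by rw [hxα]
      · rw [hϕ2 ⟨x ^ n, hxn⟩ hmem]
        apply hϕ2
        intro hmem'
        apply hmem
        apply hR _ hxn (k • α)
        have hkα : (k⁻¹ * x ^ n * k) • α = α := mem_stabilizer_iff.mp hmem'.2
        calc x ^ n • (k • α) = k • ((k⁻¹ * x ^ n * k) • α) := by
              rw [← mul_smul, ← mul_smul]; congr 1; group
          _ = k • α := by rw [hkα])
    rw [hτ, this, hodd.neg_one_pow]
  set N : Subgroup G := τ.ker with hN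
  have hNnormal : N.Normal := MonoidHom.normal_ker τ
  have hneg : (-1 : ℤˣ) ≠ 1 := by decide
  have hxN : x ∉ N := by
    intro h
    rw [hN, MonoidHom.mem_ker, hx] at h
    exact hneg h
  have hNidx : N.index = 2 := by
    rw [Subgroup.index_eq_two_iff]
    refine ⟨x, fun b => ?_⟩
    rw [hN, MonoidHom.mem_ker, MonoidHom.mem_ker, map_mul, hx]
    rcases Int.units_eq_one_or (τ b) with h | h
    · right
      rw [h]
      exact ⟨rfl, by decide⟩
    · left
      rw [h]
      exact ⟨by decide, by decide⟩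
  have hAN : stabilizer G α ≤ N := by
    intro g hg
    rw [hN, MonoidHom.mem_ker]
    exact hA g α (mem_stabilizer_iff.mp hg)
  obtain ⟨t₀, ht₀T, ht₀1⟩ := (Subgroup.bot_or_exists_ne_one _).resolve_left hTne
  have hxα : x • α ≠ α := fun h => hxT ⟨hxS, mem_stabilizer_iff.mpr h⟩
  have hTfix : ∀ u ∈ T, u • (x • α) = x • α := fix_conj α x (hall x hxS)
  -- the core statement
  have core : ∀ z g : G, g ∈ N → z • α = α → z • (g • α) = g • α → g • α ≠ α → z = 1 := by
    intro z g hgN hzα hzγ hγ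
    by_contra hz1
    have hord1 : orderOf z ≠ 1 := fun h => hz1 (orderOf_eq_one_iff.mp h)
    have hord0 : orderOf z ≠ 0 := (orderOf_pos z).ne'
    obtain ⟨p, hpp, hpdvd⟩ : ∃ p : ℕ, p.Prime ∧ p ∣ orderOf z :=
      ⟨_, Nat.minFac_prime hord1, Nat.minFac_dvd _⟩
    set z' := z ^ (orderOf z / p) with hz'
    have hz'ord : orderOf z' = p := orderOf_pow_orderOf_div hord0 hpdvd
    have hz'1 : z' ≠ 1 := by
      intro h
      rw [h, orderOf_one] at hz'ord
      exact hpp.one_lt.ne hz'ord
    have hz'α : z' • α = α :=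
      mem_stabilizer_iff.mp (Subgroup.pow_mem _ (mem_stabilizer_iff.mpr hzα) _)
    have hz'γ : z' • (g • α) = g • α :=
      mem_stabilizer_iff.mp (Subgroup.pow_mem _ (mem_stabilizer_iff.mpr hzγ) _)
    have : Fact p.Prime := ⟨hpp⟩
    have hPG : IsPGroup p (Subgroup.zpowers z') := by
      apply IsPGroup.of_card (n := 1)
      rw [Nat.card_zpowers, hz'ord, pow_one]
    obtain ⟨Q, hQ⟩ := hPG.exists_le_sylow
    have hz'Q : z' ∈ (Q : Subgroup G) := hQ (Subgroup.mem_zpowers z')
    by_cases hp2 : p = 2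
    · -- p = 2
      subst hp2
      obtain ⟨k, hk⟩ := MulAction.exists_smul_eq G Q S
      have hwS : k * z' * k⁻¹ ∈ (S : Subgroup G) := by
        rw [← hk, Sylow.coe_subgroup_smul]
        have := Subgroup.smul_mem_pointwise_smul z' (MulAut.conj k) (Q : Subgroup G) hz'Q
        rwa [MulAut.smul_def, MulAut.conj_apply] at this
      have hwfix : (k * z' * k⁻¹) • (k • α) = k • α := by
        calc (k * z' * k⁻¹) • (k • α) = k • (z' • α) := by
              rw [← mul_smul, ← mul_smul]; congr 1; group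
          _ = k • α := by rw [hz'α]
      have hwT : k * z' * k⁻¹ ∈ T := hR _ hwS _ hwfix
      have hwα : (k * z' * k⁻¹) • α = α := mem_stabilizer_iff.mp hwT.2
      have hwβ := hTfix _ hwT
      -- z' fixes k⁻¹ • α and k⁻¹ • x • α
      have ha : z' • (k⁻¹ • α) = k⁻¹ • α := by
        calc z' • (k⁻¹ • α) = k⁻¹ • ((k * z' * k⁻¹) • α) := by
              rw [← mul_smul, ← mul_smul]; congr 1; group
          _ = k⁻¹ • α := by rw [hwα]
      have hb : z' • (k⁻¹ • (x • α)) = k⁻¹ • (x • α) := by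
        calc z' • (k⁻¹ • (x • α)) = k⁻¹ • ((k * z' * k⁻¹) • (x • α)) := by
              rw [← mul_smul, ← mul_smul, ← mul_smul, ← mul_smul]; congr 1; group
          _ = k⁻¹ • (x • α) := by rw [hwβ]
      have hab : k⁻¹ • α ≠ k⁻¹ • (x • α) := fun h => hxα (MulAction.injective k⁻¹ h).symm
      have h1 : k⁻¹ • α = α ∨ k⁻¹ • (x • α) = α := by
        rcases hF z' hz'1 _ _ _ ha hb hz'α with h | h | h
        · exact absurd h hab
        · exact Or.inl h
        · exact Or.inr h
      have h2 : k⁻¹ • α = g • α ∨ k⁻¹ • (x • α) = g • α := by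
        rcases hF z' hz'1 _ _ _ ha hb hz'γ with h | h | h
        · exact absurd h hab
        · exact Or.inl h
        · exact Or.inr h
      have mem_of_eq : ∀ a b : G, a • α = b • α → b⁻¹ * a ∈ N := by
        intro a b hab'
        apply hAN
        rw [mem_stabilizer_iff, mul_smul, hab', ← mul_smul, inv_mul_cancel, one_smul]
      rcases h1 with h1 | h1 <;> rcases h2 with h2 | h2
      · exact hγ (h2.symm.trans h1)
      · -- k⁻¹ ∈ N, g⁻¹ * (k⁻¹ * x) ∈ N
        have hk1 : k⁻¹ ∈ N := by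
          have := mem_of_eq k⁻¹ 1 (by rw [h1, one_smul])
          simpa using this
        have hk2 : g⁻¹ * (k⁻¹ * x) ∈ N := mem_of_eq (k⁻¹ * x) g (by rw [mul_smul, h2])
        apply hxN
        have : x = k⁻¹⁻¹ * (g * (g⁻¹ * (k⁻¹ * x))) := by group
        rw [this]
        exact N.mul_mem (N.inv_mem hk1) (N.mul_mem hgN hk2)
      · -- k⁻¹ * x ∈ N, g⁻¹ * k⁻¹ ∈ N
        have hk1 : k⁻¹ * x ∈ N := by
          have := mem_of_eq (k⁻¹ * x) 1 (by rw [mul_smul, h1, one_smul])
          simpa using this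
        have hk2 : g⁻¹ * k⁻¹ ∈ N := mem_of_eq k⁻¹ g h2
        apply hxN
        have : x = (g⁻¹ * k⁻¹)⁻¹ * g⁻¹ * (k⁻¹ * x) := by group
        rw [this]
        exact N.mul_mem (N.mul_mem (N.inv_mem hk2) (N.inv_mem hgN)) hk1
      · exact hγ (h2.symm.trans h1)
    · -- p odd
      have hpodd : Odd p := hpp.odd_of_ne_two hp2
      have hQodd : ∀ y ∈ (Q : Subgroup G), Odd (orderOf y) := by
        intro y hy
        obtain ⟨j, hj⟩ := IsPGroup.iff_orderOf.mp Q.2 ⟨y, hy⟩
        have : orderOf y = p ^ j := by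
          rw [← hj, Subgroup.orderOf_mk]
        rw [this]
        exact hpodd.pow
      have hQnt : Nontrivial ↥(Q : Subgroup G) :=
        ⟨⟨⟨z', hz'Q⟩, 1, fun h => hz'1 (congrArg Subtype.val h)⟩⟩
      have hcnt : Nontrivial (Subgroup.center ↥(Q : Subgroup G)) := Q.2.center_nontrivial
      obtain ⟨c, hc1⟩ := exists_ne (1 : Subgroup.center ↥(Q : Subgroup G))
      have hcc : ∀ y : ↥(Q : Subgroup G), y * (c : ↥(Q : Subgroup G)) = (c : ↥(Q : Subgroup G)) * y :=
        fun y => (Subgroup.mem_center_iff.mp c.2 y)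
      set cG : G := ((c : ↥(Q : Subgroup G)) : G) with hcG
      have hcG1 : cG ≠ 1 := by
        intro h
        apply hc1
        apply Subtype.ext
        apply Subtype.ext
        exact h
      have hcQ : cG ∈ (Q : Subgroup G) := (c : ↥(Q : Subgroup G)).2
      have hcomm : ∀ y ∈ (Q : Subgroup G), y * cG = cG * y := by
        intro y hy
        exact congrArg Subtype.val (hcc ⟨y, hy⟩)
      -- c fixes α and γ
      have hcfix := odd_fix hF z' hz'1 α (g • α) (Ne.symm hγ) hz'α hz'γ cG (hQodd _ hcQ)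
        (hcomm z' hz'Q).symm
      -- all of Q fixes α
      have hQfix : ∀ y ∈ (Q : Subgroup G), y • α = α := by
        intro y hy
        exact (odd_fix hF cG hcG1 α (g • α) (Ne.symm hγ) hcfix.1 hcfix.2 y (hQodd _ hy)
          (hcomm y hy)).1
      have hQN : (Q : Subgroup G) ≤ N := fun y hy => hAN (mem_stabilizer_iff.mpr (hQfix y hy))
      have hfrat : Subgroup.normalizer ((Q : Subgroup G) : Set G) ⊔ N = ⊤ :=
        Sylow.normalizer_sup_eq_top' Q hQN
      have hxmem : x ∈ ((Subgroup.normalizer ((Q : Subgroup G) : Set G) ⊔ N : Subgroup G) : Set G) := by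
        rw [hfrat]; exact Set.mem_univ _
      rw [Subgroup.mul_normal] at hxmem
      obtain ⟨w, hw, n, hn, hwn⟩ := Set.mem_mul.mp hxmem
      have hwN : w ∉ N := by
        intro h
        apply hxN
        rw [← hwn]
        exact N.mul_mem h hn
      have hwfix : cG • (w • α) = w • α := by
        have h1 : w⁻¹ * cG * w ∈ (Q : Subgroup G) :=
          (Subgroup.mem_normalizer_iff''.mp hw cG).mp hcQ
        have h2 := hQfix _ h1
        calc cG • (w • α) = w • ((w⁻¹ * cG * w) • α) := by
              rw [← mul_smul, ← mul_smul]; congr 1; group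
          _ = w • α := by rw [h2]
      rcases hF cG hcG1 α (g • α) (w • α) hcfix.1 hcfix.2 hwfix with h | h | h
      · exact hγ h.symm
      · apply hwN
        apply hAN
        exact mem_stabilizer_iff.mpr h.symm
      · apply hwN
        have h3 : g⁻¹ * w ∈ N := by
          apply hAN
          rw [mem_stabilizer_iff, mul_smul, ← h, ← mul_smul, inv_mul_cancel, one_smul]
        have : w = g * (g⁻¹ * w) := by group
        rw [this]
        exact N.mul_mem hgN h3
  refine ⟨N, hNnormal, hNidx, (stabilizer G α).subgroupOf N, ?_, ?_, ?_⟩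
  · -- H ≠ ⊥
    intro h
    have h1 : (⟨t₀, hAN ht₀T.2⟩ : ↥N) ∈ (stabilizer G α).subgroupOf N :=
      Subgroup.mem_subgroupOf.mpr ht₀T.2
    rw [h, Subgroup.mem_bot] at h1
    exact ht₀1 (congrArg Subtype.val h1)
  · -- H ≠ ⊤
    intro h
    rw [Subgroup.subgroupOf_eq_top] at h
    apply ht₀1
    apply FaithfulSMul.eq_of_smul_eq_smul (α := Ω)
    intro ω
    obtain ⟨g, rfl⟩ := MulAction.exists_smul_eq G α ω
    rw [one_smul]
    have h1 : g⁻¹ * t₀ * g ∈ N := by
      have := hNnormal.conj_mem t₀ (hAN ht₀T.2) g⁻¹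
      simpa using this
    have h2 : (g⁻¹ * t₀ * g) • α = α := mem_stabilizer_iff.mp (h h1)
    calc t₀ • (g • α) = g • ((g⁻¹ * t₀ * g) • α) := by
          rw [← mul_smul, ← mul_smul]; congr 1; group
      _ = g • α := by rw [h2]
  · intro g hg
    rw [eq_bot_iff]
    intro z hz
    rw [Subgroup.mem_bot]
    obtain ⟨hz1, hz2⟩ := hz
    have hzα : (z : G) • α = α := mem_stabilizer_iff.mp (Subgroup.mem_subgroupOf.mp hz1)
    have hgα : (g : G) • α ≠ α := by
      intro h
      apply hg
      exact Subgroup.mem_subgroupOf.mpr (mem_stabilizer_iff.mpr h)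
    obtain ⟨h', hh', hzh⟩ := hz2
    have hh'α : (h' : G) • α = α := mem_stabilizer_iff.mp (Subgroup.mem_subgroupOf.mp hh')
    have hzeq : (z : G) = (g : G) * (h' : G) * (g : G)⁻¹ := by
      rw [← hzh]
      rfl
    have hzγ : (z : G) • ((g : G) • α) = (g : G) • α := by
      rw [hzeq]
      calc ((g : G) * (h' : G) * (g : G)⁻¹) • ((g : G) • α) = (g : G) • ((h' : G) • α) := by
            rw [← mul_smul, ← mul_smul]; congr 1; group
        _ = (g : G) • α := by rw [hh'α]
    exact Subtype.ext (core z g g.2 hzα hzγ hgα)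

end main

end Cfsg.Agent.Helper58.Fix2
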