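import Mathlib

set_option autoImplicit false

namespace Cfsg.Agent.Helper58

/-- The Frobenius-type group `E ⋊ ⟨c⟩` of affine maps `x ↦ a x + b`, `a ∈ ⟨c⟩`. -/
@[ext] structure Frob (E : Type) [Field E] (c : Eˣ) : Type where
  a : Eˣ
  b : E
  ha : a ∈ Subgroup.zpowers c

namespace Frob

variable {E : Type} [Field E] {c : Eˣ}

instance : Mul (Frob E c) :=
  ⟨fun x y => ⟨x.a * y.a, (x.a : E) * y.b + x.b, Subgroup.mul_mem _ x.ha y.ha⟩⟩

instance : One (Frob E c) := ⟨⟨1, 0, Subgroup.one_mem _⟩⟩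

instance : Inv (Frob E c) :=
  ⟨fun x => ⟨x.a⁻¹, -((x.a⁻¹ : Eˣ) : E) * x.b, Subgroup.inv_mem _ x.ha⟩⟩

@[simp] theorem mul_a (x y : Frob E c) : (x * y).a = x.a * y.a := rfl
@[simp] theorem mul_b (x y : Frob E c) : (x * y).b = (x.a : E) * y.b + x.b := rfl
@[simp] theorem one_a : (1 : Frob E c).a = 1 := rfl
@[simp] theorem one_b : (1 : Frob E c).b = 0 := rfl
@[simp] theorem inv_a (x : Frob E c) : (x⁻¹).a = x.a⁻¹ := rfl
@[simp] theorem inv_b (x : Frob E c) : (x⁻¹).b = -((x.a⁻¹ : Eˣ) : E) * x.b := rfl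

instance : Group (Frob E c) :=
  Group.ofLeftAxioms
    (by
      intro x y z
      ext
      · simp [mul_assoc]
      · simp; ring)
    (by
      intro x
      ext
      · simp
      · simp)
    (by
      intro x
      ext
      · simp
      · simp)

theorem pow_a (x : Frob E c) (n : ℕ) : (x ^ n).a = x.a ^ n := by
  induction n with
  | zero => simp
  | succ n ih => rw [pow_succ', mul_a, ih, pow_succ']

theorem pow_b (x : Frob E c) (n : ℕ) :
    (x ^ n).b = x.b * ∑ i ∈ Finset.range n, (x.a : E) ^ i := by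
  induction n with
  | zero => simp
  | succ n ih =>
    rw [pow_succ', mul_b, ih, geom_sum_succ]
    ring

theorem eq_one_iff (x : Frob E c) : x = 1 ↔ x.a = 1 ∧ x.b = 0 := by
  constructor
  · rintro rfl; exact ⟨rfl, rfl⟩
  · rintro ⟨h1, h2⟩; ext
    · simp [h1]
    · simp [h2]

theorem pow_eq_one_iff_of_ne {x : Frob E c} (hx : x.a ≠ 1) (n : ℕ) :
    x ^ n = 1 ↔ x.a ^ n = 1 := by
  rw [eq_one_iff, pow_a, pow_b]
  constructor
  · exact fun h => h.1
  · intro h
    refine ⟨h, ?_⟩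
    have h1 : ((x.a : E) - 1) ≠ 0 := by
      intro h0
      apply hx
      ext
      simpa [sub_eq_zero] using h0
    have h2 : (∑ i ∈ Finset.range n, (x.a : E) ^ i) * ((x.a : E) - 1) = 0 := by
      rw [geom_sum_mul]
      have : ((x.a ^ n : Eˣ) : E) = 1 := by rw [h]; rfl
      rw [Units.val_pow_eq_pow_val] at this
      rw [this, sub_self]
    rcases mul_eq_zero.mp h2 with h3 | h3
    · rw [h3, mul_zero]
    · exact absurd h3 h1

theorem orderOf_of_ne {x : Frob E c} (hx : x.a ≠ 1) : orderOf x = orderOf x.a := by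
  rw [orderOf_eq_orderOf_iff]
  exact pow_eq_one_iff_of_ne hx

theorem orderOf_a_dvd (x : Frob E c) : orderOf x.a ∣ orderOf c :=
  orderOf_dvd_of_mem_zpowers x.ha

/-- the element `(a, 0)` -/
def ofUnit (a : Eˣ) (ha : a ∈ Subgroup.zpowers c) : Frob E c := ⟨a, 0, ha⟩

theorem orderOf_ofUnit (a : Eˣ) (ha : a ∈ Subgroup.zpowers c) :
    orderOf (ofUnit a ha : Frob E c) = orderOf a := by
  rw [orderOf_eq_orderOf_iff]
  intro n
  rw [eq_one_iff, pow_a, pow_b]
  simp [ofUnit]

/-- translation by 1 -/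
def trans1 : Frob E c := ⟨1, 1, Subgroup.one_mem _⟩

theorem pow_of_a_eq_one {x : Frob E c} (hx : x.a = 1) (n : ℕ) :
    x ^ n = 1 ↔ (n : E) * x.b = 0 := by
  rw [eq_one_iff, pow_a, pow_b, hx]
  simp [mul_comm]

theorem orderOf_dvd_of_a_eq_one (p : ℕ) [CharP E p] {x : Frob E c} (hx : x.a = 1) :
    orderOf x ∣ p := by
  apply orderOf_dvd_of_pow_eq_one
  rw [pow_of_a_eq_one hx, CharP.cast_eq_zero, zero_mul]

theorem orderOf_trans1 (p : ℕ) [hp : Fact p.Prime] [CharP E p] :
    orderOf (trans1 : Frob E c) = p := by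
  apply orderOf_eq_prime
  · rw [pow_of_a_eq_one rfl, CharP.cast_eq_zero, zero_mul]
  · intro h
    have := (eq_one_iff _).mp h
    simp [trans1] at this

theorem finite [Finite E] : Finite (Frob E c) := by
  apply Finite.of_injective (fun x : Frob E c => (x.a, x.b))
  intro x y h
  simp only [Prod.mk.injEq] at h
  exact Frob.ext h.1 h.2

/-- the spectrum of the Frobenius-type group -/
theorem spec [Finite E] (p : ℕ) [Fact p.Prime] [CharP E p] :
    Set.range (orderOf : Frob E c → ℕ) = {m : ℕ | m ∣ p ∨ m ∣ orderOf c} := by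
  ext m
  simp only [Set.mem_range, Set.mem_ofPred_eq]
  constructor
  · rintro ⟨x, rfl⟩
    by_cases hx : x.a = 1
    · exact Or.inl (orderOf_dvd_of_a_eq_one p hx)
    · right
      rw [orderOf_of_ne hx]
      exact orderOf_a_dvd x
  · rintro (h | h)
    · rcases (Nat.dvd_prime (Fact.out : p.Prime)).mp h with rfl | rfl
      · exact ⟨1, orderOf_one⟩
      · exact ⟨trans1, orderOf_trans1 m⟩
    · have h0 : orderOf c ≠ 0 := (orderOf_pos c).ne'
      obtain ⟨k, hk⟩ := h
      have hk0 : k ≠ 0 := by rintro rfl; rw [mul_zero] at hk; exact h0 hk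
      refine ⟨ofUnit (c ^ k) (Subgroup.pow_mem _ (Subgroup.mem_zpowers c) k), ?_⟩
      rw [orderOf_ofUnit, orderOf_pow_of_dvd hk0 ⟨m, by rw [hk, mul_comm]⟩, hk]
      exact Nat.mul_div_cancel _ (Nat.pos_of_ne_zero hk0)

end Frob

end Cfsg.Agent.Helper58
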