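import Mathlib
import Cfsg.Prelude.Def_LieTypeDatum
import Cfsg.Agent.Lib.Helper43.GF.Cent
import Cfsg.Agent.Lib.Helper40.OrthEvenFinal
import Cfsg.Agent.Lib.Helper40.OEV.C3
import Cfsg.Agent.Lib.Helper40.OEV.C4
import Cfsg.Agent.Lib.Helper44.QFStd
import Cfsg.Agent.Lib.Helper5.OrthLag12
import Cfsg.Agent.Lib.Helper5.OMFChar2
import Cfsg.Agent.Lib.Helper43.SpinorSum
import Cfsg.Agent.Lib.Helper43.SpinorDiag

/-!
# GF server (helper43, S2717), piece (SP2b): the spinor norm of a twisted diagonal similarity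
-/

set_option autoImplicit false
set_option linter.unusedSectionVars false
set_option linter.unusedVariables false

namespace Cfsg.Agent.Helper58.GF

open Matrix QuadraticMap Cfsg.Agent.Helper43 Cfsg.Agent.Helper43.GF Cfsg.Agent.Helper5.OrthAut
  Cfsg.Agent.Helper40.OrthEven Cfsg.Agent.Helper40.AutPOm

section generic

variable {F : Type*} [Field F] {ι : Type} [Fintype ι] [DecidableEq ι]
variable (Q : QuadraticForm F (ι → F))

/-- the rotation `e ↦ α⁻¹ e, f ↦ α f` of a hyperbolic plane as a product of two reflections -/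
theorem h58_rot_mulVec {e f : ι → F} (hqe : Q e = 0) (hqf : Q f = 0)
    (hef : polar Q e f = 1) {α : F} (hα : α ≠ 0) (x : ι → F) :
    (Cfsg.reflectionMatrix (⇑Q) (e - α • f) * Cfsg.reflectionMatrix (⇑Q) (e - f)) *ᵥ x =
      x + ((α⁻¹ - 1) * polar Q f x) • e + ((α - 1) * polar Q e x) • f := by
  have hfe : polar Q f e = 1 := by rw [polar_comm]; exact hef
  have hee : polar Q e e = 0 := by rw [polar_self, hqe]; simp
  have hff : polar Q f f = 0 := by rw [polar_self, hqf]; simp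
  have h1 : Q (e - f) = -1 := by
    rw [sub_eq_add_neg, QuadraticMap.map_add Q, QuadraticMap.map_neg, polar_neg_right, hqe, hqf,
      hef]
    ring
  have h2 : Q (e - α • f) = -α := by
    rw [sub_eq_add_neg, ← neg_smul, QuadraticMap.map_add Q, QuadraticMap.map_smul,
      polar_smul_right, hqe, hqf, hef]
    simp
  rw [← Matrix.mulVec_mulVec, reflectionMatrix_mulVec_eq, reflectionMatrix_mulVec_eq,
    reflLin_apply, reflLin_apply, h1, h2]
  simp only [polar_sub_left, polar_sub_right, polar_smul_left, polar_smul_right, smul_eq_mul,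
    hef, hfe, hee, hff]
  funext i
  simp only [Pi.add_apply, Pi.sub_apply, Pi.smul_apply, smul_eq_mul]
  field_simp
  ring

/-- the product of the rotations of a hyperbolic family -/
theorem h58_rot_list_mulVec {κ : Type*} [DecidableEq κ] (e f : κ → ι → F) (α : κ → F)
    (hqe : ∀ a, Q (e a) = 0) (hqf : ∀ a, Q (f a) = 0)
    (hef : ∀ a b, polar Q (e a) (f b) = if a = b then 1 else 0)
    (hee : ∀ a b, polar Q (e a) (e b) = 0) (hff : ∀ a b, polar Q (f a) (f b) = 0)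
    (hα : ∀ a, α a ≠ 0) :
    ∀ (l : List κ), l.Nodup → ∀ x : ι → F,
      ((l.map (fun a => Cfsg.reflectionMatrix (⇑Q) (e a - α a • f a) *
          Cfsg.reflectionMatrix (⇑Q) (e a - f a))).prod) *ᵥ x =
        x + (l.map (fun a => (((α a)⁻¹ - 1) * polar Q (f a) x) • e a +
          ((α a - 1) * polar Q (e a) x) • f a)).sum := by
  intro l
  induction l with
  | nil =>
    intro _ x
    simp
  | cons a rest ih =>
    intro hnd x
    have hnd' := List.nodup_cons.1 hnd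
    have hfe : ∀ a b, polar Q (f a) (e b) = if a = b then 1 else 0 := by
      intro a b
      rw [polar_comm, hef b a]
      simp only [eq_comm]
    simp only [List.map_cons, List.prod_cons, List.sum_cons]
    rw [← Matrix.mulVec_mulVec, ih hnd'.2 x,
      h58_rot_mulVec Q (hqe a) (hqf a) (by rw [hef a a, if_pos rfl]) (hα a)]
    have hzero : ∀ (l' : List κ), (∀ b ∈ l', b ≠ a) →
        polar Q (f a) (l'.map (fun b => (((α b)⁻¹ - 1) * polar Q (f b) x) • e b +
          ((α b - 1) * polar Q (e b) x) • f b)).sum = 0 ∧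
        polar Q (e a) (l'.map (fun b => (((α b)⁻¹ - 1) * polar Q (f b) x) • e b +
          ((α b - 1) * polar Q (e b) x) • f b)).sum = 0 := by
      intro l'
      induction l' with
      | nil =>
        intro _
        simp
      | cons b l'' ih' =>
        intro hb
        have hba : b ≠ a := hb b (by simp)
        have hab : a ≠ b := fun h => hba h.symm
        obtain ⟨i1, i2⟩ := ih' (fun c hc => hb c (by simp [hc]))
        simp only [List.map_cons, List.sum_cons]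
        constructor
        · rw [polar_add_right, polar_add_right, polar_smul_right, polar_smul_right, hfe a b,
            if_neg hab, hff a b, i1]
          simp
        · rw [polar_add_right, polar_add_right, polar_smul_right, polar_smul_right, hef a b,
            if_neg hab, hee a b, i2]
          simp
    obtain ⟨z1, z2⟩ := hzero rest (fun b hb hba => hnd'.1 (hba ▸ hb))
    rw [polar_add_right, polar_add_right, z1, z2, add_zero, add_zero]
    abel

/-- the list of reflection vectors -/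
def h58_vecs {κ : Type*} (e f : κ → ι → F) (α : κ → F) (l : List κ) : List (ι → F) :=
  l.flatMap (fun a => [e a - α a • f a, e a - f a])

theorem h58_vecs_prod {κ : Type*} (e f : κ → ι → F) (α : κ → F) (l : List κ) :
    ((h58_vecs e f α l).map (fun v => Cfsg.reflectionMatrix (⇑Q) v)).prod =
      (l.map (fun a => Cfsg.reflectionMatrix (⇑Q) (e a - α a • f a) *
          Cfsg.reflectionMatrix (⇑Q) (e a - f a))).prod := by
  induction l with
  | nil => simp [h58_vecs]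
  | cons a rest ih =>
    unfold h58_vecs at ih ⊢
    rw [List.flatMap_cons, List.map_append, List.prod_append, ih]
    simp [mul_assoc]

theorem h58_vecs_Q {κ : Type*} [DecidableEq κ] (e f : κ → ι → F) (α : κ → F)
    (hqe : ∀ a, Q (e a) = 0) (hqf : ∀ a, Q (f a) = 0)
    (hef : ∀ a, polar Q (e a) (f a) = 1) (l : List κ) :
    ((h58_vecs e f α l).map (fun v => Q v)).prod = (l.map α).prod := by
  induction l with
  | nil => simp [h58_vecs]
  | cons a rest ih =>
    unfold h58_vecs at ih ⊢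
    rw [List.flatMap_cons, List.map_append, List.prod_append, ih]
    have h1 : Q (e a - f a) = -1 := by
      rw [sub_eq_add_neg, QuadraticMap.map_add Q, QuadraticMap.map_neg, polar_neg_right, hqe, hqf,
        hef]
      ring
    have h2 : Q (e a - α a • f a) = -α a := by
      rw [sub_eq_add_neg, ← neg_smul, QuadraticMap.map_add Q, QuadraticMap.map_smul,
        polar_smul_right, hqe, hqf, hef]
      simp
    simp [h1, h2]

theorem h58_vecs_ne {κ : Type*} [DecidableEq κ] (e f : κ → ι → F) (α : κ → F)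
    (hqe : ∀ a, Q (e a) = 0) (hqf : ∀ a, Q (f a) = 0)
    (hef : ∀ a, polar Q (e a) (f a) = 1) (hα : ∀ a, α a ≠ 0) (l : List κ) :
    ∀ v ∈ h58_vecs e f α l, Q v ≠ 0 := by
  intro v hv
  unfold h58_vecs at hv
  rw [List.mem_flatMap] at hv
  obtain ⟨a, _, hva⟩ := hv
  have h1 : Q (e a - f a) = -1 := by
    rw [sub_eq_add_neg, QuadraticMap.map_add Q, QuadraticMap.map_neg, polar_neg_right, hqe, hqf,
      hef]
    ring
  have h2 : Q (e a - α a • f a) = -α a := by
    rw [sub_eq_add_neg, ← neg_smul, QuadraticMap.map_add Q, QuadraticMap.map_smul,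
      polar_smul_right, hqe, hqf, hef]
    simp
  simp only [List.mem_cons, List.not_mem_nil, or_false] at hva
  rcases hva with rfl | rfl
  · rw [h2]; exact neg_ne_zero.2 (hα a)
  · rw [h1]; exact neg_ne_zero.2 one_ne_zero

theorem h58_vecs_length {κ : Type*} (e f : κ → ι → F) (α : κ → F) (l : List κ) :
    (h58_vecs e f α l).length = 2 * l.length := by
  induction l with
  | nil => simp [h58_vecs]
  | cons a rest ih =>
    unfold h58_vecs at ih ⊢
    rw [List.flatMap_cons, List.length_append, ih]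
    simp
    ring

/-- spinor criterion for a product of rotations of a hyperbolic family -/
theorem h58_mem_Omega_iff [Fintype F] (h2 : (2 : F) ≠ 0) (hQ : (polarBilin Q).Nondegenerate)
    {κ : Type*} [Fintype κ] [DecidableEq κ] (e f : κ → ι → F) (α : κ → F)
    (hqe : ∀ a, Q (e a) = 0) (hqf : ∀ a, Q (f a) = 0)
    (hef : ∀ a b, polar Q (e a) (f b) = if a = b then 1 else 0)
    (hee : ∀ a b, polar Q (e a) (e b) = 0) (hff : ∀ a b, polar Q (f a) (f b) = 0)
    (hα : ∀ a, α a ≠ 0) (g : ↥(Cfsg.isometryGroup F ⇑Q))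
    (hM : ∀ x, ((g : GL ι F) : Matrix ι ι F) *ᵥ x =
      x + ∑ a, ((((α a)⁻¹ - 1) * polar Q (f a) x) • e a + ((α a - 1) * polar Q (e a) x) • f a)) :
    g ∈ Cfsg.Omega F ⇑Q ↔ IsSquare (∏ a, α a) := by
  classical
  have hef' : ∀ a, polar Q (e a) (f a) = 1 := fun a => by rw [hef a a, if_pos rfl]
  set l : List κ := (Finset.univ : Finset κ).toList with hl
  have hg : ((g : GL ι F) : Matrix ι ι F) =
      ((h58_vecs e f α l).map (fun v => Cfsg.reflectionMatrix (⇑Q) v)).prod := by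
    apply matrix_ext_mulVec
    intro x
    rw [hM x, h58_vecs_prod, h58_rot_list_mulVec Q e f α hqe hqf hef hee hff hα l
      (Finset.nodup_toList _) x, hl, Finset.sum_map_toList]
  rw [mem_Omega_iff_of_list_all Q h2 hQ g (h58_vecs e f α l)
    (h58_vecs_ne Q e f α hqe hqf hef' hα l) hg, h58_vecs_Q Q e f α hqe hqf hef' l,
    h58_vecs_length, hl, Finset.prod_map_toList]
  constructor
  · exact fun h => h.2
  · exact fun h => ⟨⟨_, (two_mul _)⟩, h⟩

end generic

section specific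

variable (K : Type*) [Field K] (k : ℕ)

/-- the similarity matrix: `x_i ↦ x_i`, `y_i ↦ lam y_i`, binary part = multiplication by `u - vθ` -/
def h58_gmat (a b u v lam : K) :
    Matrix ((Fin k ⊕ Fin k) ⊕ Fin 2) ((Fin k ⊕ Fin k) ⊕ Fin 2) K :=
  Matrix.fromBlocks (Matrix.diagonal (Sum.elim (fun _ => 1) (fun _ => lam))) 0 0
    !![u, -(b * v); v, u + a * v]

variable {K k}

theorem h58_gmat_ll (a b u v lam : K) (y : (Fin k ⊕ Fin k) ⊕ Fin 2 → K) (i : Fin k) :
    (h58_gmat K k a b u v lam *ᵥ y) (Sum.inl (Sum.inl i)) = y (Sum.inl (Sum.inl i)) := by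
  unfold h58_gmat
  rw [Matrix.fromBlocks_mulVec]
  simp [Matrix.mulVec_diagonal]

theorem h58_gmat_lr (a b u v lam : K) (y : (Fin k ⊕ Fin k) ⊕ Fin 2 → K) (i : Fin k) :
    (h58_gmat K k a b u v lam *ᵥ y) (Sum.inl (Sum.inr i)) = lam * y (Sum.inl (Sum.inr i)) := by
  unfold h58_gmat
  rw [Matrix.fromBlocks_mulVec]
  simp [Matrix.mulVec_diagonal]

theorem h58_gmat_r0 (a b u v lam : K) (y : (Fin k ⊕ Fin k) ⊕ Fin 2 → K) :
    (h58_gmat K k a b u v lam *ᵥ y) (Sum.inr 0) = u * y (Sum.inr 0) - b * v * y (Sum.inr 1) := by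
  unfold h58_gmat
  rw [Matrix.fromBlocks_mulVec]
  simp [Matrix.mulVec, dotProduct, Fin.sum_univ_two]
  ring

theorem h58_gmat_r1 (a b u v lam : K) (y : (Fin k ⊕ Fin k) ⊕ Fin 2 → K) :
    (h58_gmat K k a b u v lam *ᵥ y) (Sum.inr 1) =
      v * y (Sum.inr 0) + (u + a * v) * y (Sum.inr 1) := by
  unfold h58_gmat
  rw [Matrix.fromBlocks_mulVec]
  simp [Matrix.mulVec, dotProduct, Fin.sum_univ_two]

theorem h58_gmat_map {K₀ : Type*} [Field K₀] (emb : K₀ →+* K) (a b u v lam : K₀) :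
    (h58_gmat K₀ k a b u v lam).map emb =
      h58_gmat K k (emb a) (emb b) (emb u) (emb v) (emb lam) := by
  have hA : (Matrix.diagonal (Sum.elim (fun _ => (1 : K₀)) (fun _ => lam) :
      Fin k ⊕ Fin k → K₀)).map emb =
      Matrix.diagonal (Sum.elim (fun _ => (1 : K)) (fun _ => emb lam)) := by
    rw [Matrix.diagonal_map (map_zero emb)]
    congr 1
    funext j
    rcases j with j | j <;> simp
  have hD : (!![u, -(b * v); v, u + a * v] : Matrix (Fin 2) (Fin 2) K₀).map emb =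
      !![emb u, -(emb b * emb v); emb v, emb u + emb a * emb v] := by
    ext i j
    fin_cases i <;> fin_cases j <;> simp
  unfold h58_gmat
  rw [Matrix.fromBlocks_map, hA, hD, Matrix.map_zero _ (map_zero emb),
    Matrix.map_zero _ (map_zero emb)]

theorem h58_gmat_det (a b u v lam : K) :
    (h58_gmat K k a b u v lam).det = lam ^ k * (u ^ 2 + a * u * v + b * v ^ 2) := by
  unfold h58_gmat
  rw [Matrix.det_fromBlocks_zero₂₁, Matrix.det_diagonal, Fintype.prod_sum_type,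
    Matrix.det_fin_two_of]
  simp only [Sum.elim_inl, Sum.elim_inr, Finset.prod_const_one, Finset.prod_const,
    Finset.card_univ, Fintype.card_fin, one_mul]
  ring

theorem h58_gmat_sim (a b u v lam : K) (huv : u ^ 2 + a * u * v + b * v ^ 2 = lam)
    (z : (Fin k ⊕ Fin k) ⊕ Fin 2 → K) :
    stdMinus K k a b (h58_gmat K k a b u v lam *ᵥ z) = lam * stdMinus K k a b z := by
  rw [stdMinus_apply, stdMinus_apply]
  unfold Cfsg.quadFormMinus
  simp only [h58_gmat_ll, h58_gmat_lr, h58_gmat_r0, h58_gmat_r1]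
  have h1 : ∑ i : Fin k, z (Sum.inl (Sum.inl i)) * (lam * z (Sum.inl (Sum.inr i))) =
      lam * ∑ i : Fin k, z (Sum.inl (Sum.inl i)) * z (Sum.inl (Sum.inr i)) := by
    rw [Finset.mul_sum]
    apply Finset.sum_congr rfl
    intro i _
    ring
  rw [h1, ← huv]
  ring

/-! ### coordinates of the polar form of `stdMinus` -/

/-- the binary vector `(t, 1)` -/
def h58_n (t : K) : (Fin k ⊕ Fin k) ⊕ Fin 2 → K := Sum.elim 0 ![t, 1]

@[simp] theorem h58_n_l (t : K) (j : Fin k ⊕ Fin k) : (h58_n t : (Fin k ⊕ Fin k) ⊕ Fin 2 → K) (Sum.inl j) = 0 := rfl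

@[simp] theorem h58_n_r0 (t : K) : (h58_n t : (Fin k ⊕ Fin k) ⊕ Fin 2 → K) (Sum.inr 0) = t := rfl

@[simp] theorem h58_n_r1 (t : K) : (h58_n t : (Fin k ⊕ Fin k) ⊕ Fin 2 → K) (Sum.inr 1) = 1 := rfl

theorem h58_polar_el (a b : K) (i : Fin k) (y : (Fin k ⊕ Fin k) ⊕ Fin 2 → K) :
    polar (stdMinus K k a b) (Pi.single (Sum.inl (Sum.inl i)) 1) y = y (Sum.inl (Sum.inr i)) := by
  rw [polar_stdMinus]
  simp [Pi.single_apply]

theorem h58_polar_fl (a b : K) (i : Fin k) (y : (Fin k ⊕ Fin k) ⊕ Fin 2 → K) :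
    polar (stdMinus K k a b) (Pi.single (Sum.inl (Sum.inr i)) 1) y = y (Sum.inl (Sum.inl i)) := by
  rw [polar_stdMinus]
  simp [Pi.single_apply]

theorem h58_polar_bin (a b t : K) (y : (Fin k ⊕ Fin k) ⊕ Fin 2 → K) :
    polar (stdMinus K k a b) (h58_n t) y =
      2 * t * y (Sum.inr 0) + a * (t * y (Sum.inr 1) + y (Sum.inr 0)) +
        2 * b * y (Sum.inr 1) := by
  rw [polar_stdMinus]
  simp only [h58_n_l, h58_n_r0, h58_n_r1]
  simp

theorem h58_Q_bin (a b t : K) :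
    stdMinus K k a b (h58_n t) = t ^ 2 + a * t + b := by
  rw [stdMinus_apply]
  unfold Cfsg.quadFormMinus
  simp only [h58_n_l, h58_n_r0, h58_n_r1]
  simp

theorem h58_Q_el (a b : K) (i : Fin k) :
    stdMinus K k a b (Pi.single (Sum.inl (Sum.inl i)) 1) = 0 := by
  rw [stdMinus_apply]
  unfold Cfsg.quadFormMinus
  simp

theorem h58_Q_fl (a b : K) (i : Fin k) :
    stdMinus K k a b (Pi.single (Sum.inl (Sum.inr i)) 1) = 0 := by
  rw [stdMinus_apply]
  unfold Cfsg.quadFormMinus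
  simp

/-- the hyperbolic family: the `k` standard pairs and the pair of isotropic eigenvectors -/
def h58_e (θ : K) : Option (Fin k) → ((Fin k ⊕ Fin k) ⊕ Fin 2 → K) := fun o =>
  o.elim (h58_n θ) (fun i => Pi.single (Sum.inl (Sum.inl i)) 1)

def h58_f (θ θ' : K) : Option (Fin k) → ((Fin k ⊕ Fin k) ⊕ Fin 2 → K) := fun o =>
  o.elim ((-(θ - θ') ^ 2)⁻¹ • h58_n θ') (fun i => Pi.single (Sum.inl (Sum.inr i)) 1)

def h58_al (μ ζ : K) : Option (Fin k) → K := fun o => o.elim (ζ / μ) (fun _ => μ)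

theorem h58_fam_qe (θ θ' : K) (o : Option (Fin k)) :
    stdMinus K k (-(θ + θ')) (θ * θ') (h58_e θ o) = 0 := by
  rcases o with _ | i
  · show stdMinus K k _ _ (h58_n θ) = 0
    rw [h58_Q_bin]
    ring
  · exact h58_Q_el _ _ i

theorem h58_fam_qf (θ θ' : K) (o : Option (Fin k)) :
    stdMinus K k (-(θ + θ')) (θ * θ') (h58_f θ θ' o) = 0 := by
  rcases o with _ | i
  · show stdMinus K k _ _ ((-(θ - θ') ^ 2)⁻¹ • h58_n θ') = 0
    rw [QuadraticMap.map_smul, h58_Q_bin]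
    ring
  · exact h58_Q_fl _ _ i

theorem h58_fam_ef (θ θ' : K) (hθ : θ ≠ θ') (o o' : Option (Fin k)) :
    polar (stdMinus K k (-(θ + θ')) (θ * θ')) (h58_e θ o) (h58_f θ θ' o') =
      if o = o' then 1 else 0 := by
  have hc : θ - θ' ≠ 0 := sub_ne_zero.2 hθ
  rcases o with _ | i <;> rcases o' with _ | j
  · show polar _ (h58_n θ) ((-(θ - θ') ^ 2)⁻¹ • h58_n θ') = _
    rw [polar_smul_right, h58_polar_bin, if_pos rfl]
    simp
    field_simp
    ring
  · show polar _ (h58_n θ) (Pi.single (Sum.inl (Sum.inr j)) 1) = _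
    rw [h58_polar_bin]
    simp
  · show polar _ (Pi.single (Sum.inl (Sum.inl i)) 1)
      ((-(θ - θ') ^ 2)⁻¹ • h58_n θ') = _
    rw [h58_polar_el]
    simp
  · show polar _ (Pi.single (Sum.inl (Sum.inl i)) 1) (Pi.single (Sum.inl (Sum.inr j)) 1) = _
    rw [h58_polar_el]
    simp [Pi.single_apply, eq_comm]

theorem h58_fam_ee (θ θ' : K) (o o' : Option (Fin k)) :
    polar (stdMinus K k (-(θ + θ')) (θ * θ')) (h58_e θ o) (h58_e θ o') = 0 := by
  rcases o with _ | i <;> rcases o' with _ | j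
  · show polar _ (h58_n θ) (h58_n θ) = _
    rw [h58_polar_bin]
    simp
    ring
  · show polar _ (h58_n θ) (Pi.single (Sum.inl (Sum.inl j)) 1) = _
    rw [h58_polar_bin]
    simp
  · show polar _ (Pi.single (Sum.inl (Sum.inl i)) 1) (h58_n θ) = _
    rw [h58_polar_el]
    simp
  · show polar _ (Pi.single (Sum.inl (Sum.inl i)) 1) (Pi.single (Sum.inl (Sum.inl j)) 1) = _
    rw [h58_polar_el]
    simp

theorem h58_fam_ff (θ θ' : K) (o o' : Option (Fin k)) :
    polar (stdMinus K k (-(θ + θ')) (θ * θ')) (h58_f θ θ' o) (h58_f θ θ' o') = 0 := by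
  rcases o with _ | i <;> rcases o' with _ | j
  · show polar _ ((-(θ - θ') ^ 2)⁻¹ • h58_n θ')
      ((-(θ - θ') ^ 2)⁻¹ • h58_n θ') = _
    rw [polar_smul_left, polar_smul_right, h58_polar_bin]
    simp
    right
    ring
  · show polar _ ((-(θ - θ') ^ 2)⁻¹ • h58_n θ')
      (Pi.single (Sum.inl (Sum.inr j)) 1) = _
    rw [polar_smul_left, h58_polar_bin]
    simp
  · show polar _ (Pi.single (Sum.inl (Sum.inr i)) 1)
      ((-(θ - θ') ^ 2)⁻¹ • h58_n θ') = _
    rw [h58_polar_fl]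
    simp
  · show polar _ (Pi.single (Sum.inl (Sum.inr i)) 1) (Pi.single (Sum.inl (Sum.inr j)) 1) = _
    rw [h58_polar_fl]
    simp

theorem h58_e_none (θ : K) : (h58_e θ none : (Fin k ⊕ Fin k) ⊕ Fin 2 → K) = h58_n θ := rfl
theorem h58_e_some (θ : K) (i : Fin k) :
    (h58_e θ (some i) : (Fin k ⊕ Fin k) ⊕ Fin 2 → K) = Pi.single (Sum.inl (Sum.inl i)) 1 := rfl
theorem h58_f_none (θ θ' : K) :
    (h58_f θ θ' none : (Fin k ⊕ Fin k) ⊕ Fin 2 → K) = (-(θ - θ') ^ 2)⁻¹ • h58_n θ' := rfl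
theorem h58_f_some (θ θ' : K) (i : Fin k) :
    (h58_f θ θ' (some i) : (Fin k ⊕ Fin k) ⊕ Fin 2 → K) = Pi.single (Sum.inl (Sum.inr i)) 1 := rfl
theorem h58_al_none (μ ζ : K) : (h58_al μ ζ (none : Option (Fin k))) = ζ / μ := rfl
theorem h58_al_some (μ ζ : K) (i : Fin k) : (h58_al μ ζ (some i)) = μ := rfl

/-- the scaled similarity is the product of the rotations of the hyperbolic family -/
theorem h58_formula (θ θ' μ u v : K) (hθ : θ ≠ θ') (hμ : μ ≠ 0)
    (hlam : μ ^ 2 = (u - v * θ) * (u - v * θ')) (y : (Fin k ⊕ Fin k) ⊕ Fin 2 → K) :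
    (μ⁻¹ • h58_gmat K k (-(θ + θ')) (θ * θ') u v (μ ^ 2)) *ᵥ y =
      y + ∑ o : Option (Fin k),
        ((((h58_al μ (u - v * θ) o)⁻¹ - 1) *
            polar (stdMinus K k (-(θ + θ')) (θ * θ')) (h58_f θ θ' o) y) • h58_e θ o +
          ((h58_al μ (u - v * θ) o - 1) *
            polar (stdMinus K k (-(θ + θ')) (θ * θ')) (h58_e θ o) y) • h58_f θ θ' o) := by
  have hc : θ - θ' ≠ 0 := sub_ne_zero.2 hθ
  have hζ : u - v * θ ≠ 0 := by
    intro h
    rw [h, zero_mul] at hlam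
    exact hμ ((pow_eq_zero_iff (two_ne_zero)).1 hlam)
  have hinv : ((u - v * θ) / μ)⁻¹ = (u - v * θ') / μ := by
    rw [inv_div, div_eq_div_iff hζ hμ, ← pow_two, hlam]
    ring
  rw [Matrix.smul_mulVec, Fintype.sum_option]
  simp only [h58_e_none, h58_e_some, h58_f_none, h58_f_some, h58_al_none, h58_al_some, hinv,
    polar_smul_left, h58_polar_bin, h58_polar_el, h58_polar_fl]
  funext j
  rcases j with (i | i) | j
  · simp only [Pi.add_apply, Pi.smul_apply, Finset.sum_apply, smul_eq_mul, h58_gmat_ll, h58_n_l,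
      Pi.single_apply]
    simp
    ring
  · simp only [Pi.add_apply, Pi.smul_apply, Finset.sum_apply, smul_eq_mul, h58_gmat_lr, h58_n_l,
      Pi.single_apply]
    simp
    field_simp
    ring
  · have hj : j = 0 ∨ j = 1 := by
      fin_cases j <;> simp
    rcases hj with rfl | rfl
    · simp only [Pi.add_apply, Pi.smul_apply, Finset.sum_apply, smul_eq_mul, h58_gmat_r0,
        h58_n_r0, h58_n_r1, Pi.single_apply]
      simp
      field_simp
      ring
    · simp only [Pi.add_apply, Pi.smul_apply, Finset.sum_apply, smul_eq_mul, h58_gmat_r1,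
        h58_n_r0, h58_n_r1, Pi.single_apply]
      simp
      field_simp
      ring

end specific

section main

theorem h58_isSquare_mul_sq_iff {F : Type*} [Field F] {μ : F} (hμ : μ ≠ 0) (x : F) :
    IsSquare (x * μ ^ 2) ↔ IsSquare x := by
  constructor
  · rintro ⟨r, hr⟩
    refine ⟨r * μ⁻¹, ?_⟩
    have : x = (x * μ ^ 2) * (μ⁻¹) ^ 2 := by
      field_simp
    rw [this, hr]
    ring
  · rintro ⟨r, hr⟩
    exact ⟨r * μ, by rw [hr]; ring⟩

theorem h58_main {F : Type*} [Field F] [Fintype F] (h2 : (2 : F) ≠ 0) {k : ℕ} (a b : F)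
    (T : TwData (stdMinus F k a b) (stdPlus F (k + 1))) (θ θ' μ u v : F)
    (ha : a = -(θ + θ')) (hb : b = θ * θ') (hθ3 : θ ≠ θ') (hμ0 : μ ≠ 0)
    (hlam : μ ^ 2 = (u - v * θ) * (u - v * θ'))
    (G : GL ((Fin k ⊕ Fin k) ⊕ Fin 2) F)
    (hG : (G : Matrix ((Fin k ⊕ Fin k) ⊕ Fin 2) ((Fin k ⊕ Fin k) ⊕ Fin 2) F) =
      h58_gmat F k a b u v (μ ^ 2)) :
    (∃ s : GL (Fin (k + 1) ⊕ Fin (k + 1)) F, s ∈ OmGL (⇑(stdPlus F (k + 1))) ∧
        ((T.conj G : GL (Fin (k + 1) ⊕ Fin (k + 1)) F) :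
          Matrix (Fin (k + 1) ⊕ Fin (k + 1)) (Fin (k + 1) ⊕ Fin (k + 1)) F) =
          μ • (s : Matrix (Fin (k + 1) ⊕ Fin (k + 1)) (Fin (k + 1) ⊕ Fin (k + 1)) F)) ↔
      IsSquare (μ ^ (k + 1) * (u - v * θ)) := by
  subst ha hb
  have hζ : u - v * θ ≠ 0 := by
    intro h
    rw [h, zero_mul] at hlam
    exact hμ0 ((pow_eq_zero_iff (two_ne_zero)).1 hlam)
  -- transport of the polar form
  have hpol : ∀ y z, polar (stdPlus F (k + 1)) (T.H *ᵥ y) (T.H *ᵥ z) = polar (stdMinus F k (-(θ + θ')) (θ * θ')) y z := by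
    intro y z
    unfold polar
    rw [← Matrix.mulVec_add, T.hQ, T.hQ, T.hQ]
  set E : Option (Fin k) → (Fin (k + 1) ⊕ Fin (k + 1) → F) := fun o => T.H *ᵥ h58_e θ o with hE
  set Fv : Option (Fin k) → (Fin (k + 1) ⊕ Fin (k + 1) → F) :=
    fun o => T.H *ᵥ h58_f θ θ' o with hFv
  set α : Option (Fin k) → F := h58_al μ (u - v * θ) with hα
  have hα0 : ∀ o, α o ≠ 0 := by
    intro o
    rcases o with _ | i
    · exact div_ne_zero hζ hμ0
    · exact hμ0
  -- the similarity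
  have hsim : ∀ y, (stdMinus F k (-(θ + θ')) (θ * θ')) ((G : Matrix _ _ F) *ᵥ y) = μ ^ 2 * (stdMinus F k (-(θ + θ')) (θ * θ')) y := by
    intro y
    rw [hG]
    exact h58_gmat_sim _ _ _ _ _ (by rw [hlam]; ring) y
  have hsimQ : ∀ x, (stdPlus F (k + 1)) (((T.conj G : GL _ F) : Matrix _ _ F) *ᵥ x) = μ ^ 2 * (stdPlus F (k + 1)) x :=
    fun x => T.conj_sim G (μ ^ 2) hsim x
  -- the isometry
  set M : Matrix (Fin (k + 1) ⊕ Fin (k + 1)) (Fin (k + 1) ⊕ Fin (k + 1)) F :=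
    μ⁻¹ • ((T.conj G : GL _ F) : Matrix _ _ F) with hM
  have hMdet : M.det ≠ 0 := by
    rw [hM, Matrix.det_smul]
    exact mul_ne_zero (pow_ne_zero _ (inv_ne_zero hμ0))
      ((Matrix.isUnit_iff_isUnit_det _).1 ⟨T.conj G, rfl⟩).ne_zero
  set gGL : GL (Fin (k + 1) ⊕ Fin (k + 1)) F := Matrix.GeneralLinearGroup.mkOfDetNeZero M hMdet
    with hgGL
  have hgGLcoe : (gGL : Matrix _ _ F) = M := rfl
  have hgiso : gGL ∈ Cfsg.isometryGroup F ⇑(stdPlus F (k + 1)) := by
    rw [mem_iso_iff]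
    intro x
    rw [hgGLcoe, hM, Matrix.smul_mulVec, QuadraticMap.map_smul, hsimQ]
    simp only [smul_eq_mul]
    field_simp
  set g : ↥(Cfsg.isometryGroup F ⇑(stdPlus F (k + 1))) := ⟨gGL, hgiso⟩ with hg
  have hformula : ∀ x, ((g : GL (Fin (k + 1) ⊕ Fin (k + 1)) F) :
      Matrix (Fin (k + 1) ⊕ Fin (k + 1)) (Fin (k + 1) ⊕ Fin (k + 1)) F) *ᵥ x =
      x + ∑ o, ((((α o)⁻¹ - 1) * polar (stdPlus F (k + 1)) (Fv o) x) • E o +
        ((α o - 1) * polar (stdPlus F (k + 1)) (E o) x) • Fv o) := by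
    intro x
    show M *ᵥ x = _
    have hx : T.H *ᵥ (T.H' *ᵥ x) = x := by
      rw [Matrix.mulVec_mulVec, T.hHH', Matrix.one_mulVec]
    have h1 : M *ᵥ x = T.H *ᵥ ((μ⁻¹ • h58_gmat F k (-(θ + θ')) (θ * θ') u v (μ ^ 2)) *ᵥ
        (T.H' *ᵥ x)) := by
      rw [hM, T.conj_coe, hG, Matrix.smul_mulVec, Matrix.smul_mulVec, Matrix.mulVec_smul,
        ← Matrix.mulVec_mulVec, ← Matrix.mulVec_mulVec]
    rw [h1, h58_formula θ θ' μ u v hθ3 hμ0 hlam (T.H' *ᵥ x), ← Matrix.toLin'_apply]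
    simp only [map_add, map_sum, map_smul]
    simp only [Matrix.toLin'_apply]
    rw [hx]
    congr 1
    apply Finset.sum_congr rfl
    intro o _
    have e1 : polar (stdMinus F k (-(θ + θ')) (θ * θ')) (h58_f θ θ' o) (T.H' *ᵥ x) = polar (stdPlus F (k + 1)) (Fv o) x := by
      rw [← hpol, hx]
    have e2 : polar (stdMinus F k (-(θ + θ')) (θ * θ')) (h58_e θ o) (T.H' *ᵥ x) = polar (stdPlus F (k + 1)) (E o) x := by
      rw [← hpol, hx]
    rw [e1, e2]
  have hcrit := h58_mem_Omega_iff (stdPlus F (k + 1)) h2 (stdPlus_nondegenerate F (k + 1)) E Fv α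
    (fun o => by rw [hE]; simp only; rw [T.hQ]; exact h58_fam_qe θ θ' o)
    (fun o => by rw [hFv]; simp only; rw [T.hQ]; exact h58_fam_qf θ θ' o)
    (fun o o' => by rw [hE, hFv]; simp only; rw [hpol]; exact h58_fam_ef θ θ' hθ3 o o')
    (fun o o' => by rw [hE]; simp only; rw [hpol]; exact h58_fam_ee θ θ' o o')
    (fun o o' => by rw [hFv]; simp only; rw [hpol]; exact h58_fam_ff θ θ' o o')
    hα0 g hformula
  have hprod : ∏ o, α o = (u - v * θ) / μ * μ ^ k := by
    rw [Fintype.prod_option]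
    simp [hα, h58_al_none, h58_al_some]
  have hsq : IsSquare (∏ o, α o) ↔ IsSquare (μ ^ (k + 1) * (u - v * θ)) := by
    rw [hprod, ← h58_isSquare_mul_sq_iff hμ0 ((u - v * θ) / μ * μ ^ k)]
    have : (u - v * θ) / μ * μ ^ k * μ ^ 2 = μ ^ (k + 1) * (u - v * θ) := by
      (field_simp; ring)
    rw [this]
  rw [← hsq, ← hcrit]
  constructor
  · rintro ⟨s, hs, hsM⟩
    obtain ⟨s', hs'⟩ := (mem_OmGL (⇑(stdPlus F (k + 1))) s).1 hs
    have : (s' : ↥(Cfsg.isometryGroup F ⇑(stdPlus F (k + 1)))) = g := by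
      apply isoGroup_ext
      rw [hs']
      show (s : Matrix (Fin (k + 1) ⊕ Fin (k + 1)) (Fin (k + 1) ⊕ Fin (k + 1)) F) = M
      rw [hM, hsM, smul_smul, inv_mul_cancel₀ hμ0, one_smul]
    rw [← this]
    exact s'.2
  · intro hgΩ
    refine ⟨gGL, (mem_OmGL (⇑(stdPlus F (k + 1))) gGL).2 ⟨⟨g, hgΩ⟩, rfl⟩, ?_⟩
    rw [hgGLcoe, hM, smul_smul, mul_inv_cancel₀ hμ0, one_smul]

end main

/-- (SP2b) the spinor norm of a twisted diagonal similarity (odd characteristic). -/
theorem tw_g1_mem_Omega_iff {F₀ F : Type*} [Field F₀] [Fintype F₀] [Field F] [Fintype F] (emb : F₀ →+* F)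
    (h2 : (2 : F) ≠ 0) {k : ℕ} (hk : 1 ≤ k) (a₀ b₀ : F₀)
    (T : TwData (stdMinus F k (emb a₀) (emb b₀)) (stdPlus F (k + 1)))
    (θ θ' μ : F) (u v lam : F₀) (hθ1 : θ + θ' = - emb a₀) (hθ2 : θ * θ' = emb b₀) (hθ3 : θ ≠ θ')
    (huv : u ^ 2 + a₀ * u * v + b₀ * v ^ 2 = lam) (hlam : lam ≠ 0) (hμ : μ ^ 2 = emb lam) :
    ∃ g₁ : GL ((Fin k ⊕ Fin k) ⊕ Fin 2) F₀,
      (∀ z, stdMinus F₀ k a₀ b₀ ((g₁ : Matrix _ _ F₀) *ᵥ z) = lam * stdMinus F₀ k a₀ b₀ z) ∧
      (g₁ : Matrix ((Fin k ⊕ Fin k) ⊕ Fin 2) ((Fin k ⊕ Fin k) ⊕ Fin 2) F₀).det = lam ^ (k + 1) ∧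
      ((∃ s : GL (Fin (k + 1) ⊕ Fin (k + 1)) F, s ∈ OmGL (⇑(stdPlus F (k + 1))) ∧
          ((T.tw emb g₁ : GL (Fin (k + 1) ⊕ Fin (k + 1)) F) :
            Matrix (Fin (k + 1) ⊕ Fin (k + 1)) (Fin (k + 1) ⊕ Fin (k + 1)) F) =
            μ • (s : Matrix (Fin (k + 1) ⊕ Fin (k + 1)) (Fin (k + 1) ⊕ Fin (k + 1)) F)) ↔
        IsSquare (μ ^ (k + 1) * (emb u - emb v * θ))) := by
  have hdet : (h58_gmat F₀ k a₀ b₀ u v lam).det = lam ^ (k + 1) := by
    rw [h58_gmat_det, huv, pow_succ]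
  have hdet0 : (h58_gmat F₀ k a₀ b₀ u v lam).det ≠ 0 := by
    rw [hdet]
    exact pow_ne_zero _ hlam
  refine ⟨Matrix.GeneralLinearGroup.mkOfDetNeZero _ hdet0, ?_, hdet, ?_⟩
  · intro z
    exact h58_gmat_sim a₀ b₀ u v lam huv z
  · have hemb0 : emb lam ≠ 0 := by
      rw [Ne, map_eq_zero_iff emb emb.injective]
      exact hlam
    have hμ0 : μ ≠ 0 := by
      intro h
      rw [h] at hμ
      apply hemb0
      rw [← hμ]
      simp
    have ha : emb a₀ = -(θ + θ') := by rw [hθ1, neg_neg]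
    have hb : emb b₀ = θ * θ' := hθ2.symm
    have hG : ((Matrix.GeneralLinearGroup.map emb
        (Matrix.GeneralLinearGroup.mkOfDetNeZero _ hdet0) : GL ((Fin k ⊕ Fin k) ⊕ Fin 2) F) :
          Matrix ((Fin k ⊕ Fin k) ⊕ Fin 2) ((Fin k ⊕ Fin k) ⊕ Fin 2) F) =
        h58_gmat F k (emb a₀) (emb b₀) (emb u) (emb v) (μ ^ 2) := by
      rw [hμ, ← h58_gmat_map]
      rfl
    have hlam' : μ ^ 2 = (emb u - emb v * θ) * (emb u - emb v * θ') := by
      rw [hμ, ← huv]
      simp only [map_add, map_mul, map_pow]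
      rw [ha, hb]
      ring
    exact h58_main h2 (emb a₀) (emb b₀) T θ θ' μ (emb u) (emb v) ha hb hθ3 hμ0 hlam' _ hG

end Cfsg.Agent.Helper58.GF
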