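import Mathlib
import Cfsg.Agent.Lib.Helper10.ProdCard

/-!
# Permutable subgroups and Wielandt's lemma for `p`-subgroups (helper58)

* `perm_iSup` : a subgroup permuting with every member of a family permutes with its join.
* `wielandt_pgroup` : if `P`, `Q` are `p`-subgroups of a finite group such that every conjugate
  of `P` permutes with every conjugate of `Q`, then `[P^G, Q^G]` lies in a normal `p`-subgroup.
-/

open scoped Pointwise commutatorElement

namespace Cfsg.Agent.Helper58.KW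

variable {G : Type*} [Group G]

/-- If the set product `P * Q` is a subgroup then `Q * P ⊆ P * Q`. -/
theorem mul_subset_of_isSubgroup (P Q S : Subgroup G)
    (h : (S : Set G) = (P : Set G) * (Q : Set G)) :
    (Q : Set G) * (P : Set G) ⊆ (P : Set G) * (Q : Set G) := by
  rintro _ ⟨q, hq, x, hx, rfl⟩
  have h1 : x⁻¹ * q⁻¹ ∈ (S : Set G) := by
    rw [h]; exact ⟨x⁻¹, P.inv_mem hx, q⁻¹, Q.inv_mem hq, rfl⟩
  have h2 : (x⁻¹ * q⁻¹)⁻¹ ∈ (S : Set G) := S.inv_mem h1
  rw [h] at h2
  simpa using h2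

/-- A subgroup `P` such that `Q i * P ⊆ P * Q i` for all `i` satisfies
`P * (⨆ i, Q i) = P ⊔ ⨆ i, Q i` as sets. -/
theorem perm_iSup {ι : Sort*} (P : Subgroup G) (Q : ι → Subgroup G)
    (h : ∀ i, (Q i : Set G) * (P : Set G) ⊆ (P : Set G) * (Q i : Set G)) :
    ((P ⊔ ⨆ i, Q i : Subgroup G) : Set G) = (P : Set G) * ((⨆ i, Q i : Subgroup G) : Set G) := by
  set M : Subgroup G := ⨆ i, Q i with hM
  set S : Set G := (P : Set G) * (M : Set G) with hS
  -- the stabilizer of `S` under left multiplication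
  let T : Subgroup G := MulAction.stabilizer G S
  have hsub : ∀ g : G, g • S ⊆ S → g⁻¹ • S ⊆ S → g ∈ T := by
    intro g h1 h2
    rw [MulAction.mem_stabilizer_iff]
    apply Set.Subset.antisymm h1
    intro s hs
    have : g⁻¹ • s ∈ S := h2 ⟨s, hs, rfl⟩
    exact ⟨g⁻¹ • s, this, by simp⟩
  have hP : P ≤ T := by
    intro x hx
    have key : ∀ y ∈ P, y • S ⊆ S := by
      rintro y hy _ ⟨_, ⟨u, hu, m, hm, rfl⟩, rfl⟩
      exact ⟨y * u, P.mul_mem hy hu, m, hm, by simp [mul_assoc]⟩
    exact hsub x (key x hx) (key x⁻¹ (P.inv_mem hx))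
  have hQ : ∀ i, Q i ≤ T := by
    intro i x hx
    have hQM : Q i ≤ M := le_iSup Q i
    have key : ∀ y ∈ Q i, y • S ⊆ S := by
      rintro y hy _ ⟨_, ⟨u, hu, m, hm, rfl⟩, rfl⟩
      obtain ⟨u', hu', y', hy', he⟩ := h i ⟨y, hy, u, hu, rfl⟩
      refine ⟨u', hu', y' * m, M.mul_mem (hQM hy') hm, ?_⟩
      simp only [smul_eq_mul]
      simp only at he
      rw [← mul_assoc, he, mul_assoc]
    exact hsub x (key x hx) (key x⁻¹ ((Q i).inv_mem hx))
  have hle : P ⊔ M ≤ T := sup_le hP (iSup_le hQ)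
  apply Set.Subset.antisymm
  · intro g hg
    have hgT : g ∈ T := hle hg
    have h1 : (1 : G) ∈ S := ⟨1, P.one_mem, 1, M.one_mem, by simp⟩
    have : g • (1 : G) ∈ g • S := ⟨1, h1, rfl⟩
    rw [MulAction.mem_stabilizer_iff.mp hgT] at this
    simpa using this
  · rintro _ ⟨u, hu, m, hm, rfl⟩
    exact (P ⊔ M).mul_mem ((le_sup_left : P ≤ P ⊔ M) hu) ((le_sup_right : M ≤ P ⊔ M) hm)


/-- The join of all conjugates of a `p`-subgroup `W` which is normal in a normal subgroup `X`
is a normal `p`-subgroup. -/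
theorem exists_normal_pgroup_of_normal_in_normal [Finite G] (p : ℕ) [Fact p.Prime]
    (X W : Subgroup G) [hX : X.Normal] (hWX : W ≤ X) (hW : IsPGroup p W)
    (hn : X ≤ Subgroup.normalizer (W : Set G)) :
    ∃ N : Subgroup G, N.Normal ∧ IsPGroup p N ∧ W ≤ N := by
  classical
  have := Fintype.ofFinite G
  -- each conjugate of `W` is a `p`-group inside `X` normalized by `X`
  have hconjX : ∀ g : G, MulAut.conj g • W ≤ X := by
    intro g x hx
    obtain ⟨w, hw, rfl⟩ := (Subgroup.mem_smul_pointwise_iff_exists _ _ _).mp hx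
    simpa [MulAut.smul_def] using hX.conj_mem w (hWX hw) g
  have hconjP : ∀ g : G, IsPGroup p (MulAut.conj g • W : Subgroup G) := fun g => hW.map _
  have hconjN : ∀ g : G, X ≤ Subgroup.normalizer ((MulAut.conj g • W : Subgroup G) : Set G) := by
    intro g x hx
    have hx' : g⁻¹ * x * g ∈ X := by simpa using hX.conj_mem x hx g⁻¹
    have hnx := hn hx'
    rw [Subgroup.mem_normalizer_iff] at hnx ⊢
    intro y
    rw [Subgroup.mem_pointwise_smul_iff_inv_smul_mem, Subgroup.mem_pointwise_smul_iff_inv_smul_mem]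
    simp only [MulAut.smul_def, MulAut.conj_inv_apply]
    rw [hnx (g⁻¹ * y * g)]
    have : g⁻¹ * x * g * (g⁻¹ * y * g) * (g⁻¹ * x * g)⁻¹ = g⁻¹ * (x * y * x⁻¹) * g := by group
    rw [this]
  -- finset induction
  have key : ∀ s : Finset G, IsPGroup p (s.sup fun g => MulAut.conj g • W : Subgroup G) ∧
      (s.sup fun g => MulAut.conj g • W : Subgroup G) ≤ X := by
    intro s
    induction s using Finset.induction_on with
    | empty =>
      rw [Finset.sup_empty]
      exact ⟨IsPGroup.of_bot, bot_le⟩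
    | insert g s _ ih =>
      rw [Finset.sup_insert]
      refine ⟨?_, sup_le (hconjX g) ih.2⟩
      rw [sup_comm]
      exact IsPGroup.to_sup_of_normal_right' ih.1 (hconjP g) (ih.2.trans (hconjN g))
  refine ⟨Finset.univ.sup fun g : G => (MulAut.conj g • W : Subgroup G), ?_, (key _).1, ?_⟩
  · -- normality
    have hN : (Finset.univ.sup fun g : G => (MulAut.conj g • W : Subgroup G)) =
        ⨆ g : G, (MulAut.conj g • W : Subgroup G) := by
      rw [Finset.sup_univ_eq_iSup]
    rw [hN]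
    constructor
    intro n hn' h
    induction hn' using Subgroup.iSup_induction' with
    | hp g x hx =>
      refine Subgroup.mem_iSup_of_mem (h * g) ?_
      obtain ⟨w, hw, rfl⟩ := (Subgroup.mem_smul_pointwise_iff_exists _ _ _).mp hx
      refine (Subgroup.mem_smul_pointwise_iff_exists _ _ _).mpr ⟨w, hw, ?_⟩
      simp [MulAut.smul_def, mul_assoc]
    | h1 => simp
    | hmul x y _ _ ihx ihy =>
      have : h * (x * y) * h⁻¹ = (h * x * h⁻¹) * (h * y * h⁻¹) := by group
      rw [this]
      exact Subgroup.mul_mem _ ihx ihy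
  · have : MulAut.conj (1 : G) • W ≤ Finset.univ.sup fun g : G => (MulAut.conj g • W : Subgroup G) :=
      Finset.le_sup (f := fun g : G => (MulAut.conj g • W : Subgroup G)) (Finset.mem_univ (1 : G))
    simpa using this


/-- The join of the conjugates of `Q` contained in `M`. -/
def gen (Q M : Subgroup G) : Subgroup G :=
  ⨆ (y : {y : G // MulAut.conj y • Q ≤ M}), MulAut.conj (y : G) • Q

theorem gen_le (Q M : Subgroup G) : gen Q M ≤ M := iSup_le fun y => y.2

/-- the normal closure of a subgroup lies in any subgroup containing all conjugates -/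
theorem normalClosure_le_of_conj_le (P K : Subgroup G) (h : ∀ x : G, MulAut.conj x • P ≤ K) :
    Subgroup.normalClosure (P : Set G) ≤ K := by
  unfold Subgroup.normalClosure
  rw [Subgroup.closure_le]
  intro c hc
  obtain ⟨a, ha, hac⟩ := Group.mem_conjugatesOfSet_iff.mp hc
  obtain ⟨g, hg⟩ := isConj_iff.mp hac
  apply h g
  refine (Subgroup.mem_smul_pointwise_iff_exists _ _ _).mpr ⟨a, ha, ?_⟩
  simpa [MulAut.smul_def] using hg

/-- **Wielandt's lemma for `p`-subgroups.** If every conjugate of the `p`-subgroup `P` permutes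
with every conjugate of the `p`-subgroup `Q`, then the commutators `[x, y]`, `x ∈ P^G`, `y ∈ Q^G`,
all lie in a normal `p`-subgroup of `G`. -/
theorem wielandt_pgroup [Finite G] (p : ℕ) [Fact p.Prime] (P Q : Subgroup G)
    (hP : IsPGroup p P) (hQ : IsPGroup p Q)
    (hperm : ∀ x y : G, ∃ S : Subgroup G, (S : Set G) =
      ((MulAut.conj x • P : Subgroup G) : Set G) * ((MulAut.conj y • Q : Subgroup G) : Set G)) :
    ∃ N : Subgroup G, N.Normal ∧ IsPGroup p N ∧
      ∀ x ∈ Subgroup.normalClosure (P : Set G), ∀ y ∈ Subgroup.normalClosure (Q : Set G),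
        ⁅x, y⁆ ∈ N := by
  classical
  -- the family of `p`-subgroups containing `Q` generated by conjugates of `Q`
  let 𝓜 : Set (Subgroup G) := {M | IsPGroup p M ∧ Q ≤ M ∧ M ≤ gen Q M}
  have h𝓜fin : 𝓜.Finite := Set.toFinite _
  have hQ𝓜 : Q ∈ 𝓜 := by
    refine ⟨hQ, le_rfl, ?_⟩
    have h1 : MulAut.conj (1 : G) • Q ≤ Q := by simp
    have := le_iSup (fun y : {y : G // MulAut.conj y • Q ≤ Q} => MulAut.conj (y : G) • Q) ⟨1, h1⟩
    simpa [gen] using this
  obtain ⟨M, hM𝓜, hMmax⟩ := Set.exists_max_image 𝓜 (fun M => Nat.card M) h𝓜fin ⟨Q, hQ𝓜⟩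
  obtain ⟨hMp, hQM, hMgen⟩ := hM𝓜
  have hMeq : gen Q M = M := le_antisymm (gen_le Q M) hMgen
  -- every conjugate of `P` normalizes `M`
  have hnorm : ∀ x : G, MulAut.conj x • P ≤ Subgroup.normalizer (M : Set G) := by
    intro x
    set P' : Subgroup G := MulAut.conj x • P with hP'
    have hP'p : IsPGroup p P' := hP.map _
    -- `P'` permutes with `M`
    have hTset : ((P' ⊔ gen Q M : Subgroup G) : Set G) = (P' : Set G) * ((gen Q M : Subgroup G) : Set G) := by
      apply perm_iSup
      intro y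
      obtain ⟨S, hS⟩ := hperm x y
      exact mul_subset_of_isSubgroup _ _ S hS
    rw [hMeq] at hTset
    set T : Subgroup G := P' ⊔ M with hT
    have hTp : IsPGroup p T := by
      obtain ⟨a, ha⟩ := IsPGroup.iff_card.mp hP'p
      obtain ⟨b, hb⟩ := IsPGroup.iff_card.mp hMp
      have hcard := Cfsg.Agent.Helper10.card_set_mul_mul_card_inf P' M
      rw [← hTset] at hcard
      have hcard' : Nat.card T * Nat.card (P' ⊓ M : Subgroup G) = p ^ (a + b) := by
        rw [pow_add, ← ha, ← hb]; exact hcard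
      exact IsPGroup.of_card_dvd_pow (n := a + b) (Dvd.intro _ hcard')
    -- the normal closure of `M` in `T`
    set M' : Subgroup G := ⨆ t : T, MulAut.conj (t : G) • M with hM'
    have hM'T : M' ≤ T := by
      refine iSup_le fun t => ?_
      intro z hz
      obtain ⟨m, hm, rfl⟩ := (Subgroup.mem_smul_pointwise_iff_exists _ _ _).mp hz
      simp only [MulAut.smul_def, MulAut.conj_apply]
      exact T.mul_mem (T.mul_mem t.2 ((le_sup_right : M ≤ T) hm)) (T.inv_mem t.2)
    have hMM' : M ≤ M' := by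
      have := le_iSup (fun t : T => MulAut.conj (t : G) • M) ⟨1, T.one_mem⟩
      simpa using this
    have hM'gen : M' ≤ gen Q M' := by
      refine iSup_le fun t => ?_
      rw [Subgroup.pointwise_smul_subset_iff, ← hMeq]
      refine iSup_le fun y => ?_
      rw [← Subgroup.pointwise_smul_subset_iff, smul_smul, ← map_mul]
      have hle : MulAut.conj ((t : G) * (y : G)) • Q ≤ M' := by
        rw [map_mul, ← smul_smul]
        refine le_trans ?_ (le_iSup (fun t : T => MulAut.conj (t : G) • M) t)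
        exact Subgroup.pointwise_smul_le_pointwise_smul_iff.mpr y.2
      exact le_iSup (fun z : {z : G // MulAut.conj z • Q ≤ M'} => MulAut.conj (z : G) • Q)
        ⟨(t : G) * (y : G), hle⟩
    have hM'𝓜 : M' ∈ 𝓜 := ⟨hTp.to_le hM'T, hQM.trans hMM', hM'gen⟩
    have hcardle : Nat.card M' ≤ Nat.card M := hMmax M' hM'𝓜
    have hM'eq : M' = M := (Subgroup.eq_of_le_of_card_ge hMM' hcardle).symm
    -- so every element of `T` normalizes `M`
    have hconj : ∀ t ∈ T, MulAut.conj t • M ≤ M := by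
      intro t ht
      calc MulAut.conj t • M ≤ M' := le_iSup (fun t : T => MulAut.conj (t : G) • M) ⟨t, ht⟩
        _ = M := hM'eq
    intro u hu
    have huT : u ∈ T := (le_sup_left : P' ≤ T) hu
    rw [Subgroup.mem_normalizer_iff]
    intro m
    constructor
    · intro hm
      have := hconj u huT ((Subgroup.mem_smul_pointwise_iff_exists _ _ _).mpr ⟨m, hm, rfl⟩)
      simpa [MulAut.smul_def] using this
    · intro hm
      have := hconj u⁻¹ (T.inv_mem huT)
        ((Subgroup.mem_smul_pointwise_iff_exists _ _ _).mpr ⟨u * m * u⁻¹, hm, rfl⟩)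
      simpa [MulAut.smul_def, mul_assoc] using this
  -- the normal closure `X` of `P` normalizes `M`
  set X : Subgroup G := Subgroup.normalClosure (P : Set G) with hX
  have hXM : X ≤ Subgroup.normalizer (M : Set G) := normalClosure_le_of_conj_le P _ hnorm
  -- `W = M ⊓ X` is a normal `p`-subgroup of `X`
  have hWn : X ≤ Subgroup.normalizer ((M ⊓ X : Subgroup G) : Set G) := by
    intro x hx
    have hxM := hXM hx
    rw [Subgroup.mem_normalizer_iff] at hxM ⊢
    intro w
    rw [Subgroup.mem_inf, Subgroup.mem_inf, ← hxM w]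
    constructor
    · rintro ⟨h1, h2⟩
      exact ⟨h1, X.mul_mem (X.mul_mem hx h2) (X.inv_mem hx)⟩
    · rintro ⟨h1, h2⟩
      refine ⟨h1, ?_⟩
      have : w = x⁻¹ * (x * w * x⁻¹) * x := by group
      rw [this]
      exact X.mul_mem (X.mul_mem (X.inv_mem hx) h2) hx
  obtain ⟨N, hNn, hNp, hWN⟩ := exists_normal_pgroup_of_normal_in_normal p X (M ⊓ X) inf_le_right
    (hMp.to_le inf_le_left) hWn
  refine ⟨N, hNn, hNp, ?_⟩
  -- commutators with elements of `Q`
  have hq : ∀ x ∈ X, ∀ q ∈ Q, ⁅x, q⁆ ∈ N := by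
    intro x hx q hq
    apply hWN
    rw [commutatorElement_def]
    refine ⟨?_, ?_⟩
    · have := (Subgroup.mem_normalizer_iff.mp (hXM hx) q).mp (hQM hq)
      exact M.mul_mem this (M.inv_mem (hQM hq))
    · have h1 : q * x⁻¹ * q⁻¹ ∈ X := (inferInstance : X.Normal).conj_mem _ (X.inv_mem hx) q
      have : x * q * x⁻¹ * q⁻¹ = x * (q * x⁻¹ * q⁻¹) := by group
      rw [this]
      exact X.mul_mem hx h1
  intro x hx y hy
  revert x
  unfold Subgroup.normalClosure at hy
  induction hy using Subgroup.closure_induction with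
  | mem c hc =>
    intro x hx
    obtain ⟨a, ha, hac⟩ := Group.mem_conjugatesOfSet_iff.mp hc
    obtain ⟨g, rfl⟩ := isConj_iff.mp hac
    have hx' : g⁻¹ * x * g ∈ X := by
      simpa using (inferInstance : X.Normal).conj_mem x hx g⁻¹
    have h1 := hq _ hx' a ha
    have h2 := hNn.conj_mem _ h1 g
    have : g * ⁅g⁻¹ * x * g, a⁆ * g⁻¹ = ⁅x, g * a * g⁻¹⁆ := by
      simp only [commutatorElement_def]; group
    rwa [this] at h2
  | one => intro x _; simp
  | mul y₁ y₂ _ _ ih₁ ih₂ =>
    intro x hx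
    have : ⁅x, y₁ * y₂⁆ = ⁅x, y₁⁆ * (y₁ * ⁅x, y₂⁆ * y₁⁻¹) := by
      simp only [commutatorElement_def]; group
    rw [this]
    exact N.mul_mem (ih₁ x hx) (hNn.conj_mem _ (ih₂ x hx) y₁)
  | inv y _ ih =>
    intro x hx
    have : ⁅x, y⁻¹⁆ = y⁻¹ * (⁅x, y⁆)⁻¹ * y⁻¹⁻¹ := by
      simp only [commutatorElement_def]; group
    rw [this]
    exact hNn.conj_mem _ (N.inv_mem (ih x hx)) y⁻¹

end Cfsg.Agent.Helper58.KW
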