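import Mathlib
import Cfsg.Agent.Lib.Helper58.KWPerm
import Cfsg.Agent.S0560

/-!
# Kegel–Wielandt: reduction of the general case to the coprime case (helper58)
-/

open scoped Pointwise commutatorElement

namespace Cfsg.Agent.Helper58.KW

universe u

/-- the hypothesis "G = AB" -/
def Fact2 {G : Type*} [Group G] (A B : Subgroup G) : Prop := ∀ g : G, ∃ a ∈ A, ∃ b ∈ B, g = a * b

theorem Fact2.map {G H : Type*} [Group G] [Group H] {A B : Subgroup G} (h : Fact2 A B)
    (f : G →* H) (hf : Function.Surjective f) : Fact2 (A.map f) (B.map f) := by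
  intro g
  obtain ⟨g, rfl⟩ := hf g
  obtain ⟨a, ha, b, hb, rfl⟩ := h g
  exact ⟨f a, Subgroup.mem_map_of_mem f ha, f b, Subgroup.mem_map_of_mem f hb, map_mul f a b⟩

theorem isNilpotent_map {G H : Type*} [Group G] [Group H] {A : Subgroup G}
    (hA : Group.IsNilpotent A) (f : G →* H) : Group.IsNilpotent (A.map f) :=
  Group.nilpotent_of_surjective (f.subgroupMap A) (f.subgroupMap_surjective A)

theorem card_quotient_lt {G : Type*} [Group G] [Finite G] (N : Subgroup G) [N.Normal]
    (hN : N ≠ ⊥) : Nat.card (G ⧸ N) < Nat.card G := by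
  have h1 : Nat.card (G ⧸ N) * Nat.card N = Nat.card G := by
    rw [← Subgroup.index_eq_card]; exact N.index_mul_card
  have h2 : 1 < Nat.card N := by
    rw [Finite.one_lt_card_iff_nontrivial]
    exact (Subgroup.nontrivial_iff_ne_bot N).mpr hN
  have h3 : 0 < Nat.card (G ⧸ N) := Nat.card_pos
  nlinarith

/-- The coprime case (Wielandt's theorem, statement S0563), as a hypothesis. -/
def CoprimeCase : Prop :=
  ∀ (G : Type u) [Group G] [Finite G] (A B : Subgroup G), Group.IsNilpotent A →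
    Group.IsNilpotent B → (Nat.card A).Coprime (Nat.card B) → Fact2 A B → Group.IsSolvable G

/-- The induction hypothesis. -/
def IH (n : ℕ) : Prop :=
  ∀ m < n, ∀ (H : Type u) [Group H] [Finite H], Nat.card H = m → ∀ A B : Subgroup H,
    Group.IsNilpotent A → Group.IsNilpotent B → Fact2 A B → Group.IsSolvable H

theorem isSolvable_quotient_of_IH {G : Type u} [Group G] [Finite G] (ih : IH.{u} (Nat.card G))
    (A B : Subgroup G) (hA : Group.IsNilpotent A) (hB : Group.IsNilpotent B) (hAB : Fact2 A B)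
    (N : Subgroup G) [N.Normal] (hN : N ≠ ⊥) : Group.IsSolvable (G ⧸ N) :=
  ih _ (card_quotient_lt N hN) (G ⧸ N) rfl _ _ (isNilpotent_map hA _) (isNilpotent_map hB _)
    (hAB.map (QuotientGroup.mk' N) (QuotientGroup.mk'_surjective N))

/-- conjugating by an element of `A` fixes the image of a normal subgroup of `A` -/
theorem conj_smul_map_subtype_of_normal {G : Type*} [Group G] (A : Subgroup G) (P : Subgroup A)
    [hP : P.Normal] {a : G} (ha : a ∈ A) :
    MulAut.conj a • (P.map A.subtype) = P.map A.subtype := by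
  ext z
  rw [Subgroup.mem_smul_pointwise_iff_exists]
  constructor
  · rintro ⟨s, hs, rfl⟩
    obtain ⟨x, hx, rfl⟩ := Subgroup.mem_map.mp hs
    refine Subgroup.mem_map.mpr ⟨⟨a, ha⟩ * x * ⟨a, ha⟩⁻¹, hP.conj_mem x hx _, ?_⟩
    simp [MulAut.smul_def]
  · intro hz
    obtain ⟨x, hx, rfl⟩ := Subgroup.mem_map.mp hz
    refine ⟨a⁻¹ * (x : G) * a, Subgroup.mem_map.mpr ⟨⟨a, ha⟩⁻¹ * x * ⟨a, ha⟩, ?_, by simp⟩, ?_⟩
    · have := hP.conj_mem x hx (⟨a, ha⟩⁻¹)
      simpa using this
    · simp only [MulAut.smul_def, MulAut.conj_apply, Subgroup.subtype_apply]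
      group

/-- If `G = AB`, `P₀` is normalized by `A`, `Q₀` is normalized by `B` and `P₀ Q₀` is a subgroup,
then all `P₀^x Q₀^y` are subgroups. -/
theorem perm_conj_of_perm {G : Type*} [Group G] (A B P₀ Q₀ R : Subgroup G) (hAB : Fact2 A B)
    (hP : ∀ a ∈ A, MulAut.conj a • P₀ = P₀) (hQ : ∀ b ∈ B, MulAut.conj b • Q₀ = Q₀)
    (hR : (R : Set G) = (P₀ : Set G) * (Q₀ : Set G)) (x y : G) :
    ∃ S : Subgroup G, (S : Set G) =
      ((MulAut.conj x • P₀ : Subgroup G) : Set G) * ((MulAut.conj y • Q₀ : Subgroup G) : Set G) := by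
  obtain ⟨a, ha, b, hb, hab⟩ := hAB (x⁻¹ * y)
  have hy : y = x * a * b := by rw [mul_assoc, ← hab]; group
  refine ⟨MulAut.conj (x * a) • R, ?_⟩
  have h1 : MulAut.conj x • P₀ = MulAut.conj (x * a) • P₀ := by
    rw [map_mul, mul_smul, hP a ha]
  have h2 : MulAut.conj y • Q₀ = MulAut.conj (x * a) • Q₀ := by
    rw [hy, map_mul (MulAut.conj) (x * a) b, mul_smul, hQ b hb]
  rw [h1, h2]
  simp only [Subgroup.coe_pointwise_smul, hR]
  exact Set.image_mul (MulDistribMulAction.toMonoidHom G (MulAut.conj (x * a)))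

theorem kw_aux (hc : CoprimeCase.{u}) : ∀ n : ℕ, ∀ (G : Type u) [Group G] [Finite G], Nat.card G = n →
    ∀ A B : Subgroup G, Group.IsNilpotent A → Group.IsNilpotent B → Fact2 A B →
    Group.IsSolvable G := by
  intro n
  induction n using Nat.strong_induction_on with
  | _ n ih =>
  intro G _ _ hn A B hA hB hAB
  have ih' : IH.{u} (Nat.card G) := by
    rw [hn]; exact fun m hm H _ _ hH A B hA hB hAB => ih m hm H hH A B hA hB hAB
  by_cases hcop : (Nat.card A).Coprime (Nat.card B)
  · exact hc G A B hA hB hcop hAB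
  obtain ⟨p, hp, hpA, hpB⟩ := Nat.Prime.not_coprime_iff_dvd.mp hcop
  haveI : Fact p.Prime := ⟨hp⟩
  obtain ⟨P, Q, R, hR⟩ := Cfsg.Agent.S0560.result A B hAB p
  set P₀ : Subgroup G := (P : Subgroup A).map A.subtype with hP₀
  set Q₀ : Subgroup G := (Q : Subgroup B).map B.subtype with hQ₀
  haveI := hA
  haveI := hB
  have hPn : (P : Subgroup A).Normal := inferInstance
  have hQn : (Q : Subgroup B).Normal := inferInstance
  have hP₀p : IsPGroup p P₀ := P.2.map _
  have hQ₀p : IsPGroup p Q₀ := Q.2.map _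
  have hP₀ne : P₀ ≠ ⊥ := by
    intro h
    have := (Subgroup.map_eq_bot_iff_of_injective _ A.subtype_injective).mp h
    exact P.ne_bot_of_dvd_card hpA this
  have hQ₀ne : Q₀ ≠ ⊥ := by
    intro h
    have := (Subgroup.map_eq_bot_iff_of_injective _ B.subtype_injective).mp h
    exact Q.ne_bot_of_dvd_card hpB this
  have hperm := perm_conj_of_perm A B P₀ Q₀ R hAB
    (fun a ha => conj_smul_map_subtype_of_normal A (P : Subgroup A) ha)
    (fun b hb => conj_smul_map_subtype_of_normal B (Q : Subgroup B) hb) hR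
  obtain ⟨N, hNn, hNp, hcomm⟩ := wielandt_pgroup p P₀ Q₀ hP₀p hQ₀p hperm
  by_cases hN : N = ⊥
  · -- the normal closures commute
    set X : Subgroup G := Subgroup.normalClosure (P₀ : Set G) with hX
    set Y : Subgroup G := Subgroup.normalClosure (Q₀ : Set G) with hY
    have hXne : X ≠ ⊥ := by
      intro h
      apply hP₀ne
      have : P₀ ≤ X := Subgroup.le_normalClosure
      rw [h] at this
      exact le_bot_iff.mp this
    have hYne : Y ≠ ⊥ := by
      intro h
      apply hQ₀ne
      have : Q₀ ≤ Y := Subgroup.le_normalClosure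
      rw [h] at this
      exact le_bot_iff.mp this
    haveI : Group.IsSolvable (G ⧸ X) := isSolvable_quotient_of_IH ih' A B hA hB hAB X hXne
    haveI : Group.IsSolvable (G ⧸ Y) := isSolvable_quotient_of_IH ih' A B hA hB hAB Y hYne
    haveI : Group.IsSolvable (X ⊓ Y : Subgroup G) := by
      apply Group.isSolvable_of_comm
      rintro ⟨u, hu⟩ ⟨v, hv⟩
      have h1 := hcomm u hu.1 v hv.2
      rw [hN, Subgroup.mem_bot, commutatorElement_eq_one_iff_mul_comm] at h1
      exact Subtype.ext h1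
    refine Group.isSolvable_of_ker_le_range (X ⊓ Y).subtype
      ((QuotientGroup.mk' X).prod (QuotientGroup.mk' Y)) ?_
    rw [MonoidHom.ker_prod, QuotientGroup.ker_mk', QuotientGroup.ker_mk', Subgroup.range_subtype]
  · haveI : Group.IsSolvable (G ⧸ N) := isSolvable_quotient_of_IH ih' A B hA hB hAB N hN
    haveI : Group.IsNilpotent N := hNp.isNilpotent
    refine Group.isSolvable_of_ker_le_range N.subtype (QuotientGroup.mk' N) ?_
    rw [QuotientGroup.ker_mk', Subgroup.range_subtype]

end Cfsg.Agent.Helper58.KW
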