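import Mathlib
import Cfsg.Agent.Lib.Helper58.KWGeneral
import Cfsg.Agent.Lib.Helper10.MinNormal
import Cfsg.Agent.Lib.Helper10.Nilp
import Cfsg.Agent.Lib.Helper10.SylowExtra

/-!
# Kegel–Wielandt: a proper normal subgroup containing one of the factors (helper58)
-/

open scoped Pointwise commutatorElement

namespace Cfsg.Agent.Helper58.KW

universe u

open Cfsg.Agent.Helper10

theorem Fact2.symm {G : Type*} [Group G] {A B : Subgroup G} (h : Fact2 A B) : Fact2 B A := by
  intro g
  obtain ⟨a, ha, b, hb, hg⟩ := h g⁻¹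
  refine ⟨b⁻¹, B.inv_mem hb, a⁻¹, A.inv_mem ha, ?_⟩
  rw [← mul_inv_rev, ← hg, inv_inv]

/-- `|G|` divides `|A| |B|` when `G = AB`. -/
theorem Fact2.card_dvd {G : Type*} [Group G] [Finite G] {A B : Subgroup G} (h : Fact2 A B) :
    Nat.card G ∣ Nat.card A * Nat.card B := by
  have huniv : ((A : Set G) * (B : Set G) : Set G) = Set.univ := by
    ext g
    simp only [Set.mem_univ, iff_true]
    obtain ⟨a, ha, b, hb, rfl⟩ := h g
    exact Set.mul_mem_mul ha hb
  have := card_set_mul_mul_card_inf A B
  rw [huniv, Nat.card_coe_set_eq, Set.ncard_univ] at this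
  exact Dvd.intro _ this

/-- In a nilpotent group a proper subgroup lies in a proper normal subgroup. -/
theorem exists_normal_of_nilpotent {G : Type*} [Group G] [Finite G] (hG : Group.IsNilpotent G)
    (A : Subgroup G) (hA : A ≠ ⊤) : ∃ N : Subgroup G, N.Normal ∧ N ≠ ⊤ ∧ A ≤ N := by
  obtain ⟨K, hK, hAK⟩ := (eq_top_or_exists_le_coatom A).resolve_left hA
  have h3 : ∀ H : Subgroup G, IsCoatom H → H.Normal := (Group.isNilpotent_of_finite_tfae.out 0 2).mp hG
  exact ⟨K, h3 K hK, hK.1, hAK⟩

/-- Key step: `M` minimal normal abelian `p`-group, `B ⊔ M = ⊤`, `p ∣ |B|`, `B` nilpotent: then the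
Sylow `p`-subgroup of `B` is a nontrivial normal subgroup of `G` contained in `B`. -/
theorem exists_normal_le_of_minNormal {G : Type*} [Group G] [Finite G] (B M : Subgroup G)
    (hB : Group.IsNilpotent B) (hM : IsMinNormal M) (hMc : IsMulCommutative M)
    (p : ℕ) [Fact p.Prime] (hMp : IsPGroup p M) (hBM : B ⊔ M = ⊤) (hpB : p ∣ Nat.card B) :
    ∃ Q₀ : Subgroup G, Q₀.Normal ∧ Q₀ ≠ ⊥ ∧ Q₀ ≤ B := by
  classical
  haveI := hB
  obtain ⟨hMn, hMne, hMmin⟩ := hM
  haveI := hMn
  let Q : Sylow p B := default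
  have hQn : (Q : Subgroup B).Normal := inferInstance
  set Q₀ : Subgroup G := (Q : Subgroup B).map B.subtype with hQ₀
  have hQ₀p : IsPGroup p Q₀ := Q.2.map _
  have hQ₀ne : Q₀ ≠ ⊥ := by
    intro h
    have := (Subgroup.map_eq_bot_iff_of_injective _ B.subtype_injective).mp h
    exact Q.ne_bot_of_dvd_card hpB this
  have hQ₀B : Q₀ ≤ B := Subgroup.map_subtype_le _
  have hBQ : ∀ b ∈ B, MulAut.conj b • Q₀ = Q₀ := fun b hb =>
    conj_smul_map_subtype_of_normal B (Q : Subgroup B) hb
  -- the `p`-group `T = Q₀ ⊔ M`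
  set T : Subgroup G := Q₀ ⊔ M with hT
  have hTp : IsPGroup p T := hQ₀p.to_sup_of_normal_right hMp
  haveI : Group.IsNilpotent T := hTp.isNilpotent
  have hMT : M ≤ T := le_sup_right
  have hKne : M.subgroupOf T ≠ ⊥ := by
    intro h
    rw [Subgroup.subgroupOf_eq_bot, disjoint_iff, inf_eq_left.mpr hMT] at h
    exact hMne h
  have hKc := normal_inf_center_ne_bot (M.subgroupOf T) hKne
  -- a nontrivial element of `M` centralizing `Q₀`
  set Z₀ : Subgroup G := M ⊓ Subgroup.centralizer (Q₀ : Set G) with hZ₀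
  have hZ₀ne : Z₀ ≠ ⊥ := by
    obtain ⟨⟨⟨t, htT⟩, htK⟩, ht1⟩ := (Subgroup.ne_bot_iff_exists_ne_one).mp hKc
    rw [Subgroup.ne_bot_iff_exists_ne_one]
    refine ⟨⟨t, ?_, ?_⟩, ?_⟩
    · exact (Subgroup.mem_subgroupOf.mp htK.1)
    · show t ∈ Subgroup.centralizer (Q₀ : Set G)
      rw [Subgroup.mem_centralizer_iff]
      intro q hq
      have := Subgroup.mem_center_iff.mp htK.2 ⟨q, (le_sup_left : Q₀ ≤ T) hq⟩
      exact congrArg Subtype.val this
    · intro h
      apply ht1
      ext
      simpa using congrArg Subtype.val h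
  -- `Z₀` is normal in `G`
  have hZ₀n : Z₀.Normal := by
    have hnorm : Subgroup.normalizer (Z₀ : Set G) = ⊤ := by
      rw [eq_top_iff, ← hBM]
      refine sup_le ?_ ?_
      · intro b hb
        rw [Subgroup.mem_normalizer_iff]
        have key : ∀ c ∈ B, ∀ z ∈ Z₀, c * z * c⁻¹ ∈ Z₀ := by
          intro c hc z hz
          refine ⟨hMn.conj_mem z hz.1 c, ?_⟩
          show c * z * c⁻¹ ∈ Subgroup.centralizer (Q₀ : Set G)
          rw [Subgroup.mem_centralizer_iff]
          intro q hq
          have hq' : c⁻¹ * q * c ∈ Q₀ := by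
            have := hBQ c⁻¹ (B.inv_mem hc)
            rw [← this]
            exact (Subgroup.mem_smul_pointwise_iff_exists _ _ _).mpr ⟨q, hq, by simp [MulAut.smul_def]⟩
          have hcomm := Subgroup.mem_centralizer_iff.mp hz.2 _ hq'
          calc q * (c * z * c⁻¹) = c * ((c⁻¹ * q * c) * z) * c⁻¹ := by group
            _ = c * (z * (c⁻¹ * q * c)) * c⁻¹ := by rw [hcomm]
            _ = c * z * c⁻¹ * q := by group
        intro z
        constructor
        · exact key b hb z
        · intro hz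
          have := key b⁻¹ (B.inv_mem hb) _ hz
          simpa [mul_assoc] using this
      · intro m hm
        rw [Subgroup.mem_normalizer_iff]
        have key : ∀ z ∈ M, m * z * m⁻¹ = z := by
          intro z hz
          have := hMc.is_comm.comm ⟨m, hm⟩ ⟨z, hz⟩
          have h2 : m * z = z * m := congrArg Subtype.val this
          rw [h2]; group
        intro z
        constructor
        · intro hz; rw [key z hz.1]; exact hz
        · intro hz
          have hzM : z ∈ M := by
            have := hMn.conj_mem _ hz.1 m⁻¹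
            simpa [mul_assoc] using this
          rw [key z hzM] at hz; exact hz
    exact Subgroup.normalizer_eq_top_iff.mp hnorm
  have hZ₀M : Z₀ = M := (hMmin Z₀ hZ₀n inf_le_left).resolve_left hZ₀ne
  have hMcent : M ≤ Subgroup.centralizer (Q₀ : Set G) := by
    rw [← hZ₀M]; exact inf_le_right
  -- so `Q₀` is normal
  refine ⟨Q₀, ?_, hQ₀ne, hQ₀B⟩
  have hnorm : Subgroup.normalizer (Q₀ : Set G) = ⊤ := by
    rw [eq_top_iff, ← hBM]
    refine sup_le ?_ ?_
    · intro b hb
      rw [Subgroup.mem_normalizer_iff]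
      have key : ∀ c ∈ B, ∀ q ∈ Q₀, c * q * c⁻¹ ∈ Q₀ := by
        intro c hc q hq
        rw [← hBQ c hc]
        exact (Subgroup.mem_smul_pointwise_iff_exists _ _ _).mpr ⟨q, hq, by simp [MulAut.smul_def]⟩
      intro q
      constructor
      · exact key b hb q
      · intro hq
        have := key b⁻¹ (B.inv_mem hb) _ hq
        simpa [mul_assoc] using this
    · exact hMcent.trans (Subgroup.centralizer_le_normalizer _)
  exact Subgroup.normalizer_eq_top_iff.mp hnorm


theorem map_mk'_eq_top_iff {G : Type*} [Group G] (A M : Subgroup G) [M.Normal] :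
    A.map (QuotientGroup.mk' M) = ⊤ ↔ A ⊔ M = ⊤ := by
  constructor
  · intro h
    have := congrArg (Subgroup.comap (QuotientGroup.mk' M)) h
    rwa [Subgroup.comap_map_eq, QuotientGroup.ker_mk', Subgroup.comap_top] at this
  · intro h
    have h1 : (A ⊔ M).map (QuotientGroup.mk' M) = ⊤ := by
      rw [h]; exact Subgroup.map_top_of_surjective _ (QuotientGroup.mk'_surjective M)
    rw [Subgroup.map_sup] at h1
    have h2 : M.map (QuotientGroup.mk' M) = ⊥ := by
      rw [← le_bot_iff]
      rintro _ ⟨m, hm, rfl⟩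
      rw [Subgroup.mem_bot]
      exact (QuotientGroup.eq_one_iff m).mpr hm
    rwa [h2, sup_bot_eq] at h1

/-- The statement proved by induction. -/
def NormalStmt (G : Type u) [Group G] : Prop :=
  ∀ A B : Subgroup G, Group.IsNilpotent A → Group.IsNilpotent B → Fact2 A B →
    (A ≠ ⊤ ∨ B ≠ ⊤) → ∃ N : Subgroup G, N.Normal ∧ N ≠ ⊤ ∧ (A ≤ N ∨ B ≤ N)

theorem kw_normal_step (hc : CoprimeCase.{u}) {G : Type u} [Group G] [Finite G]
    (ih : ∀ m < Nat.card G, ∀ (H : Type u) [Group H] [Finite H], Nat.card H = m → NormalStmt H)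
    (A B : Subgroup G) (hA : Group.IsNilpotent A) (hB : Group.IsNilpotent B) (hAB : Fact2 A B)
    (hAtop : A ≠ ⊤) : ∃ N : Subgroup G, N.Normal ∧ N ≠ ⊤ ∧ (A ≤ N ∨ B ≤ N) := by
  classical
  have hsolv : Group.IsSolvable G := kw_aux hc _ G rfl A B hA hB hAB
  by_cases hnil : Group.IsNilpotent G
  · obtain ⟨N, hN1, hN2, hN3⟩ := exists_normal_of_nilpotent hnil A hAtop
    exact ⟨N, hN1, hN2, Or.inl hN3⟩
  haveI : Nontrivial G := by
    by_contra h
    rw [not_nontrivial_iff_subsingleton] at h
    exact hAtop (Subsingleton.elim _ _)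
  by_cases hex : ∃ M : Subgroup G, IsMinNormal M ∧ (A ⊔ M ≠ ⊤ ∨ B ⊔ M ≠ ⊤)
  · obtain ⟨M, hM, h⟩ := hex
    haveI := hM.1
    have h' : A.map (QuotientGroup.mk' M) ≠ ⊤ ∨ B.map (QuotientGroup.mk' M) ≠ ⊤ := by
      rcases h with h | h
      · exact Or.inl fun h1 => h ((map_mk'_eq_top_iff A M).mp h1)
      · exact Or.inr fun h1 => h ((map_mk'_eq_top_iff B M).mp h1)
    obtain ⟨N', hN'n, hN'top, hN'⟩ := ih _ (card_quotient_lt M hM.2.1) (G ⧸ M) rfl
      (A.map (QuotientGroup.mk' M)) (B.map (QuotientGroup.mk' M)) (isNilpotent_map hA _)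
      (isNilpotent_map hB _) (hAB.map _ (QuotientGroup.mk'_surjective M)) h'
    refine ⟨N'.comap (QuotientGroup.mk' M), hN'n.comap _, ?_, ?_⟩
    · intro h1
      apply hN'top
      have := congrArg (Subgroup.map (QuotientGroup.mk' M)) h1
      rwa [Subgroup.map_comap_eq_self_of_surjective (QuotientGroup.mk'_surjective M),
        Subgroup.map_top_of_surjective _ (QuotientGroup.mk'_surjective M)] at this
    · rcases hN' with h1 | h1
      · exact Or.inl (Subgroup.map_le_iff_le_comap.mp h1)
      · exact Or.inr (Subgroup.map_le_iff_le_comap.mp h1)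
  · push Not at hex
    exfalso
    obtain ⟨M, hM⟩ := exists_isMinNormal (G := G)
    have hMc := hM.isMulCommutative
    obtain ⟨p, hp, hpM, hpow⟩ := hM.exists_prime_pow_eq_one
    haveI : Fact p.Prime := ⟨hp⟩
    have hMp : IsPGroup p M := by
      rintro ⟨x, hx⟩
      refine ⟨1, ?_⟩
      ext
      simpa using hpow x hx
    obtain ⟨hAM, hBM⟩ := hex M hM
    haveI hMn := hM.1
    -- `A ⊓ M` is normal in `G`
    have hAMn : (A ⊓ M).Normal := by
      have hnorm : Subgroup.normalizer ((A ⊓ M : Subgroup G) : Set G) = ⊤ := by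
        rw [eq_top_iff, ← hAM]
        refine sup_le ?_ ?_
        · intro a ha
          rw [Subgroup.mem_normalizer_iff]
          intro z
          constructor
          · rintro ⟨h1, h2⟩
            exact ⟨A.mul_mem (A.mul_mem ha h1) (A.inv_mem ha), hMn.conj_mem z h2 a⟩
          · rintro ⟨h1, h2⟩
            refine ⟨?_, ?_⟩
            · have : z = a⁻¹ * (a * z * a⁻¹) * a := by group
              rw [this]
              exact A.mul_mem (A.mul_mem (A.inv_mem ha) h1) ha
            · have := hMn.conj_mem _ h2 a⁻¹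
              simpa [mul_assoc] using this
        · intro m hm
          rw [Subgroup.mem_normalizer_iff]
          have key : ∀ z ∈ M, m * z * m⁻¹ = z := by
            intro z hz
            have := hMc.is_comm.comm ⟨m, hm⟩ ⟨z, hz⟩
            have h2 : m * z = z * m := congrArg Subtype.val this
            rw [h2]; group
          intro z
          constructor
          · intro hz; rw [key z hz.2]; exact hz
          · intro hz
            have hzM : z ∈ M := by
              have := hMn.conj_mem _ hz.2 m⁻¹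
              simpa [mul_assoc] using this
            rw [key z hzM] at hz; exact hz
      exact Subgroup.normalizer_eq_top_iff.mp hnorm
    have hAM0 : A ⊓ M = ⊥ := by
      rcases hM.2.2 (A ⊓ M) hAMn inf_le_right with h | h
      · exact h
      · exfalso
        apply hAtop
        have hMA : M ≤ A := by rw [← h]; exact inf_le_left
        rwa [sup_eq_left.mpr hMA] at hAM
    -- `|G| = |A| |M|`
    have hcard : Nat.card G = Nat.card M * Nat.card A := by
      have := card_sup_mul_card_inf_of_normal M A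
      rw [sup_comm, hAM, inf_comm, hAM0, Subgroup.card_top, Subgroup.card_bot, mul_one] at this
      exact this
    have hdvd : Nat.card M ∣ Nat.card B := by
      have h1 := hAB.card_dvd
      rw [hcard, mul_comm (Nat.card M)] at h1
      exact Nat.dvd_of_mul_dvd_mul_left Nat.card_pos h1
    have hpB : p ∣ Nat.card B := hpM.trans hdvd
    obtain ⟨Q₀, hQ₀n, hQ₀ne, hQ₀B⟩ := exists_normal_le_of_minNormal B M hB hM hMc p hMp hBM hpB
    haveI := hQ₀n
    obtain ⟨M', hM', hM'Q⟩ := exists_isMinNormal_le Q₀ hQ₀ne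
    have hBM' := (hex M' hM').2
    rw [sup_eq_left.mpr (hM'Q.trans hQ₀B)] at hBM'
    -- `B = ⊤` so `G` is nilpotent
    apply hnil
    haveI : Group.IsNilpotent (⊤ : Subgroup G) := hBM' ▸ hB
    exact Group.nilpotent_of_mulEquiv (Subgroup.topEquiv : (⊤ : Subgroup G) ≃* G)

theorem kw_normal_aux (hc : CoprimeCase.{u}) : ∀ n : ℕ, ∀ (G : Type u) [Group G] [Finite G], Nat.card G = n →
    NormalStmt G := by
  intro n
  induction n using Nat.strong_induction_on with
  | _ n ih =>
  intro G _ _ hn A B hA hB hAB hproper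
  have ih' : ∀ m < Nat.card G, ∀ (H : Type u) [Group H] [Finite H], Nat.card H = m →
      NormalStmt H := by
    rw [hn]; exact fun m hm H _ _ hH => ih m hm H hH
  rcases hproper with h | h
  · exact kw_normal_step hc ih' A B hA hB hAB h
  · obtain ⟨N, h1, h2, h3⟩ := kw_normal_step hc ih' B A hB hA hAB.symm h
    exact ⟨N, h1, h2, h3.symm⟩

end Cfsg.Agent.Helper58.KW
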