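import Mathlib
import Cfsg.Agent.Lib.Helper13.L37Glue
import Cfsg.Agent.Lib.Helper13.L37Card

/-!
# Strong end-game for S1693 / S1699 (helper58, L37 server)

Same hypotheses as `Cfsg.Agent.Helper13.L37.exists_index_two_of_hom`; the conclusion also records
that every normal subgroup of `H` is trivial or contains the index-two subgroup `N ≃* L`
(wanted by helper37 for S1699).
-/

set_option autoImplicit false

namespace Cfsg.Agent.Helper58.L37

open Cfsg.Agent.Helper13.L37

variable {K L H : Type*} [Group K] [Group L] [Group H]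

theorem exists_index_two_strong [Finite K] [Finite L] [IsSimpleGroup L]
    (hnc : ∃ a b : L, a * b ≠ b * a) (θ : K →* MulAut L)
    (hInn : (MulAut.conj : L →* MulAut L).range ≤ θ.range)
    (hout : ∃ k, θ k ∉ (MulAut.conj : L →* MulAut L).range)
    (hcard : Nat.card K ≤ 2 * Nat.card L)
    (φ : K →* H) (hφ : Function.Surjective φ) (hH : 2 < Nat.card H) :
    ∃ N : Subgroup H, N.Normal ∧ N.index = 2 ∧ Nonempty (N ≃* L) ∧
      ∀ M : Subgroup H, M.Normal → M = ⊥ ∨ N ≤ M := by
  classical
  set I : Subgroup (MulAut L) := (MulAut.conj : L →* MulAut L).range with hI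
  have hconj := conj_injective_of_simple (L := L) hnc
  have : Finite (MulAut L) := Finite.of_injective (fun α : MulAut L => (α : L → L))
    (fun a b h => by ext x; exact congrFun h x)
  have hIcard : Nat.card I = Nat.card L :=
    (Nat.card_congr (MonoidHom.ofInjective hconj).toEquiv).symm
  have hLpos : 0 < Nat.card L := Nat.card_pos
  have hlt : I < θ.range := by
    refine lt_of_le_of_ne hInn ?_
    intro h
    obtain ⟨k, hk⟩ := hout
    exact hk (h ▸ ⟨k, rfl⟩)
  have hRcard : 2 * Nat.card L ≤ Nat.card θ.range := by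
    have hdvd : Nat.card I ∣ Nat.card θ.range := Subgroup.card_dvd_of_le hInn
    obtain ⟨c, hc⟩ := hdvd
    have hne : Nat.card I ≠ Nat.card θ.range := by
      intro h
      exact (ne_of_lt hlt) (Subgroup.eq_of_le_of_card_ge hInn (le_of_eq h.symm))
    have hRpos : 0 < Nat.card θ.range := Nat.card_pos
    have hc2 : 2 ≤ c := by
      rcases c with _ | _ | c
      · rw [hc] at hRpos; simp at hRpos
      · exfalso; apply hne; rw [hc]; ring
      · omega
    rw [hc, hIcard]
    calc 2 * Nat.card L ≤ c * Nat.card L := Nat.mul_le_mul_right _ hc2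
      _ = Nat.card L * c := Nat.mul_comm _ _
  have hKR : Nat.card θ.range ≤ Nat.card K :=
    Nat.card_le_card_of_surjective θ.rangeRestrict θ.rangeRestrict_surjective
  have hKcard : Nat.card K = 2 * Nat.card L := le_antisymm hcard (hRcard.trans hKR)
  have hRK : Nat.card θ.range = Nat.card K := le_antisymm hKR (hKcard ▸ hRcard)
  have hθinj : Function.Injective θ := by
    have hbij : Function.Bijective θ.rangeRestrict := by
      rw [Nat.bijective_iff_surjective_and_card]
      exact ⟨θ.rangeRestrict_surjective, hRK.symm⟩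
    intro x y hxy
    apply hbij.1
    exact Subtype.ext hxy
  set N0 : Subgroup K := I.comap θ with hN0
  have hInormal : I.Normal := by
    refine ⟨?_⟩
    rintro _ ⟨g, rfl⟩ ψ
    refine ⟨ψ g, ?_⟩
    ext x
    simp [MulAut.conj_apply, map_mul, map_inv]
  have hN0normal : N0.Normal := Subgroup.Normal.comap hInormal θ
  have hN0map : N0.map θ = I := by
    rw [hN0, Subgroup.map_comap_eq, inf_eq_right.2 hInn]
  let e1 : N0 ≃* N0.map θ := N0.equivMapOfInjective θ hθinj
  let e2 : N0.map θ ≃* I := MulEquiv.subgroupCongr hN0map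
  let e3 : L ≃* I := MonoidHom.ofInjective hconj
  let eN0 : N0 ≃* L := (e1.trans e2).trans e3.symm
  have hN0card : Nat.card N0 = Nat.card L := Nat.card_congr eN0.toEquiv
  have hN0idx : N0.index = 2 := by
    have h := N0.card_mul_index
    rw [hN0card, hKcard] at h
    have : Nat.card L * N0.index = Nat.card L * 2 := by rw [h]; ring
    exact Nat.eq_of_mul_eq_mul_left hLpos this
  have hsimpleN0 : IsSimpleGroup N0 := eN0.isSimpleGroup
  -- every normal subgroup of `K` is trivial or contains `N0`
  have key : ∀ Z : Subgroup K, Z.Normal → Z = ⊥ ∨ N0 ≤ Z := by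
    intro Z hZn
    have hsub : (Z.subgroupOf N0) = ⊥ ∨ (Z.subgroupOf N0) = ⊤ :=
      (inferInstance : (Z.subgroupOf N0).Normal).eq_bot_or_eq_top
    rcases hsub with hb | ht
    · left
      have hdisj : Z ⊓ N0 = ⊥ := by
        rw [Subgroup.subgroupOf_eq_bot] at hb
        exact disjoint_iff.1 hb
      rw [Subgroup.eq_bot_iff_forall]
      intro z hz
      have hcomm : ∀ n ∈ N0, z * n = n * z := by
        intro n hn
        have hmem : z * n * z⁻¹ * n⁻¹ ∈ Z ⊓ N0 := by
          refine ⟨?_, ?_⟩
          · have : z * (n * z⁻¹ * n⁻¹) ∈ Z :=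
              Z.mul_mem hz (hZn.conj_mem z⁻¹ (Z.inv_mem hz) n)
            simpa [mul_assoc] using this
          · exact N0.mul_mem (hN0normal.conj_mem n hn z) (N0.inv_mem hn)
        rw [hdisj, Subgroup.mem_bot] at hmem
        calc z * n = (z * n * z⁻¹ * n⁻¹) * (n * z) := by group
          _ = n * z := by rw [hmem, one_mul]
      have hθz : θ z = 1 := by
        apply eq_one_of_commute_conj hnc
        intro g
        have hgI : MulAut.conj g ∈ I := ⟨g, rfl⟩
        obtain ⟨n, hn⟩ := hInn hgI
        have hnN0 : n ∈ N0 := by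
          rw [hN0, Subgroup.mem_comap, hn]; exact hgI
        rw [← hn, ← map_mul, ← map_mul, hcomm n hnN0]
      exact hθinj (by rw [hθz, map_one])
    · right
      rw [Subgroup.subgroupOf_eq_top] at ht; exact ht
  have hker : φ.ker = ⊥ := by
    rcases key φ.ker (MonoidHom.normal_ker φ) with h | hle
    · exact h
    · exfalso
      have hHcard : Nat.card H = φ.ker.index := by
        rw [Subgroup.index_ker, MonoidHom.range_eq_top.2 hφ, Subgroup.card_top]
      have hdvd : φ.ker.index ∣ N0.index := Subgroup.index_dvd_of_le hle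
      rw [hN0idx] at hdvd
      have := Nat.le_of_dvd (by norm_num) hdvd
      omega
  have hφinj : Function.Injective φ := (MonoidHom.ker_eq_bot_iff φ).1 hker
  have hφbij : Function.Bijective φ := ⟨hφinj, hφ⟩
  refine ⟨N0.map φ, Subgroup.Normal.map hN0normal φ hφ, ?_, ?_, ?_⟩
  · rw [Subgroup.index_map_of_bijective hφbij, hN0idx]
  · exact ⟨((N0.equivMapOfInjective φ hφinj).symm).trans eN0⟩
  · intro M hM
    rcases key (M.comap φ) (Subgroup.Normal.comap hM φ) with h | hle
    · left
      have : M = (M.comap φ).map φ := (Subgroup.map_comap_eq_self_of_surjective hφ M).symm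
      rw [this, h, Subgroup.map_bot]
    · right
      exact Subgroup.map_le_iff_le_comap.2 hle

/-- The strong end-game with `L = PSL(3, ZMod 7)` plugged in. -/
theorem exists_index_two_psl37_strong {K H : Type*} [Group K] [Group H] [Finite K]
    (θ : K →* MulAut (Matrix.ProjectiveSpecialLinearGroup (Fin 3) (ZMod 7)))
    (hInn : (MulAut.conj : Matrix.ProjectiveSpecialLinearGroup (Fin 3) (ZMod 7) →* _).range ≤ θ.range)
    (hout : ∃ k, θ k ∉ (MulAut.conj : Matrix.ProjectiveSpecialLinearGroup (Fin 3) (ZMod 7) →* _).range)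
    (hcard : Nat.card K ≤ 3753792)
    (φ : K →* H) (hφ : Function.Surjective φ) (hH : 2 < Nat.card H) :
    ∃ N : Subgroup H, N.Normal ∧ N.index = 2 ∧
      Nonempty (N ≃* Matrix.ProjectiveSpecialLinearGroup (Fin 3) (ZMod 7)) ∧
      ∀ M : Subgroup H, M.Normal → M = ⊥ ∨ N ≤ M :=
  exists_index_two_strong psl37_noncomm θ hInn hout (by rw [card_psl37]; exact hcard) φ hφ hH

end Cfsg.Agent.Helper58.L37
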