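import Mathlib
import Cfsg.Prelude.Def_Spor_ON
import Cfsg.Agent.Lib.Helper58.L37Strong
import Cfsg.Agent.Lib.Helper13.L37Phi
import Cfsg.Agent.Lib.Helper28.L37Card
import Cfsg.Agent.Lib.Helper40.L37Theta
import Cfsg.Agent.Lib.Helper28.S1692.HBig

/-!
# S1693 assembled, strong form (L37 server): the subgroup `H = ⟨a, …, f⟩` of the presented O'Nan group

`H` has a normal subgroup `N` of index 2 with `N ≃* PSL(3, ZMod 7)`, and every normal subgroup of `H`
is trivial or contains `N` (the extra clause is exported for S1699).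
-/

set_option autoImplicit false

namespace Cfsg.Agent.Helper58.L37

open Cfsg.Agent.Helper13.L37

theorem onH_strong :
    ∃ N : Subgroup ↥Cfsg.Agent.Helper13.L37.HSub, N.Normal ∧ N.index = 2 ∧
      Nonempty (N ≃* Matrix.ProjectiveSpecialLinearGroup (Fin 3) (ZMod 7)) ∧
      ∀ M : Subgroup ↥Cfsg.Agent.Helper13.L37.HSub, M.Normal → M = ⊥ ∨ N ≤ M := by
  obtain ⟨hfin, hcard⟩ := Cfsg.Agent.Helper28.L37.card_K_le
  have := hfin
  have : Finite ↥Cfsg.Agent.Helper13.L37.HSub := Finite.of_surjective _ phiK_surjective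
  exact exists_index_two_psl37_strong Cfsg.Agent.Helper40.L37.theta
    Cfsg.Agent.Helper40.L37.inn_le_theta_range Cfsg.Agent.Helper40.L37.theta_out hcard
    phiK phiK_surjective Cfsg.Agent.Helper28.S1692H.two_lt_card_stmt

/-- The same, with `H` spelled exactly as in the statements S1692 / S1693. -/
theorem onH_strong_stmt :
    ∃ N : Subgroup (((Subgroup.closure ({Cfsg.Spor.ON.a, Cfsg.Spor.ON.b, Cfsg.Spor.ON.c, Cfsg.Spor.ON.d,
      Cfsg.Spor.ON.e, Cfsg.Spor.ON.f} : Set (FreeGroup Cfsg.Spor.ON.Gen))).map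
        (PresentedGroup.mk (Cfsg.Spor.coxRelators Cfsg.Spor.ON.edges ∪ {r | r ∈ Cfsg.Spor.ON.extra})))),
      N.Normal ∧ N.index = 2 ∧
        Nonempty (N ≃* Matrix.ProjectiveSpecialLinearGroup (Fin 3) (ZMod 7)) ∧
        ∀ M : Subgroup (((Subgroup.closure ({Cfsg.Spor.ON.a, Cfsg.Spor.ON.b, Cfsg.Spor.ON.c,
          Cfsg.Spor.ON.d, Cfsg.Spor.ON.e, Cfsg.Spor.ON.f} : Set (FreeGroup Cfsg.Spor.ON.Gen))).map
            (PresentedGroup.mk (Cfsg.Spor.coxRelators Cfsg.Spor.ON.edges ∪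
              {r | r ∈ Cfsg.Spor.ON.extra})))), M.Normal → M = ⊥ ∨ N ≤ M :=
  onH_strong

end Cfsg.Agent.Helper58.L37
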