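import Mathlib

/-!
# RPD3 (DED) for helper80's RPD3 server (S4863): Dedekind's modular law.
-/

set_option autoImplicit false

namespace Cfsg.Agent.Helper58.RPD3

universe u

/-- (DED) Dedekind's modular law -/
theorem sup_inf_eq_of_inf_eq_bot {G : Type u} [Group G] (T N U : Subgroup G) [N.Normal]
    (hTU : T ≤ U) (hNU : N ⊓ U = ⊥) : (T ⊔ N) ⊓ U = T := by
  apply le_antisymm
  · intro x hx
    obtain ⟨hx1, hx2⟩ := Subgroup.mem_inf.mp hx
    obtain ⟨y, hy, z, hz, hyz⟩ := Subgroup.mem_sup_of_normal_right.mp hx1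
    have hzU : z ∈ U := by
      have : z = y⁻¹ * x := by rw [← hyz, inv_mul_cancel_left]
      rw [this]
      exact U.mul_mem (U.inv_mem (hTU hy)) hx2
    have hz1 : z ∈ N ⊓ U := Subgroup.mem_inf.mpr ⟨hz, hzU⟩
    rw [hNU, Subgroup.mem_bot] at hz1
    rw [← hyz, hz1, mul_one]
    exact hy
  · exact le_inf le_sup_left hTU

end Cfsg.Agent.Helper58.RPD3
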