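import Mathlib

/-!
# RPD3 (TQ1) for helper80's RPD3 server (S4863).
-/

set_option autoImplicit false

namespace Cfsg.Agent.Helper58.RPD3

universe u

/-- (TQ1) a Sylow-like `p`-subgroup `T` of `U` maps to a Sylow-like `p`-subgroup of the image -/
theorem sylow_like_quotient {G : Type u} [Group G] [Finite G] (p : ℕ) [Fact p.Prime]
    (N : Subgroup G) [N.Normal] (T U : Subgroup G) (hTU : T ≤ U) (hT : IsPGroup p ↥T)
    (hTi : ¬ p ∣ T.relIndex U) :
    T.map (QuotientGroup.mk' N) ≤ U.map (QuotientGroup.mk' N) ∧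
      IsPGroup p ↥(T.map (QuotientGroup.mk' N)) ∧
      ¬ p ∣ (T.map (QuotientGroup.mk' N)).relIndex (U.map (QuotientGroup.mk' N)) := by
  refine ⟨Subgroup.map_mono hTU, hT.map _, ?_⟩
  rw [← Subgroup.relIndex_comap, QuotientGroup.comap_map_mk']
  intro h
  exact hTi (h.trans (Subgroup.relIndex_dvd_of_le_left U le_sup_right))

end Cfsg.Agent.Helper58.RPD3
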