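import Mathlib

/-!
# RPD3 (TQ2) for helper80's RPD3 server (S4863).
-/

set_option autoImplicit false

namespace Cfsg.Agent.Helper58.RPD3

universe u

/-- (TQ2) if the image of the `p`-subgroup `T` in `G ⧸ N` is normal then `T N ⊴ G`, and
`|T N : N|` is a power of `p` -/
theorem sup_normal_of_quotient3 {G : Type u} [Group G] [Finite G] (p : ℕ) [Fact p.Prime]
    (N : Subgroup G) [N.Normal] (T : Subgroup G) (hT : IsPGroup p ↥T)
    (hq : (T.map (QuotientGroup.mk' N)).Normal) :
    (T ⊔ N).Normal ∧ ∃ k : ℕ, N.relIndex (T ⊔ N) = p ^ k := by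
  have hp : p.Prime := Fact.out
  constructor
  · have h1 : (Subgroup.comap (QuotientGroup.mk' N) (T.map (QuotientGroup.mk' N))).Normal :=
      hq.comap _
    rw [QuotientGroup.comap_map_mk', sup_comm] at h1
    exact h1
  · rw [Subgroup.relIndex_sup_right]
    obtain ⟨a, ha⟩ := hT.exists_card_eq
    have hdvd : N.relIndex T ∣ p ^ a := by
      rw [← ha]
      exact Subgroup.relIndex_dvd_card N T
    obtain ⟨j, -, hj⟩ := (Nat.dvd_prime_pow hp).mp hdvd
    exact ⟨j, hj⟩

end Cfsg.Agent.Helper58.RPD3
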