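import Mathlib

set_option autoImplicit false

namespace Cfsg.Agent.Helper58

open Polynomial Finset

variable (p : ℕ) [Fact p.Prime]

/-- power sums of a bijection of `ZMod p` vanish in degree `< p - 1` -/
theorem sum_pow_bij_eq_zero (g : ZMod p → ZMod p) (hg : Function.Bijective g) (k : ℕ)
    (hk : k < p - 1) : ∑ x, g x ^ k = 0 := by
  have h := FiniteField.sum_pow_lt_card_sub_one (K := ZMod p) k (by rwa [ZMod.card])
  rw [← h]
  exact (Equiv.ofBijective g hg).sum_comp (fun y => y ^ k)

theorem sum_pow_card_sub_one : ∑ x : ZMod p, x ^ (p - 1) = -1 := by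
  classical
  have hp : p.Prime := Fact.out
  have h1 : ∀ x : ZMod p, x ^ (p - 1) = 1 - (if x = 0 then 1 else 0) := by
    intro x
    split_ifs with hx
    · subst hx
      rw [zero_pow (by have := hp.two_le; omega), sub_self]
    · rw [ZMod.pow_card_sub_one_eq_one hx, sub_zero]
  simp_rw [h1]
  rw [Finset.sum_sub_distrib, Finset.sum_const, Finset.sum_ite_eq' Finset.univ (0 : ZMod p)]
  simp

/-- sum of the values of a polynomial of degree `< p` over `ZMod p` -/
theorem sum_eval_eq_neg_coeff (P : (ZMod p)[X]) (hP : P.natDegree < p) :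
    ∑ x : ZMod p, P.eval x = - P.coeff (p - 1) := by
  have hp : p.Prime := Fact.out
  simp_rw [eval_eq_sum_range' hP]
  rw [Finset.sum_comm]
  simp_rw [← Finset.mul_sum]
  rw [Finset.sum_eq_single (p - 1)]
  · rw [sum_pow_card_sub_one, mul_neg_one]
  · intro i hi hne
    have hlt : i < Fintype.card (ZMod p) - 1 := by
      rw [ZMod.card]; have := mem_range.mp hi; omega
    rw [FiniteField.sum_pow_lt_card_sub_one (K := ZMod p) i hlt, mul_zero]
  · intro h
    exfalso
    apply h
    rw [mem_range]
    have := hp.pos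
    omega

theorem choose_ne_zero_of_lt (k j : ℕ) (hk : k < p) (hj : j ≤ k) :
    ((k.choose j : ℕ) : ZMod p) ≠ 0 := by
  have hp : p.Prime := Fact.out
  rw [Ne, ZMod.natCast_eq_zero_iff]
  intro hd
  have h1 : k.choose j ∣ k.factorial := by
    rw [← Nat.choose_mul_factorial_mul_factorial hj, mul_assoc]
    exact dvd_mul_right _ _
  have h2 := (hp.dvd_factorial).mp (hd.trans h1)
  omega

theorem moment_eq_zero (f : ZMod p → ZMod p) (D : Finset (ZMod p)) (hD : 2 * D.card + 1 ≤ p)
    (hf : ∀ x y, x ≠ y → ∃ s ∈ D, f x - f y = s * (x - y)) (k j : ℕ) (hk : 2 * k + 1 ≤ p)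
    (hj : j ≤ k) :
    ∑ x : ZMod p, x ^ j * f x ^ (k - j) = 0 := by
  classical
  have hp : p.Prime := Fact.out
  have hp3 : 3 ≤ p := by
    by_contra hlt
    have hp2 : p = 2 := by have := hp.two_le; omega
    have hD0 : D = ∅ := by
      rw [← Finset.card_eq_zero]; omega
    have h01 : (0 : ZMod p) ≠ 1 := zero_ne_one
    obtain ⟨s, hs, -⟩ := hf 0 1 h01
    rw [hD0] at hs
    exact absurd hs (Finset.notMem_empty s)
  have hperm : ∀ c, c ∉ D → Function.Bijective (fun x => f x - c * x) := by
    intro c hc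
    apply Finite.injective_iff_bijective.mp
    intro x y hxy
    by_contra hne
    obtain ⟨s, hs, hsxy⟩ := hf x y hne
    have h1 : f x - f y = c * (x - y) := by
      have : f x - c * x = f y - c * y := hxy
      linear_combination this
    have h2 : (s - c) * (x - y) = 0 := by rw [sub_mul, ← hsxy, h1, sub_self]
    rcases mul_eq_zero.mp h2 with h3 | h3
    · apply hc
      rw [← sub_eq_zero.mp h3]; exact hs
    · exact hne (sub_eq_zero.mp h3)
  have hpow : ∀ c, c ∉ D → ∑ x, (f x - c * x) ^ k = 0 := by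
    intro c hc
    exact sum_pow_bij_eq_zero p _ (hperm c hc) k (by omega)
  set S : ℕ → ZMod p := fun j => ∑ x : ZMod p, x ^ j * f x ^ (k - j) with hS
  set Q : (ZMod p)[X] :=
    ∑ j ∈ range (k + 1), C (((k.choose j : ℕ) : ZMod p) * (-1) ^ j * S j) * X ^ j with hQ
  have heval : ∀ c, Q.eval c = ∑ x, (f x - c * x) ^ k := by
    intro c
    have h1 : ∀ x : ZMod p, (f x - c * x) ^ k =
        ∑ j ∈ range (k + 1), (-(c * x)) ^ j * f x ^ (k - j) * ((k.choose j : ℕ) : ZMod p) := by
      intro x
      rw [← add_pow]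
      congr 1
      ring
    simp_rw [h1]
    rw [Finset.sum_comm, hQ, eval_finsetSum]
    apply Finset.sum_congr rfl
    intro j _
    rw [eval_mul, eval_C, eval_pow, eval_X, hS]
    simp only
    rw [Finset.mul_sum, Finset.sum_mul]
    apply Finset.sum_congr rfl
    intro x _
    ring
  have hQdeg : Q.natDegree ≤ k := by
    apply natDegree_sum_le_of_forall_le
    intro j hj
    exact (natDegree_C_mul_X_pow_le _ _).trans (by have := mem_range.mp hj; omega)
  have hQ0 : Q = 0 := by
    apply eq_zero_of_natDegree_lt_card_of_eval_eq_zero' Q Dᶜ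
    · intro c hc
      rw [heval]
      exact hpow c (Finset.mem_compl.mp hc)
    · rw [Finset.card_compl, ZMod.card]
      omega
  have hcoef : Q.coeff j = ((k.choose j : ℕ) : ZMod p) * (-1) ^ j * S j := by
    rw [hQ, finsetSum_coeff]
    simp_rw [coeff_C_mul_X_pow]
    rw [Finset.sum_ite_eq (range (k + 1)) j]
    rw [if_pos (by rw [mem_range]; omega)]
  rw [hQ0, coeff_zero] at hcoef
  have hc1 := choose_ne_zero_of_lt p k j (by omega) hj
  have hc2 : ((-1 : ZMod p)) ^ j ≠ 0 := pow_ne_zero _ (neg_ne_zero.mpr one_ne_zero)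
  rcases mul_eq_zero.mp hcoef.symm with h | h
  · exact absurd h (mul_ne_zero hc1 hc2)
  · exact h

theorem arith_aux (P a b m : ℕ) (hP : P = a * m + b) (hb : b < m) (hm : 2 ≤ m) (ha : 1 ≤ a)
    (heven : Even P) : 2 * (a + b) ≤ P := by
  rcases Nat.lt_or_ge a 2 with ha2 | ha2
  · have ha1 : a = 1 := by omega
    subst ha1
    obtain ⟨t, ht⟩ := heven
    omega
  · rcases Nat.lt_or_ge m 3 with hm3 | hm3
    · have hm2 : m = 2 := by omega
      subst hm2
      obtain ⟨t, ht⟩ := heven
      omega
    · have : 2 * (m - 2) ≤ a * (m - 2) := Nat.mul_le_mul_right _ ha2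
      have h3 : a * m = a * (m - 2) + 2 * a := by
        have : m = (m - 2) + 2 := by omega
        conv_lhs => rw [this]
        ring
      omega

/-- **Rédei / Lovász–Schrijver**: a function on the prime field `ZMod p` whose difference
quotients all lie in a set of at most `(p-1)/2` elements is affine. -/
theorem affine_of_few_directions (f : ZMod p → ZMod p) (D : Finset (ZMod p))
    (hD : 2 * D.card + 1 ≤ p)
    (hf : ∀ x y, x ≠ y → ∃ s ∈ D, f x - f y = s * (x - y)) :
    ∃ c₁ c₀ : ZMod p, ∀ x, f x = c₁ * x + c₀ := by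
  classical
  have hp : p.Prime := Fact.out
  have hp3 : 3 ≤ p := by
    by_contra hlt
    have hp2 : p = 2 := by have := hp.two_le; omega
    have hD0 : D = ∅ := by
      rw [← Finset.card_eq_zero]; omega
    have h01 : (0 : ZMod p) ≠ 1 := zero_ne_one
    obtain ⟨s, hs, -⟩ := hf 0 1 h01
    rw [hD0] at hs
    exact absurd hs (Finset.notMem_empty s)
  have hodd : Even (p - 1) := by
    rcases hp.eq_two_or_odd' with h2 | hodd
    · omega
    · obtain ⟨t, ht⟩ := hodd
      exact ⟨t, by omega⟩
  set F : (ZMod p)[X] := Lagrange.interpolate Finset.univ (fun x : ZMod p => x) f with hF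
  have hinj : Set.InjOn (fun x : ZMod p => x) (Finset.univ : Finset (ZMod p)) :=
    fun _ _ _ _ h => h
  have hFeval : ∀ x, F.eval x = f x := fun x =>
    Lagrange.eval_interpolate_at_node (r := f) hinj (Finset.mem_univ x)
  have hFdeg : F.natDegree < p := by
    have h := Lagrange.degree_interpolate_lt (r := f) hinj
    rw [Finset.card_univ, ZMod.card] at h
    by_cases hF0 : F = 0
    · rw [hF0, natDegree_zero]; exact hp.pos
    · exact (natDegree_lt_iff_degree_lt hF0).mpr h
  by_cases hm : F.natDegree ≤ 1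
  · refine ⟨F.coeff 1, F.coeff 0, fun x => ?_⟩
    rw [← hFeval x]
    conv_lhs => rw [eq_X_add_C_of_natDegree_le_one hm]
    simp
  · exfalso
    rw [not_le] at hm
    set m := F.natDegree with hmdef
    have hF0 : F ≠ 0 := by
      intro h0
      rw [hmdef, h0, natDegree_zero] at hm
      omega
    set a := (p - 1) / m with ha
    set b := (p - 1) % m with hb
    have hdecomp : p - 1 = a * m + b := by
      rw [ha, hb, mul_comm]; exact (Nat.div_add_mod (p - 1) m).symm
    have hblt : b < m := Nat.mod_lt _ (by omega)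
    have ha1 : 1 ≤ a := by
      rw [ha]
      exact (Nat.one_le_div_iff (by omega)).mpr (by omega)
    have hab : 2 * (a + b) ≤ p - 1 := arith_aux (p - 1) a b m hdecomp hblt hm ha1 hodd
    set G : (ZMod p)[X] := X ^ b * F ^ a with hG
    have hG0 : G ≠ 0 := mul_ne_zero (pow_ne_zero _ X_ne_zero) (pow_ne_zero _ hF0)
    have hGdeg : G.natDegree = p - 1 := by
      rw [hG, natDegree_mul (pow_ne_zero _ X_ne_zero) (pow_ne_zero _ hF0), natDegree_X_pow,
        natDegree_pow, hdecomp, add_comm]
    have hGc : G.coeff (p - 1) ≠ 0 := by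
      rw [← hGdeg]
      exact leadingCoeff_ne_zero.mpr hG0
    have h1 := sum_eval_eq_neg_coeff p G (by rw [hGdeg]; have := hp.pos; omega)
    have h2 : ∑ x : ZMod p, G.eval x = 0 := by
      have h3 := moment_eq_zero p f D hD hf (a + b) b (by omega) (by omega)
      rw [← h3]
      apply Finset.sum_congr rfl
      intro x _
      rw [hG, eval_mul, eval_pow, eval_pow, eval_X, hFeval, Nat.add_sub_cancel]
    rw [h2] at h1
    exact hGc (neg_eq_zero.mp h1.symm)

end Cfsg.Agent.Helper58
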