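import Mathlib

set_option autoImplicit false
set_option maxHeartbeats 400000

namespace Cfsg.Agent.Helper58.SD

section

variable {F : Type*} [Field F] {H : Type*} [CommGroup H] {V : Type*} [AddCommGroup V]
  [Module F V] (ρ : Representation F H V)

/-- irreducibility in the form used by the statements -/
def Irr : Prop :=
  ∀ U : Submodule F V, (∀ h : H, ∀ u ∈ U, ρ h u ∈ U) → U = ⊥ ∨ U = ⊤

/-- the group algebra acting on `V` -/
noncomputable def ev : MonoidAlgebra F H →ₐ[F] Module.End F V := ρ.asAlgebraHom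

theorem ev_of (h : H) : ev ρ (MonoidAlgebra.of F H h) = ρ h := by
  simp [ev]

theorem ev_comm (a : MonoidAlgebra F H) (h : H) : ev ρ a * ρ h = ρ h * ev ρ a := by
  rw [← ev_of, ← map_mul, ← map_mul, mul_comm]

variable {ρ}

theorem injective_of_ne_zero (hirr : Irr ρ) (a : MonoidAlgebra F H) (ha : ev ρ a ≠ 0) :
    Function.Injective (ev ρ a) := by
  have hW := hirr (LinearMap.ker (ev ρ a)) (by
    intro h m hm
    rw [LinearMap.mem_ker] at hm ⊢
    have hc := ev_comm ρ a h
    have : (ev ρ a) (ρ h m) = ρ h ((ev ρ a) m) := by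
      have := congrArg (fun g : Module.End F V => g m) hc
      simpa using this
    rw [this, hm, map_zero])
  rcases hW with hW | hW
  · exact LinearMap.ker_eq_bot.mp hW
  · exact absurd (LinearMap.ker_eq_top.mp hW) ha

theorem isMaximal_ker [Finite F] [FiniteDimensional F V] [Nontrivial V] (hirr : Irr ρ) :
    (RingHom.ker (ev ρ)).IsMaximal := by
  have hfinV : Finite V := Module.finite_of_finite F
  rw [Ideal.isMaximal_iff]
  constructor
  · rw [RingHom.mem_ker, map_one]
    exact one_ne_zero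
  · intro J a hIJ ha haJ
    rw [RingHom.mem_ker] at ha
    have hinj := injective_of_ne_zero hirr a ha
    have hbij : Function.Bijective (ev ρ a) := ⟨hinj, Finite.surjective_of_injective hinj⟩
    obtain ⟨u, hu⟩ := (Module.End.isUnit_iff _).mpr hbij
    have hfin : Finite (Module.End F V) :=
      Finite.of_injective (fun g : Module.End F V => (g : V → V)) DFunLike.coe_injective
    have hn : 0 < orderOf u := orderOf_pos u
    have hun : (ev ρ a) ^ orderOf u = 1 := by
      rw [← hu, ← Units.val_pow_eq_pow_val, pow_orderOf_eq_one, Units.val_one]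
    have hmem : a ^ orderOf u - 1 ∈ RingHom.ker (ev ρ) := by
      rw [RingHom.mem_ker, map_sub, map_pow, map_one, hun, sub_self]
    have h1 : a ^ orderOf u ∈ J := Ideal.pow_mem_of_mem J haJ _ hn
    have h2 : a ^ orderOf u - 1 ∈ J := hIJ hmem
    have : (1 : MonoidAlgebra F H) = a ^ orderOf u - (a ^ orderOf u - 1) := by
      rw [sub_sub_cancel]
    rw [this]
    exact J.sub_mem h1 h2

variable (ρ)

/-- the field `F[ρ(H)]` as a quotient of the group algebra -/
abbrev KE : Type _ :=
  MonoidAlgebra F H ⧸ RingHom.ker (ev ρ)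

/-- embedding in the endomorphism ring -/
noncomputable def ιE : KE ρ →ₐ[F] Module.End F V := Ideal.kerLiftAlg (ev ρ)

theorem ιE_injective : Function.Injective (ιE ρ) := Ideal.kerLiftAlg_injective _

theorem ιE_mk (a : MonoidAlgebra F H) :
    ιE ρ (Ideal.Quotient.mk _ a) = ev ρ a := rfl

/-- the image of the group in the field -/
noncomputable def ζ : H →* KE ρ :=
  ((Ideal.Quotient.mk (RingHom.ker (ev ρ)) : MonoidAlgebra F H →+* KE ρ) : MonoidAlgebra F H →* KE ρ).comp
    (MonoidAlgebra.of F H)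

theorem ζ_apply (h : H) : ζ ρ h = Ideal.Quotient.mk _ (MonoidAlgebra.of F H h) := rfl

theorem ιE_ζ (h : H) : ιE ρ (ζ ρ h) = ρ h := by
  rw [ζ_apply, ιE_mk, ev_of]

theorem ζ_injective (hf : Function.Injective ρ) : Function.Injective (ζ ρ) := by
  intro x y hxy
  apply hf
  rw [← ιE_ζ, ← ιE_ζ, hxy]

theorem algHom_ext_ζ {A : Type*} [Semiring A] [Algebra F A] (f g : KE ρ →ₐ[F] A)
    (h : ∀ x, f (ζ ρ x) = g (ζ ρ x)) : f = g := by
  apply Ideal.Quotient.algHom_ext
  apply MonoidAlgebra.algHom_ext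
  · intro x
    exact h x
  · exact Subsingleton.elim _ _

variable {ρ}

theorem ιE_apply_injective (hirr : Irr ρ) (k : KE ρ) (hk : k ≠ 0) :
    Function.Injective (ιE ρ k) := by
  obtain ⟨a, rfl⟩ := Ideal.Quotient.mk_surjective k
  rw [ιE_mk]
  apply injective_of_ne_zero hirr
  intro h0
  apply hk
  apply ιE_injective ρ
  rw [ιE_mk, h0, map_zero]

variable (ρ)

/-- evaluation at a vector -/
noncomputable def evalAt (v₀ : V) : KE ρ →ₗ[F] V :=
  (LinearMap.applyₗ v₀).comp (ιE ρ).toLinearMap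

theorem evalAt_apply (v₀ : V) (k : KE ρ) : evalAt ρ v₀ k = ιE ρ k v₀ := rfl

theorem evalAt_ζ_mul (v₀ : V) (h : H) (k : KE ρ) :
    evalAt ρ v₀ (ζ ρ h * k) = ρ h (evalAt ρ v₀ k) := by
  rw [evalAt_apply, evalAt_apply, map_mul, ιE_ζ]
  rfl

variable {ρ}

theorem evalAt_bijective (hirr : Irr ρ) (v₀ : V) (hv₀ : v₀ ≠ 0) :
    Function.Bijective (evalAt ρ v₀) := by
  have hinj : Function.Injective (evalAt ρ v₀) := by
    rw [← LinearMap.ker_eq_bot, LinearMap.ker_eq_bot']
    intro k hk
    by_contra hk0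
    rw [evalAt_apply] at hk
    have := ιE_apply_injective hirr k hk0 (by rw [hk, map_zero] : ιE ρ k v₀ = ιE ρ k 0)
    exact hv₀ this
  have hsurj : Function.Surjective (evalAt ρ v₀) := by
    rw [← LinearMap.range_eq_top]
    rcases hirr (LinearMap.range (evalAt ρ v₀)) (by
      rintro h m ⟨k, rfl⟩
      exact ⟨ζ ρ h * k, evalAt_ζ_mul ρ v₀ h k⟩) with hW | hW
    · exfalso
      have : v₀ ∈ LinearMap.range (evalAt ρ v₀) := ⟨1, by rw [evalAt_apply, map_one]; rfl⟩
      rw [hW, Submodule.mem_bot] at this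
      exact hv₀ this
    · exact hW
  exact ⟨hinj, hsurj⟩

end

end Cfsg.Agent.Helper58.SD
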