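import Mathlib
import Cfsg.Agent.Lib.Helper58.SelfDualAb

set_option autoImplicit false
set_option maxHeartbeats 800000

namespace Cfsg.Agent.Helper58.SD

section

variable {F : Type*} [Field F] {H : Type*} [CommGroup H] {V : Type*} [AddCommGroup V]
  [Module F V] (ρ : Representation F H V)

/-- Part 1: dimension one. -/
theorem card_le_two_of_finrank_one [Finite H] (hfaith : Function.Injective ρ)
    (h1 : Module.finrank F V = 1) (B : LinearMap.BilinForm F V) (hB : B.Nondegenerate)
    (hinv : ∀ h : H, ∀ x y : V, B (ρ h x) (ρ h y) = B x y) : Nat.card H ≤ 2 := by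
  classical
  obtain ⟨v₀, hv₀, hspan⟩ := finrank_eq_one_iff'.mp h1
  have hc : ∀ h : H, ∃ c : F, c • v₀ = ρ h v₀ := fun h => hspan _
  choose c hc using hc
  have hB0 : B v₀ v₀ ≠ 0 := by
    intro h0
    apply hv₀
    apply hB.1 v₀
    intro y
    obtain ⟨d, rfl⟩ := hspan y
    rw [map_smul, h0, smul_zero]
  have hsq : ∀ h : H, c h = 1 ∨ c h = -1 := by
    intro h
    have := hinv h v₀ v₀
    rw [← hc] at this
    simp only [map_smul, LinearMap.smul_apply, smul_eq_mul] at this
    rw [← mul_assoc] at this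
    have h2 : c h * c h = 1 := by
      have h3 : (c h * c h - 1) * B v₀ v₀ = 0 := by rw [sub_mul, this, one_mul, sub_self]
      rcases mul_eq_zero.mp h3 with h4 | h4
      · exact sub_eq_zero.mp h4
      · exact absurd h4 hB0
    exact mul_self_eq_one_iff.mp h2
  have hinj : Function.Injective c := by
    intro x y hxy
    apply hfaith
    apply LinearMap.ext
    intro v
    obtain ⟨d, rfl⟩ := hspan v
    rw [map_smul, map_smul, ← hc, ← hc, hxy]
  let f : H → ({1, -1} : Finset F) := fun h => ⟨c h, by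
    rcases hsq h with h' | h' <;> simp [h']⟩
  have hf : Function.Injective f := by
    intro x y hxy
    apply hinj
    exact congrArg Subtype.val hxy
  calc Nat.card H ≤ Nat.card ({1, -1} : Finset F) := Nat.card_le_card_of_injective f hf
    _ = ({1, -1} : Finset F).card := by rw [Nat.card_eq_fintype_card, Fintype.card_coe]
    _ ≤ 2 := Finset.card_le_two

/-- Part 2, forward direction. -/
theorem forward [Fintype F] [Finite H] [FiniteDimensional F V] (hfaith : Function.Injective ρ)
    (hirr : Irr ρ) (h2 : 2 ≤ Module.finrank F V) (B : LinearMap.BilinForm F V)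
    (hB : B.Nondegenerate) (hinv : ∀ h : H, ∀ x y : V, B (ρ h x) (ρ h y) = B x y) :
    Even (Module.finrank F V) ∧
      Nat.card H ∣ Fintype.card F ^ (Module.finrank F V / 2) + 1 := by
  classical
  have hntV : Nontrivial V := Module.nontrivial_of_finrank_pos (R := F) (by omega)
  obtain ⟨v₀, hv₀⟩ := exists_ne (0 : V)
  have hmax := isMaximal_ker (ρ := ρ) hirr
  let _instF : Field (KE ρ) := Ideal.Quotient.field _
  have hbij := evalAt_bijective hirr v₀ hv₀
  let e : KE ρ ≃ₗ[F] V := LinearEquiv.ofBijective (evalAt ρ v₀) hbij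
  have hfinV : Finite V := Module.finite_of_finite F
  have hfinK : Finite (KE ρ) := Finite.of_injective _ hbij.1
  have hrank : Module.finrank F (KE ρ) = Module.finrank F V := LinearEquiv.finrank_eq e
  -- the involution on the group algebra
  let invStar : MonoidAlgebra F H →ₐ[F] MonoidAlgebra F H :=
    MonoidAlgebra.lift F (MonoidAlgebra F H) H ((MonoidAlgebra.of F H).comp (invMonoidHom : H →* H))
  have hinvStar : ∀ h, invStar (MonoidAlgebra.of F H h) = MonoidAlgebra.of F H h⁻¹ := by
    intro h
    simp [invStar]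
  have hadj0 : ∀ h x y, B (ρ h x) y = B x (ρ h⁻¹ y) := by
    intro h x y
    have : ρ h (ρ h⁻¹ y) = y := by
      rw [← Module.End.mul_apply, ← map_mul, mul_inv_cancel, map_one, Module.End.one_apply]
    rw [← hinv h x (ρ h⁻¹ y), this]
  have hadj : ∀ a x y, B (ev ρ a x) y = B x (ev ρ (invStar a) y) := by
    intro a
    induction a using MonoidAlgebra.induction_on with
    | of h =>
      intro x y
      rw [hinvStar, ev_of, ev_of, hadj0]
    | add a b ha hb =>
      intro x y
      simp only [map_add, LinearMap.add_apply, ha, hb]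
    | smul r a ha =>
      intro x y
      simp only [map_smul, LinearMap.smul_apply, ha]
  have hker : ∀ a, a ∈ RingHom.ker (ev ρ) →
      ((Ideal.Quotient.mkₐ F (RingHom.ker (ev ρ))).comp invStar) a = 0 := by
    intro a ha
    rw [RingHom.mem_ker] at ha
    rw [AlgHom.comp_apply, Ideal.Quotient.mkₐ_eq_mk, Ideal.Quotient.eq_zero_iff_mem,
      RingHom.mem_ker]
    apply LinearMap.ext
    intro y
    apply hB.2
    intro x
    rw [← hadj, ha]
    simp
  let σ : KE ρ →ₐ[F] KE ρ := Ideal.Quotient.liftₐ (RingHom.ker (ev ρ))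
    ((Ideal.Quotient.mkₐ F (RingHom.ker (ev ρ))).comp invStar) hker
  have hσ : ∀ h, σ (ζ ρ h) = ζ ρ h⁻¹ := by
    intro h
    rw [ζ_apply, ζ_apply]
    show (Ideal.Quotient.mkₐ F (RingHom.ker (ev ρ))) (invStar (MonoidAlgebra.of F H h)) = _
    rw [hinvStar]
    rfl
  -- σ is a power of Frobenius
  obtain ⟨⟨j, hj⟩, hjσ⟩ := (FiniteField.bijective_frobeniusAlgHom_pow F (KE ρ)).2 σ
  have hjσ' : FiniteField.frobeniusAlgHom F (KE ρ) ^ j = σ := hjσ
  have hfrobpow : ∀ (i : ℕ) (k : KE ρ),
      (FiniteField.frobeniusAlgHom F (KE ρ) ^ i) k = k ^ (Fintype.card F ^ i) := by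
    intro i k
    rw [AlgHom.coe_pow, FiniteField.coe_frobeniusAlgHom, pow_iterate]
  have hpow : ∀ h, ζ ρ h ^ (Fintype.card F ^ j) = ζ ρ h⁻¹ := by
    intro h
    rw [← hfrobpow, hjσ', hσ]
  have h2j : FiniteField.frobeniusAlgHom F (KE ρ) ^ (2 * j) = 1 := by
    apply algHom_ext_ζ
    intro h
    rw [hfrobpow, AlgHom.one_apply, two_mul, pow_add, pow_mul, hpow, hpow, inv_inv]
  have hord : Module.finrank F V ∣ 2 * j := by
    rw [← hrank, ← FiniteField.orderOf_frobeniusAlgHom F (KE ρ)]
    exact orderOf_dvd_of_pow_eq_one h2j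
  rw [hrank] at hj
  obtain ⟨c, hc⟩ := hord
  have hc2 : c = 0 ∨ c = 1 := by
    have : c < 2 := by
      by_contra hge
      rw [not_lt] at hge
      have : Module.finrank F V * 2 ≤ Module.finrank F V * c := Nat.mul_le_mul_left _ hge
      omega
    omega
  rcases hc2 with rfl | rfl
  · -- j = 0 : impossible
    exfalso
    have hj0 : j = 0 := by omega
    subst hj0
    have hfix : FiniteField.frobeniusAlgHom F (KE ρ) = 1 := by
      apply algHom_ext_ζ
      intro h
      have h1 : ζ ρ h * ζ ρ h = 1 := by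
        have := hpow h
        rw [pow_zero, pow_one] at this
        calc ζ ρ h * ζ ρ h = ζ ρ h * ζ ρ h⁻¹ := by rw [← this]
          _ = 1 := by rw [← map_mul, mul_inv_cancel, map_one]
      rw [AlgHom.one_apply]
      rcases mul_self_eq_one_iff.mp h1 with h3 | h3
      · rw [h3, map_one]
      · rw [h3, map_neg, map_one]
    have := FiniteField.orderOf_frobeniusAlgHom F (KE ρ)
    rw [hfix, orderOf_one, hrank] at this
    omega
  · -- 2 j = n
    have hn : Module.finrank F V = 2 * j := by omega
    refine ⟨⟨j, by omega⟩, ?_⟩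
    have hdiv : Module.finrank F V / 2 = j := by omega
    rw [hdiv]
    have hcyc : IsCyclic H := isCyclic_of_injective_ringHom (ζ ρ) (ζ_injective ρ hfaith)
    rw [← IsCyclic.exponent_eq_card]
    apply Monoid.exponent_dvd_of_forall_pow_eq_one
    intro h
    apply ζ_injective ρ hfaith
    rw [map_pow, map_one, pow_succ, hpow, ← map_mul, inv_mul_cancel, map_one]

/-- Part 2, backward direction. -/
theorem backward [Fintype F] [Finite H] [FiniteDimensional F V] (hirr : Irr ρ)
    (h2 : 2 ≤ Module.finrank F V)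
    (hdvd : Nat.card H ∣ Fintype.card F ^ (Module.finrank F V / 2) + 1) :
    ∃ B : LinearMap.BilinForm F V, B.Nondegenerate ∧
      ∀ h : H, ∀ x y : V, B (ρ h x) (ρ h y) = B x y := by
  classical
  have hntV : Nontrivial V := Module.nontrivial_of_finrank_pos (R := F) (by omega)
  obtain ⟨v₀, hv₀⟩ := exists_ne (0 : V)
  have hmax := isMaximal_ker (ρ := ρ) hirr
  let _instF : Field (KE ρ) := Ideal.Quotient.field _
  have hbij := evalAt_bijective hirr v₀ hv₀
  let e : KE ρ ≃ₗ[F] V := LinearEquiv.ofBijective (evalAt ρ v₀) hbij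
  have he : ∀ k, e k = evalAt ρ v₀ k := fun k => rfl
  have hfinV : Finite V := Module.finite_of_finite F
  have hfinK : Finite (KE ρ) := Finite.of_injective _ hbij.1
  have _instFD : FiniteDimensional F (KE ρ) := LinearEquiv.finiteDimensional e.symm
  set m := Module.finrank F V / 2 with hm
  let fm : KE ρ →ₗ[F] KE ρ := (FiniteField.frobeniusAlgHom F (KE ρ) ^ m).toLinearMap
  have hfm : ∀ k, fm k = k ^ (Fintype.card F ^ m) := by
    intro k
    show (FiniteField.frobeniusAlgHom F (KE ρ) ^ m) k = _
    rw [AlgHom.coe_pow, FiniteField.coe_frobeniusAlgHom, pow_iterate]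
  have hfm_inj : Function.Injective fm := by
    intro a b hab
    exact (FiniteField.frobeniusAlgHom F (KE ρ) ^ m).toRingHom.injective hab
  have hfm_surj : Function.Surjective fm := Finite.surjective_of_injective hfm_inj
  let B : LinearMap.BilinForm F V :=
    (Algebra.traceForm F (KE ρ)).compl₁₂ e.symm.toLinearMap (fm.comp e.symm.toLinearMap)
  have hBapp : ∀ x y, B x y = Algebra.traceForm F (KE ρ) (e.symm x) (fm (e.symm y)) :=
    fun x y => rfl
  have hnd := traceForm_nondegenerate F (KE ρ)
  refine ⟨B, ⟨?_, ?_⟩, ?_⟩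
  · intro x hx
    have : e.symm x = 0 := hnd.1 _ (fun z => by
      obtain ⟨w, rfl⟩ := hfm_surj z
      obtain ⟨y, rfl⟩ := e.symm.surjective w
      exact hx y)
    exact e.symm.map_eq_zero_iff.mp this
  · intro y hy
    have : fm (e.symm y) = 0 := hnd.2 _ (fun z => by
      obtain ⟨x, rfl⟩ := e.symm.surjective z
      exact hy x)
    have h0 : e.symm y = 0 := hfm_inj (by rw [this, map_zero])
    exact e.symm.map_eq_zero_iff.mp h0
  · intro h x y
    have hes : ∀ x, e.symm (ρ h x) = ζ ρ h * e.symm x := by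
      intro x
      apply e.injective
      rw [e.apply_symm_apply, he, evalAt_ζ_mul, ← he, e.apply_symm_apply]
    rw [hBapp, hBapp, hes, hes, hfm, hfm, mul_pow, Algebra.traceForm_apply,
      Algebra.traceForm_apply]
    have hz : ζ ρ h * ζ ρ h ^ (Fintype.card F ^ m) = 1 := by
      rw [← pow_succ', ← map_pow]
      have : h ^ (Fintype.card F ^ m + 1) = 1 := by
        obtain ⟨c, hc⟩ := hdvd
        rw [hc, pow_mul, pow_card_eq_one', one_pow]
      rw [this, map_one]
    congr 1
    calc ζ ρ h * e.symm x * (ζ ρ h ^ (Fintype.card F ^ m) * e.symm y ^ (Fintype.card F ^ m))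
        = (ζ ρ h * ζ ρ h ^ (Fintype.card F ^ m)) *
          (e.symm x * e.symm y ^ (Fintype.card F ^ m)) := by ring
      _ = e.symm x * e.symm y ^ (Fintype.card F ^ m) := by rw [hz, one_mul]

end

end Cfsg.Agent.Helper58.SD
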