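import Mathlib
import Cfsg.Agent.Lib.Helper58.SolvEP

set_option autoImplicit false

namespace Cfsg.Agent.Helper58

open MulAction Polynomial

/-- an elementary abelian `q`-group acting fixed-point-freely on a nontrivial abelian group of
exponent `p ≠ q` is cyclic -/
theorem cyclic_of_fpf {G : Type*} [Group G] (V : Subgroup G) [V.Normal]
    (hVcomm : ∀ a ∈ V, ∀ b ∈ V, a * b = b * a) (p : ℕ) (hVexp : ∀ v ∈ V, v ^ p = 1) (hV : V ≠ ⊥)
    {H : Subgroup G} (T : Subgroup H) (hTcomm : ∀ a ∈ T, ∀ b ∈ T, a * b = b * a) (q : ℕ)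
    (hq : q.Prime) (hqp : Nat.Coprime q p) (hTexp : ∀ t ∈ T, t ^ q = 1)
    (hfpf : ∀ t ∈ T, t ≠ 1 → ∀ v ∈ V, (t : G) * v * (t : G)⁻¹ = v → v = 1) (b : H) (hb : b ∈ T)
    (hb1 : b ≠ 1) : ∀ a ∈ T, a ∈ Subgroup.zpowers b := by
  intro a ha
  by_contra hna
  let _i1 : CommGroup V :=
    { (inferInstance : Group V) with mul_comm := fun x y => Subtype.ext (hVcomm x x.2 y y.2) }
  let _i2 : CommGroup T :=
    { (inferInstance : Group T) with mul_comm := fun x y => Subtype.ext (hTcomm x x.2 y y.2) }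
  let c : T →* MulAut V := (MulAut.conjNormal (H := V)).comp (H.subtype.comp T.subtype)
  have hc : ∀ (t : T) (v : V), ((c t v : V) : G) = ((t : H) : G) * v * ((t : H) : G)⁻¹ :=
    fun t v => rfl
  have hT' : ∀ t : T, t ^ q = 1 := fun t => Subtype.ext (by simpa using hTexp t t.2)
  have hfpf' : ∀ t : T, t ≠ 1 → ∀ v : V, c t v = v → v = 1 := by
    intro t ht v hv
    apply Subtype.ext
    apply hfpf t t.2 (fun h => ht (Subtype.ext h)) v v.2
    rw [← hc, hv]
  have hna' : (⟨a, ha⟩ : T) ∉ Subgroup.zpowers (⟨b, hb⟩ : T) := by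
    intro hmem
    apply hna
    obtain ⟨k, hk⟩ := Subgroup.mem_zpowers_iff.mp hmem
    rw [Subgroup.mem_zpowers_iff]
    refine ⟨k, ?_⟩
    have := congrArg Subtype.val hk
    simpa using this
  have hb1' : (⟨b, hb⟩ : T) ≠ 1 := fun h => hb1 (congrArg Subtype.val h)
  have key := pow_eq_one_of_fpf c q hq hT' hfpf' ⟨a, ha⟩ ⟨b, hb⟩ hb1' hna'
  obtain ⟨v, hv1⟩ := Subgroup.ne_bot_iff_exists_ne_one.mp hV
  apply hv1
  have h1 : v ^ q = 1 := key v
  have h2 : v ^ p = 1 := Subtype.ext (by simpa using hVexp v v.2)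
  have h3 := pow_gcd_eq_one.mpr ⟨h1, h2⟩
  rw [Nat.Coprime] at hqp
  rw [hqp, pow_one] at h3
  exact h3

section main

variable {G : Type*} [Group G] [Finite G] {Ω : Type*} [Fintype Ω] [MulAction G Ω]
  [FaithfulSMul G Ω]

/-- first half: the cyclic normal subgroup `T = ⟨b⟩` of prime order `q` of the stabilizer -/
theorem solvEP_step1 [Group.IsSolvable G] (p d : ℕ) (hp : p.Prime)
    (hcard : Fintype.card Ω = p ^ d) (hprim : IsPreprimitive G Ω)
    (hH : ∀ α : Ω, stabilizer G α ≠ ⊥)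
    (hep : ∀ (α ω : Ω), IsPreprimitive (stabilizer G α) (orbit (stabilizer G α) ω)) (α : Ω) :
    1 ≤ d ∧ ∃ V : Subgroup G, V.Normal ∧ V ≠ ⊥ ∧ (∀ a ∈ V, ∀ b ∈ V, a * b = b * a) ∧
      (∀ v ∈ V, v ^ p = 1) ∧
      ∃ (q : ℕ) (b : stabilizer G α), q.Prime ∧ b ≠ 1 ∧ b ^ q = 1 ∧ q ∣ p ^ d - 1 ∧
        (Subgroup.zpowers b).Normal ∧
        Subgroup.centralizer ((Subgroup.zpowers b : Subgroup (stabilizer G α)) :
          Set (stabilizer G α)) = Subgroup.zpowers b ∧
        (∀ ω : Ω, ω ≠ α → Nat.card (orbit (stabilizer G α) ω) = q) ∧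
        (∀ ω : Ω, ω ≠ α → ∀ y ∈ orbit (stabilizer G α) ω, ∃ k : ℕ, (b ^ k) • ω = y) := by
  classical
  have hE : EPStab (stabilizer G α) Ω α := epstab_of_hep hprim hep α
  have hntH : Nontrivial (stabilizer G α) := (Subgroup.nontrivial_iff_ne_bot _).mpr (hH α)
  obtain ⟨h, hh⟩ := exists_ne (1 : stabilizer G α)
  have hex : ∃ ω : Ω, (h : G) • ω ≠ ω := by
    by_contra hcon
    push Not at hcon
    apply hh
    apply Subtype.ext
    apply FaithfulSMul.eq_of_smul_eq_smul (α := Ω)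
    intro ω
    rw [hcon ω]; exact (one_smul G ω).symm
  obtain ⟨ω₀, hω₀'⟩ := hex
  have hω₀ : ω₀ ≠ α := by
    rintro rfl
    exact hω₀' h.2
  have hd : 1 ≤ d := by
    by_contra hd0
    have hd0' : d = 0 := by omega
    rw [hd0', pow_zero] at hcard
    have := Fintype.card_le_one_iff.mp hcard.le ω₀ α
    exact hω₀ this
  refine ⟨hd, ?_⟩
  obtain ⟨V, hVn, hV, hVcomm, hVexp⟩ := exists_regular_normal p d hp hcard hd hprim α
  refine ⟨V, hVn, hV, hVcomm, hVexp, ?_⟩
  obtain ⟨T, hTn, hT, hTcomm⟩ := exists_abelian_normal_of_solvable (stabilizer G α)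
  obtain ⟨q, e, hq, hcT, hTexp⟩ := hE.exists_prime_exponent hω₀ T hT hTcomm
  have hTle : T ≤ Subgroup.centralizer (T : Set (stabilizer G α)) := by
    intro a ha
    rw [Subgroup.mem_centralizer_iff]
    intro b hb
    exact hTcomm b hb a ha
  have hdiv : Nat.card T ∣ p ^ d - 1 := by
    have : Fintype T := Fintype.ofFinite _
    have hd' := card_dvd_card_sub_one_of_free (F := T) (X := Ω) α
      (fun f => hE.fix f) (by
        intro f hf x hx
        by_contra hxα
        apply hf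
        exact Subtype.ext (hE.eq_one_of_centralizer T hT hxα (f : stabilizer G α) (hTle f.2) hx))
    rw [← Nat.card_eq_fintype_card, hcard] at hd'
    exact hd'
  have he : e ≠ 0 := by
    intro he0
    rw [he0, pow_zero] at hcT
    exact hT (Subgroup.eq_bot_of_card_eq T hcT)
  have hqdiv : q ∣ p ^ d - 1 := by
    rw [hcT] at hdiv
    exact (dvd_pow_self q he).trans hdiv
  have hqp : Nat.Coprime q p := by
    rw [Nat.coprime_primes hq hp]
    rintro rfl
    have h1 : q ∣ q ^ d := dvd_pow_self q (by omega)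
    have h2 : 1 ≤ q ^ d := Nat.one_le_pow _ _ hq.pos
    have h3 : q ∣ 1 := by
      have := (Nat.dvd_sub h1 hqdiv)
      rwa [Nat.sub_sub_self h2] at this
    exact hq.one_lt.ne' (Nat.dvd_one.mp h3)
  have hfpf : ∀ t ∈ T, t ≠ 1 → ∀ v ∈ V, (t : G) * v * (t : G)⁻¹ = v → v = 1 := by
    intro t ht ht1 v hv hcomm
    by_contra hv1
    have hω : v • α ≠ α := fun hfix => hv1 (prim_abelian_free hprim V hV hVcomm v hv α hfix)
    apply ht1
    apply hE.eq_one_of_centralizer T hT hω t (hTle ht)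
    change (t : G) • v • α = v • α
    have h1 : (t : G) * v = v * (t : G) := by
      rw [mul_inv_eq_iff_eq_mul] at hcomm
      exact hcomm
    rw [← mul_smul, h1, mul_smul]
    congr 1
    exact t.2
  obtain ⟨b, hb1⟩ := Subgroup.ne_bot_iff_exists_ne_one.mp hT
  have hb1' : (b : stabilizer G α) ≠ 1 := fun h => hb1 (Subtype.ext h)
  have hcyc := cyclic_of_fpf V hVcomm p hVexp hV T hTcomm q hq hqp hTexp hfpf b b.2 hb1'
  have hTeq : T = Subgroup.zpowers (b : stabilizer G α) := by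
    apply le_antisymm
    · intro a ha; exact hcyc a ha
    · rw [Subgroup.zpowers_le]; exact b.2
  refine ⟨q, b, hq, hb1', hTexp b b.2, hqdiv, ?_, ?_, ?_, ?_⟩
  · rw [← hTeq]; exact hTn
  · rw [← hTeq]; exact hE.centralizer_eq T hT hTcomm hω₀
  · intro ω hω
    rw [← hE.card_eq_card_orbit T hT hTcomm hω, hTeq, Nat.card_zpowers]
    have : Fact q.Prime := ⟨hq⟩
    exact orderOf_eq_prime (hTexp b b.2) hb1'
  · intro ω hω y hy
    obtain ⟨n, hn, hny⟩ := hE.exists_smul_eq T hT hω y hy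
    rw [hTeq, ← mem_powers_iff_mem_zpowers] at hn
    obtain ⟨k, rfl⟩ := (Submonoid.mem_powers_iff _ _).mp hn
    exact ⟨k, hny⟩

/-- abstract version: a cyclic group `⟨b⟩` of order dividing `q` acting irreducibly on an
elementary abelian group of order `p ^ d`, normalized by `Y` -/
theorem abstract_step2 (p d : ℕ) [Fact p.Prime] {A : Type*} [CommGroup A] [Finite A]
    [Nontrivial A] [Module (ZMod p) (Additive A)] (hcard : Nat.card A = p ^ d)
    {Y : Type*} [Group Y] [Finite Y] (c : Y →* MulAut A) (b : Y) (q : ℕ) (hbq : b ^ q = 1)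
    (hirr : ∀ W : Subgroup A, (∀ w ∈ W, c b w ∈ W) → W = ⊥ ∨ W = ⊤)
    (hTn : (Subgroup.zpowers b).Normal) :
    (∀ i : ℕ, 0 < i → i < d → ¬ q ∣ p ^ i - 1) ∧
    ∃ (C : Type) (_ : Group C) (_ : IsCyclic C), Nat.card C = d ∧
      ∃ Θ : Y →* C, ∀ x, Θ x = 1 ↔ c (x * b * x⁻¹) = c b := by
  classical
  have hp : p.Prime := Fact.out
  let ρ₀ : Y →* Module.End (ZMod p) (Additive A) := endOfMulAut p c
  have hcM : Nat.card (Additive A) = p ^ d := hcard
  have hfinM : Finite (Additive A) := inferInstanceAs (Finite A)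
  have hirr' : IrrEnd p (ρ₀ b) := irrEnd_of_mulAut p c b hirr
  have hτq : (ρ₀ b) ^ q = 1 := by
    rw [← map_pow, hbq, map_one]
  constructor
  · intro i hi0 hid hdiv
    obtain ⟨m, hm⟩ := hdiv
    have hτpi : (ρ₀ b) ^ (p ^ i) = ρ₀ b := by
      have h1 : p ^ i = q * m + 1 := by
        have := Nat.one_le_pow i p hp.pos
        omega
      rw [h1, pow_succ, pow_mul, hτq, one_pow, one_mul]
    have := hirr'.le_of_pow_eq d hcM i hi0 hτpi
    omega
  · let ρ : Y →* (Module.End (ZMod p) (Additive A))ˣ := ρ₀.toHomUnits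
    have hρ : ∀ x : Y,
        ((ρ x : (Module.End (ZMod p) (Additive A))ˣ) : Module.End (ZMod p) (Additive A)) =
          ρ₀ x := fun x => rfl
    have hconj : ∀ x : Y, conjAlg (ρ x) (ρ₀ b) = ρ₀ (x * b * x⁻¹) := by
      intro x
      rw [conjAlg_apply, ← map_inv, hρ, hρ, map_mul, map_mul]
    have hnorm : ∀ x : Y,
        ∃ g : (ZMod p)[X], aeval (ρ₀ b) g = conjAlg (ρ x) (ρ₀ b) := by
      intro x
      have hmem : x * b * x⁻¹ ∈ Subgroup.zpowers b :=
        hTn.conj_mem b (Subgroup.mem_zpowers b) x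
      rw [← mem_powers_iff_mem_zpowers] at hmem
      obtain ⟨k, hk⟩ := (Submonoid.mem_powers_iff _ _).mp hmem
      refine ⟨X ^ k, ?_⟩
      rw [hconj, map_pow, aeval_X, ← map_pow, hk]
    obtain ⟨C, iG, iC, hcC, Θ, hΘ⟩ := hirr'.exists_hom_cyclic d hcM ρ hnorm
    refine ⟨C, iG, iC, hcC, Θ, ?_⟩
    intro x
    rw [hΘ, hconj]
    exact endOfMulAut_eq_iff p c _ _

/-- second half: primitive prime divisor and the map to a cyclic group of order `d` -/
theorem solvEP_step2 (p d : ℕ) [Fact p.Prime] (hcard : Fintype.card Ω = p ^ d)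
    (hprim : IsPreprimitive G Ω) (α : Ω) (V : Subgroup G) [V.Normal] (hV : V ≠ ⊥)
    (hVcomm : ∀ a ∈ V, ∀ b ∈ V, a * b = b * a) (hVexp : ∀ v ∈ V, v ^ p = 1)
    (q : ℕ) (b : stabilizer G α) (hbq : b ^ q = 1)
    (hTn : (Subgroup.zpowers b).Normal)
    (hcent : Subgroup.centralizer ((Subgroup.zpowers b : Subgroup (stabilizer G α)) :
          Set (stabilizer G α)) = Subgroup.zpowers b)
    (htr : ∀ ω : Ω, ω ≠ α → ∀ y ∈ orbit (stabilizer G α) ω, ∃ k : ℕ, (b ^ k) • ω = y) :
    (∀ i : ℕ, 0 < i → i < d → ¬ q ∣ p ^ i - 1) ∧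
    ∃ (C : Type) (_ : Group C) (_ : IsCyclic C), Nat.card C = d ∧
      ∃ Θ : stabilizer G α →* C, Θ.ker = Subgroup.zpowers b := by
  classical
  have hp : p.Prime := Fact.out
  let _i1 : CommGroup V :=
    { (inferInstance : Group V) with mul_comm := fun x y => Subtype.ext (hVcomm x x.2 y y.2) }
  let _i2 : Module (ZMod p) (Additive V) :=
    AddCommGroup.zmodModule (n := p) (G := Additive V) (fun x => by
      induction x using Additive.rec with
      | ofMul a =>
        rw [← ofMul_pow, show a ^ p = 1 from Subtype.ext (by simpa using hVexp a a.2)]; rfl)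
  have hntV : Nontrivial V := (Subgroup.nontrivial_iff_ne_bot V).mpr hV
  let cG : G →* MulAut V := MulAut.conjNormal
  have hcG : ∀ (g : G) (v : V), ((cG g v : V) : G) = g * v * g⁻¹ := fun g v => rfl
  let cH : stabilizer G α →* MulAut V := cG.comp (stabilizer G α).subtype
  have hcM : Nat.card V = p ^ d := by
    have := prim_abelian_card hprim V hV hVcomm α
    rw [hcard] at this
    exact this
  have hbα : (b : G) • α = α := b.2
  have htr' : ∀ ω : Ω, ω ≠ α → ∀ h : G, h • α = α → ∃ k : ℕ, (b : G) ^ k • ω = h • ω := by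
    intro ω hω h hh
    obtain ⟨k, hk⟩ := htr ω hω (h • ω) ⟨⟨h, hh⟩, rfl⟩
    exact ⟨k, hk⟩
  have hirr : ∀ W : Subgroup V, (∀ w ∈ W, cH b w ∈ W) → W = ⊥ ∨ W = ⊤ := by
    intro W hW
    have hinv : ∀ w ∈ W.map V.subtype, (b : G) * w * (b : G)⁻¹ ∈ W.map V.subtype := by
      rintro w ⟨w', hw', rfl⟩
      exact ⟨cH b w', hW w' hw', rfl⟩
    rcases irr_grp hprim V hV hVcomm α (b : G) hbα htr' (W.map V.subtype)
      (Subgroup.map_subtype_le W) hinv with h | h
    · left
      exact (Subgroup.map_eq_bot_iff_of_injective W V.subtype_injective).mp h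
    · right
      have h2 : (⊤ : Subgroup V).map V.subtype = V := by
        rw [← MonoidHom.range_eq_map, Subgroup.range_subtype]
      exact Subgroup.map_injective V.subtype_injective (h.trans h2.symm)
  obtain ⟨hc, C, iG, iC, hcC, Θ, hΘ⟩ := abstract_step2 p d hcM cH b q hbq hirr hTn
  refine ⟨hc, C, iG, iC, hcC, Θ, ?_⟩
  ext x
  rw [MonoidHom.mem_ker, hΘ, ← hcent, Subgroup.mem_centralizer_iff]
  constructor
  · intro h2
    have h3 : ((b : G))⁻¹ * ((x : G) * b * (x : G)⁻¹) = 1 := by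
      apply eq_one_of_centralizes hprim V hV α
      · have hx : (x : G) • α = α := x.2
        have hxi : (x : G)⁻¹ • α = α := by rw [inv_smul_eq_iff, hx]
        have hbi : (b : G)⁻¹ • α = α := by rw [inv_smul_eq_iff, hbα]
        rw [mul_smul, mul_smul, mul_smul, hxi, hbα, hx, hbi]
      · intro v hv
        have h4 : cH (b⁻¹ * (x * b * x⁻¹)) = 1 := by
          rw [map_mul, h2, ← map_mul, inv_mul_cancel, map_one]
        have h5 := congrArg (fun f : MulAut V => ((f ⟨v, hv⟩ : V) : G)) h4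
        exact h5
    rw [inv_mul_eq_one] at h3
    have h4 : (b : stabilizer G α) * x = x * b := by
      apply Subtype.ext
      have : (b : G) * x = x * b := by
        rw [eq_mul_inv_iff_mul_eq] at h3
        exact h3
      simpa using this
    intro h hh
    obtain ⟨k, rfl⟩ := Subgroup.mem_zpowers_iff.mp hh
    exact ((Commute.zpow_left (show Commute b x from h4) k)).eq
  · intro h1
    have h2 := h1 b (Subgroup.mem_zpowers b)
    have h3 : x * b * x⁻¹ = b := by
      rw [← h2]; group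
    rw [h3]

end main

end Cfsg.Agent.Helper58
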