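import Mathlib
import Cfsg.Agent.Lib.Helper84.Sp4Defs

/-!
# PSP4F lemma server (helper84, S5320), piece (EMB): API of `emb`, `sw`, `SS`
-/

set_option autoImplicit false

namespace Cfsg.Agent.Helper58.Sp4

open Matrix Cfsg.Agent.Helper84.Sp4

variable {F : Type*} [Field F]

theorem sw_mul_sw : (sw : Sp4 F) * sw = 1 := by
  apply Subtype.ext
  show (swM : Matrix (Fin 2 ⊕ Fin 2) (Fin 2 ⊕ Fin 2) F) * swM = 1
  ext i j
  rcases i with i | i <;> rcases j with j | j <;> fin_cases i <;> fin_cases j <;>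
    simp [swM, Matrix.mul_apply, Fintype.sum_sum_type, Fin.sum_univ_two]

theorem emb_sw_inv : (sw : Sp4 F)⁻¹ = sw := inv_eq_of_mul_eq_one_right sw_mul_sw

theorem emb_sw_mul_emb (A B : SL2 F) : (sw : Sp4 F) * emb (A, B) = emb (B, A) * sw := by
  apply Subtype.ext
  show (swM : Matrix (Fin 2 ⊕ Fin 2) (Fin 2 ⊕ Fin 2) F) *
      embM (A : Matrix (Fin 2) (Fin 2) F) (B : Matrix (Fin 2) (Fin 2) F) =
    embM (B : Matrix (Fin 2) (Fin 2) F) (A : Matrix (Fin 2) (Fin 2) F) * swM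
  ext i j
  rcases i with i | i <;> rcases j with j | j <;> fin_cases i <;> fin_cases j <;>
    simp [swM, embM, Matrix.mul_apply, Fintype.sum_sum_type, Fin.sum_univ_two]

theorem sw_conj (A B : SL2 F) : (sw : Sp4 F) * emb (A, B) * sw⁻¹ = emb (B, A) := by
  rw [emb_sw_mul_emb, mul_assoc, emb_sw_inv, sw_mul_sw, mul_one]

theorem emb_injective : Function.Injective (emb : SL2 F × SL2 F → Sp4 F) := by
  intro X Y h
  have hM : embM (X.1 : Matrix (Fin 2) (Fin 2) F) (X.2 : Matrix (Fin 2) (Fin 2) F) =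
      embM (Y.1 : Matrix (Fin 2) (Fin 2) F) (Y.2 : Matrix (Fin 2) (Fin 2) F) :=
    congrArg Subtype.val h
  have e := fun i j => congr_fun (congr_fun hM i) j
  apply Prod.ext
  · apply Subtype.ext
    ext i j
    fin_cases i <;> fin_cases j
    · simpa [embM] using e (Sum.inl 0) (Sum.inl 0)
    · simpa [embM] using e (Sum.inl 0) (Sum.inr 0)
    · simpa [embM] using e (Sum.inr 0) (Sum.inl 0)
    · simpa [embM] using e (Sum.inr 0) (Sum.inr 0)
  · apply Subtype.ext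
    ext i j
    fin_cases i <;> fin_cases j
    · simpa [embM] using e (Sum.inl 1) (Sum.inl 1)
    · simpa [embM] using e (Sum.inl 1) (Sum.inr 1)
    · simpa [embM] using e (Sum.inr 1) (Sum.inl 1)
    · simpa [embM] using e (Sum.inr 1) (Sum.inr 1)

theorem emb_ne_emb_mul_sw (X Y : SL2 F × SL2 F) : (emb X : Sp4 F) ≠ emb Y * sw := by
  intro h
  have hM : embM (X.1 : Matrix (Fin 2) (Fin 2) F) (X.2 : Matrix (Fin 2) (Fin 2) F) =
      embM (Y.1 : Matrix (Fin 2) (Fin 2) F) (Y.2 : Matrix (Fin 2) (Fin 2) F) * swM :=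
    congrArg Subtype.val h
  have e := fun i j => congr_fun (congr_fun hM i) j
  have h1 : (Y.1 : Matrix (Fin 2) (Fin 2) F) 0 0 = 0 := by
    have := e (Sum.inl 0) (Sum.inl 1)
    simp [embM, swM, Matrix.mul_apply, Fintype.sum_sum_type, Fin.sum_univ_two] at this
    exact this.symm
  have h2 : (Y.1 : Matrix (Fin 2) (Fin 2) F) 0 1 = 0 := by
    have := e (Sum.inl 0) (Sum.inr 1)
    simp [embM, swM, Matrix.mul_apply, Fintype.sum_sum_type, Fin.sum_univ_two] at this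
    exact this.symm
  have hdet : (Y.1 : Matrix (Fin 2) (Fin 2) F).det = 1 := Y.1.2
  rw [Matrix.det_fin_two, h1, h2] at hdet
  simp at hdet

theorem emb_zc_val : ((zc : Sp4 F) : Matrix (Fin 2 ⊕ Fin 2) (Fin 2 ⊕ Fin 2) F) = -1 := by
  show embM (((-1 : SL2 F)) : Matrix (Fin 2) (Fin 2) F) (((-1 : SL2 F)) : Matrix (Fin 2) (Fin 2) F)
    = -1
  rw [Matrix.SpecialLinearGroup.coe_neg, Matrix.SpecialLinearGroup.coe_one]
  ext i j
  rcases i with i | i <;> rcases j with j | j <;> fin_cases i <;> fin_cases j <;>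
    simp [embM]

theorem zc_comm (g : Sp4 F) : zc * g = g * zc := by
  apply Subtype.ext
  show ((zc : Sp4 F) : Matrix (Fin 2 ⊕ Fin 2) (Fin 2 ⊕ Fin 2) F) * g.1 = g.1 * (zc : Sp4 F).1
  rw [emb_zc_val]
  simp

theorem zc_ne_one (h2 : (2 : F) ≠ 0) : (zc : Sp4 F) ≠ 1 := by
  intro h
  have hM : ((zc : Sp4 F) : Matrix (Fin 2 ⊕ Fin 2) (Fin 2 ⊕ Fin 2) F) = 1 := congrArg Subtype.val h
  rw [emb_zc_val] at hM
  have := congr_fun (congr_fun hM (Sum.inl 0)) (Sum.inl 0)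
  simp at this
  apply h2
  have h3 : (2 : F) = 1 - (-1) := by ring
  rw [h3, this]; ring

/-- the set `emb (Q × Q) ∪ emb (Q × Q) sw` as a subgroup -/
noncomputable def embSSaux (F : Type*) [Field F] : Subgroup (Sp4 F) where
  carrier := {g | ∃ a ∈ (Q : Subgroup (SL2 F)), ∃ b ∈ (Q : Subgroup (SL2 F)),
      g = emb (a, b) ∨ g = emb (a, b) * sw}
  one_mem' := ⟨1, Subgroup.one_mem _, 1, Subgroup.one_mem _, Or.inl (map_one emb).symm⟩
  mul_mem' := by
    rintro g h ⟨a, ha, b, hb, hg⟩ ⟨c, hc, d, hd, hh⟩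
    rcases hg with rfl | rfl <;> rcases hh with rfl | rfl
    · refine ⟨a * c, Subgroup.mul_mem _ ha hc, b * d, Subgroup.mul_mem _ hb hd, Or.inl ?_⟩
      rw [← map_mul]; rfl
    · refine ⟨a * c, Subgroup.mul_mem _ ha hc, b * d, Subgroup.mul_mem _ hb hd, Or.inr ?_⟩
      rw [← mul_assoc, ← map_mul]; rfl
    · refine ⟨a * d, Subgroup.mul_mem _ ha hd, b * c, Subgroup.mul_mem _ hb hc, Or.inr ?_⟩
      rw [mul_assoc, emb_sw_mul_emb, ← mul_assoc, ← map_mul]; rfl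
    · refine ⟨a * d, Subgroup.mul_mem _ ha hd, b * c, Subgroup.mul_mem _ hb hc, Or.inl ?_⟩
      rw [mul_assoc, ← mul_assoc sw, emb_sw_mul_emb, mul_assoc, sw_mul_sw, mul_one, ← map_mul]
      rfl
  inv_mem' := by
    rintro g ⟨a, ha, b, hb, hg⟩
    rcases hg with rfl | rfl
    · refine ⟨a⁻¹, Subgroup.inv_mem _ ha, b⁻¹, Subgroup.inv_mem _ hb, Or.inl ?_⟩
      rw [← map_inv]; rfl
    · refine ⟨b⁻¹, Subgroup.inv_mem _ hb, a⁻¹, Subgroup.inv_mem _ ha, Or.inr ?_⟩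
      rw [_root_.mul_inv_rev, emb_sw_inv, ← map_inv, Prod.inv_mk, emb_sw_mul_emb]

theorem mem_SS_iff [Finite F] (g : Sp4 F) :
    g ∈ (SS : Subgroup (Sp4 F)) ↔ ∃ a ∈ (Q : Subgroup (SL2 F)), ∃ b ∈ (Q : Subgroup (SL2 F)),
      g = emb (a, b) ∨ g = emb (a, b) * sw := by
  constructor
  · intro hg
    have hle : (SS : Subgroup (Sp4 F)) ≤ embSSaux F := by
      unfold SS
      apply sup_le
      · rintro _ ⟨⟨a, b⟩, hab, rfl⟩
        exact ⟨a, hab.1, b, hab.2, Or.inl rfl⟩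
      · rw [Subgroup.zpowers_le]
        exact ⟨1, Subgroup.one_mem _, 1, Subgroup.one_mem _, Or.inr (by
          have h1 : ((1 : SL2 F), (1 : SL2 F)) = (1 : SL2 F × SL2 F) := rfl
          rw [h1, map_one, one_mul])⟩
    exact hle hg
  · rintro ⟨a, ha, b, hb, hg⟩
    have h1 : (emb (a, b) : Sp4 F) ∈ (SS : Subgroup (Sp4 F)) := by
      unfold SS
      exact Subgroup.mem_sup_left ⟨(a, b), ⟨ha, hb⟩, rfl⟩
    have h2 : (sw : Sp4 F) ∈ (SS : Subgroup (Sp4 F)) := by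
      unfold SS
      exact Subgroup.mem_sup_right (Subgroup.mem_zpowers _)
    rcases hg with rfl | rfl
    · exact h1
    · exact Subgroup.mul_mem _ h1 h2

theorem emb_pow_two_pow (hQ : IsPGroup 2 (Q : Subgroup (SL2 F))) {a b : SL2 F}
    (ha : a ∈ (Q : Subgroup (SL2 F))) (hb : b ∈ (Q : Subgroup (SL2 F))) :
    ∃ K : ℕ, (emb (a, b) : Sp4 F) ^ 2 ^ K = 1 := by
  obtain ⟨k, hk⟩ := hQ ⟨a, ha⟩
  obtain ⟨m, hm⟩ := hQ ⟨b, hb⟩
  have hk' : a ^ 2 ^ k = 1 := by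
    have := congrArg Subtype.val hk
    simpa using this
  have hm' : b ^ 2 ^ m = 1 := by
    have := congrArg Subtype.val hm
    simpa using this
  refine ⟨k + m, ?_⟩
  rw [← map_pow, Prod.pow_mk]
  have h1 : a ^ 2 ^ (k + m) = 1 := by rw [pow_add, pow_mul, hk', one_pow]
  have h2 : b ^ 2 ^ (k + m) = 1 := by rw [pow_add, mul_comm, pow_mul, hm', one_pow]
  rw [h1, h2]
  exact map_one emb

theorem embSS_isPGroup [Finite F] (hQ : IsPGroup 2 (Q : Subgroup (SL2 F))) :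
    IsPGroup 2 (SS : Subgroup (Sp4 F)) := by
  rintro ⟨g, hg⟩
  obtain ⟨a, ha, b, hb, h⟩ := (mem_SS_iff g).1 hg
  rcases h with rfl | rfl
  · obtain ⟨K, hK⟩ := emb_pow_two_pow hQ ha hb
    exact ⟨K, Subtype.ext (by rw [Subgroup.coe_pow]; exact hK)⟩
  · have hsq : ((emb (a, b) : Sp4 F) * sw) ^ 2 = emb (a * b, b * a) := by
      rw [pow_two, mul_assoc, ← mul_assoc sw, emb_sw_mul_emb, mul_assoc, sw_mul_sw, mul_one,
        ← map_mul]
      rfl
    obtain ⟨K, hK⟩ := emb_pow_two_pow hQ (Subgroup.mul_mem _ ha hb) (Subgroup.mul_mem _ hb ha)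
    refine ⟨K + 1, Subtype.ext ?_⟩
    rw [Subgroup.coe_pow]
    show ((emb (a, b) : Sp4 F) * sw) ^ 2 ^ (K + 1) = 1
    rw [pow_succ', pow_mul, hsq, hK]

end Cfsg.Agent.Helper58.Sp4
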