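import Mathlib
import Cfsg.Agent.Lib.Helper84.Sp4Defs
import Cfsg.Agent.Lib.Helper58.Sp4EMB

/-!
# PSP4F lemma server (helper84, S5320), piece (CTT): the centralizer of `tt` is the range of `emb`
-/

set_option autoImplicit false

namespace Cfsg.Agent.Helper58.Sp4

open Matrix Cfsg.Agent.Helper84.Sp4

variable {F : Type*} [Field F]

/-- the diagonal of `tt` -/
def cttT (F : Type*) [Field F] : Fin 2 ⊕ Fin 2 → F := Sum.elim ![-1, 1] ![-1, 1]

theorem ctt_tt_val : ((tt : Sp4 F) : Matrix (Fin 2 ⊕ Fin 2) (Fin 2 ⊕ Fin 2) F) =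
    Matrix.diagonal (cttT F) := by
  show embM (((-1 : SL2 F)) : Matrix (Fin 2) (Fin 2) F) (((1 : SL2 F)) : Matrix (Fin 2) (Fin 2) F)
    = _
  rw [Matrix.SpecialLinearGroup.coe_neg, Matrix.SpecialLinearGroup.coe_one]
  ext i j
  rcases i with i | i <;> rcases j with j | j <;> fin_cases i <;> fin_cases j <;>
    simp [embM, cttT]

theorem ctt_zero_of_comm (M : Matrix (Fin 2 ⊕ Fin 2) (Fin 2 ⊕ Fin 2) F)
    (h : M * Matrix.diagonal (cttT F) = Matrix.diagonal (cttT F) * M) (i j : Fin 2 ⊕ Fin 2)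
    (hij : cttT F j - cttT F i ≠ 0) : M i j = 0 := by
  have e := congr_fun (congr_fun h i) j
  rw [Matrix.mul_diagonal, Matrix.diagonal_mul] at e
  have h1 : M i j * (cttT F j - cttT F i) = 0 := by linear_combination e
  exact (mul_eq_zero.mp h1).resolve_right hij

theorem ctt_emb_of_comm (h2 : (2 : F) ≠ 0) (g : Sp4 F)
    (h : (g : Matrix (Fin 2 ⊕ Fin 2) (Fin 2 ⊕ Fin 2) F) * Matrix.diagonal (cttT F) =
      Matrix.diagonal (cttT F) * (g : Matrix (Fin 2 ⊕ Fin 2) (Fin 2 ⊕ Fin 2) F)) :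
    ∃ X : SL2 F × SL2 F, g = emb X := by
  have hne1 : (1 : F) - (-1) ≠ 0 := by
    have : (1 : F) - (-1) = 2 := by ring
    rw [this]; exact h2
  have hne2 : (-1 : F) - 1 ≠ 0 := by
    have : (-1 : F) - 1 = -2 := by ring
    rw [this]; exact neg_ne_zero.mpr h2
  have z := ctt_zero_of_comm g.1 h
  have z1 : g.1 (Sum.inl 0) (Sum.inl 1) = 0 := z _ _ (by simpa [cttT] using hne1)
  have z2 : g.1 (Sum.inl 1) (Sum.inl 0) = 0 := z _ _ (by simpa [cttT] using hne2)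
  have z3 : g.1 (Sum.inl 0) (Sum.inr 1) = 0 := z _ _ (by simpa [cttT] using hne1)
  have z4 : g.1 (Sum.inl 1) (Sum.inr 0) = 0 := z _ _ (by simpa [cttT] using hne2)
  have z5 : g.1 (Sum.inr 0) (Sum.inl 1) = 0 := z _ _ (by simpa [cttT] using hne1)
  have z6 : g.1 (Sum.inr 1) (Sum.inl 0) = 0 := z _ _ (by simpa [cttT] using hne2)
  have z7 : g.1 (Sum.inr 0) (Sum.inr 1) = 0 := z _ _ (by simpa [cttT] using hne1)
  have z8 : g.1 (Sum.inr 1) (Sum.inr 0) = 0 := z _ _ (by simpa [cttT] using hne2)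
  have hg : g.1 = embM
      !![g.1 (Sum.inl 0) (Sum.inl 0), g.1 (Sum.inl 0) (Sum.inr 0);
         g.1 (Sum.inr 0) (Sum.inl 0), g.1 (Sum.inr 0) (Sum.inr 0)]
      !![g.1 (Sum.inl 1) (Sum.inl 1), g.1 (Sum.inl 1) (Sum.inr 1);
         g.1 (Sum.inr 1) (Sum.inl 1), g.1 (Sum.inr 1) (Sum.inr 1)] := by
    ext i j
    rcases i with i | i <;> rcases j with j | j <;> fin_cases i <;> fin_cases j <;>
      simp [embM, z1, z2, z3, z4, z5, z6, z7, z8]
  have hs : g.1 * Matrix.J (Fin 2) F * g.1ᵀ = Matrix.J (Fin 2) F :=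
    (SymplecticGroup.mem_iff).1 g.2
  have e := fun i j => congr_fun (congr_fun hs i) j
  have hdA : (!![g.1 (Sum.inl 0) (Sum.inl 0), g.1 (Sum.inl 0) (Sum.inr 0);
         g.1 (Sum.inr 0) (Sum.inl 0), g.1 (Sum.inr 0) (Sum.inr 0)] :
         Matrix (Fin 2) (Fin 2) F).det = 1 := by
    have e1 := e (Sum.inl 0) (Sum.inr 0)
    simp [Matrix.J, Matrix.mul_apply, Fintype.sum_sum_type, Fin.sum_univ_two, z1, z3] at e1
    rw [Matrix.det_fin_two_of]
    first
      | linear_combination e1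
      | linear_combination (-1 : F) * e1
  have hdB : (!![g.1 (Sum.inl 1) (Sum.inl 1), g.1 (Sum.inl 1) (Sum.inr 1);
         g.1 (Sum.inr 1) (Sum.inl 1), g.1 (Sum.inr 1) (Sum.inr 1)] :
         Matrix (Fin 2) (Fin 2) F).det = 1 := by
    have e1 := e (Sum.inl 1) (Sum.inr 1)
    simp [Matrix.J, Matrix.mul_apply, Fintype.sum_sum_type, Fin.sum_univ_two, z2, z4] at e1
    rw [Matrix.det_fin_two_of]
    first
      | linear_combination e1
      | linear_combination (-1 : F) * e1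
  refine ⟨(⟨_, hdA⟩, ⟨_, hdB⟩), ?_⟩
  apply Subtype.ext
  exact hg

theorem mem_range_emb_of_comm (h2 : (2 : F) ≠ 0) (g : Sp4 F) (h : g * tt = tt * g) :
    ∃ X : SL2 F × SL2 F, g = emb X := by
  apply ctt_emb_of_comm h2 g
  have h1 := congrArg Subtype.val h
  rw [← ctt_tt_val]
  exact h1

theorem ctt_tt_mul_zc : (tt : Sp4 F) * zc = sw * tt * sw⁻¹ := by
  rw [show (tt : Sp4 F) = emb (-1, 1) from rfl, show (zc : Sp4 F) = emb (-1, -1) from rfl,
    sw_conj, ← map_mul]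
  congr 1
  apply Prod.ext
  · show (-1 : SL2 F) * (-1) = 1
    apply Subtype.ext
    simp
  · show (1 : SL2 F) * (-1) = -1
    rw [one_mul]

theorem mem_range_emb_sw_of_conj (h2 : (2 : F) ≠ 0) (g : Sp4 F) (h : g * tt * g⁻¹ = tt * zc) :
    ∃ X : SL2 F × SL2 F, g = emb X * sw := by
  rw [ctt_tt_mul_zc] at h
  have hcomm : (sw⁻¹ * g) * tt = tt * (sw⁻¹ * g) := by
    have h1 : g * tt = sw * tt * sw⁻¹ * g := by
      rw [← h]; group
    calc (sw⁻¹ * g) * tt = sw⁻¹ * (g * tt) := by group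
      _ = sw⁻¹ * (sw * tt * sw⁻¹ * g) := by rw [h1]
      _ = tt * (sw⁻¹ * g) := by group
  obtain ⟨X, hX⟩ := mem_range_emb_of_comm h2 _ hcomm
  refine ⟨(X.2, X.1), ?_⟩
  have h3 : g = sw * emb X := by
    rw [← hX]; group
  rw [h3]
  exact emb_sw_mul_emb X.1 X.2

end Cfsg.Agent.Helper58.Sp4
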