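import Mathlib
import Cfsg.Agent.Lib.Helper84.Sp4Defs
import Cfsg.Agent.Lib.Helper84.Sp4Basic
import Cfsg.Agent.Lib.Helper58.Sp4EMB

/-!
# PSP4F lemma server (helper84, S5320), piece (EMB), last lemma: `SS` is a 2-group
-/

set_option autoImplicit false

namespace Cfsg.Agent.Helper58.Sp4

open Matrix Cfsg.Agent.Helper84.Sp4

variable {F : Type*} [Field F]

theorem isPGroup_SS [Finite F] : IsPGroup 2 (SS : Subgroup (Sp4 F)) :=
  embSS_isPGroup Cfsg.Agent.Helper84.Sp4.isPGroup_Q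

end Cfsg.Agent.Helper58.Sp4
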