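import Mathlib
import Cfsg.Agent.Lib.Helper84.Sp4Defs
import Cfsg.Agent.Lib.Helper42.Sp4B3

/-!
# PSP4F lemma server (helper84, S5320), piece (OM): the element `om = (-1 + i + j + k)/2` of order 3
-/

set_option autoImplicit false
set_option linter.unusedTactic false
set_option linter.unreachableTactic false
set_option linter.unusedSimpArgs false

namespace Cfsg.Agent.Helper58.Sp4

open Matrix Cfsg.Agent.Helper84.Sp4

variable {F : Type*} [Field F]

/-- `j0 = ref x y` with `x² + y² = -1` -/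
theorem om_j0_form [Finite F] : ∃ x y : F, ((j0 : SL2 F) : Matrix (Fin 2) (Fin 2) F) = ref x y ∧
    x * x + y * y = -1 := by
  obtain ⟨x, y, h⟩ := Cfsg.Agent.Helper42.Sp4.j0_mem (F := F)
  refine ⟨x, y, h, ?_⟩
  have hdet : ((j0 : SL2 F) : Matrix (Fin 2) (Fin 2) F).det = 1 := (j0 : SL2 F).2
  rw [h] at hdet
  simp only [ref, Matrix.det_fin_two_of] at hdet
  linear_combination -hdet

theorem om_omM_form [Finite F] {x y : F}
    (hj : ((j0 : SL2 F) : Matrix (Fin 2) (Fin 2) F) = ref x y) :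
    (omM : Matrix (Fin 2) (Fin 2) F) =
      (2 : F)⁻¹ • !![x + y - 1, 1 + y - x; y - x - 1, -1 - x - y] := by
  unfold omM
  rw [Matrix.SpecialLinearGroup.coe_mul, hj, i0_val]
  congr 1
  ext i j
  fin_cases i <;> fin_cases j <;>
    simp [rot, ref, Matrix.mul_apply, Fin.sum_univ_two] <;> ring

theorem om_omM_form' [Finite F] {x y : F}
    (hj : ((j0 : SL2 F) : Matrix (Fin 2) (Fin 2) F) = ref x y) :
    (omM : Matrix (Fin 2) (Fin 2) F) =
      !![(2 : F)⁻¹ * (x + y - 1), (2 : F)⁻¹ * (1 + y - x);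
         (2 : F)⁻¹ * (y - x - 1), (2 : F)⁻¹ * (-1 - x - y)] := by
  rw [om_omM_form hj]
  ext i j
  fin_cases i <;> fin_cases j <;> simp

theorem om_det [Finite F] (h2 : (2 : F) ≠ 0) : (omM : Matrix (Fin 2) (Fin 2) F).det = 1 := by
  obtain ⟨x, y, hj, hxy⟩ := om_j0_form (F := F)
  rw [om_omM_form' hj, Matrix.det_fin_two_of]
  field_simp
  first
    | ring1
    | linear_combination (1 : F) * hxy
    | linear_combination (-1 : F) * hxy
    | linear_combination (2 : F) * hxy
    | linear_combination (-2 : F) * hxy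

theorem om_val [Finite F] (h2 : (2 : F) ≠ 0) :
    ((om : SL2 F) : Matrix (Fin 2) (Fin 2) F) = omM := by
  have h := om_det (F := F) h2
  have h1 : (om : SL2 F) = ⟨omM, h⟩ := by
    unfold om
    exact dif_pos h
  rw [h1]

theorem om_pow_three [Finite F] (h2 : (2 : F) ≠ 0) : (om : SL2 F) ^ 3 = 1 := by
  obtain ⟨x, y, hj, hxy⟩ := om_j0_form (F := F)
  apply Subtype.ext
  rw [Matrix.SpecialLinearGroup.coe_pow, om_val h2, om_omM_form' hj,
    Matrix.SpecialLinearGroup.coe_one]
  have hsq : (!![(2 : F)⁻¹ * (x + y - 1), (2 : F)⁻¹ * (1 + y - x);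
         (2 : F)⁻¹ * (y - x - 1), (2 : F)⁻¹ * (-1 - x - y)] : Matrix (Fin 2) (Fin 2) F) *
      !![(2 : F)⁻¹ * (x + y - 1), (2 : F)⁻¹ * (1 + y - x);
         (2 : F)⁻¹ * (y - x - 1), (2 : F)⁻¹ * (-1 - x - y)] =
      -!![(2 : F)⁻¹ * (x + y - 1), (2 : F)⁻¹ * (1 + y - x);
         (2 : F)⁻¹ * (y - x - 1), (2 : F)⁻¹ * (-1 - x - y)] - 1 := by
    ext i j
    fin_cases i <;> fin_cases j <;>
      simp [Matrix.mul_apply, Fin.sum_univ_two] <;> field_simp <;>
      first
        | ring1
        | linear_combination (1 : F) * hxy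
        | linear_combination (-1 : F) * hxy
        | linear_combination (2 : F) * hxy
        | linear_combination (-2 : F) * hxy
  rw [pow_succ, pow_two, hsq, sub_mul, neg_mul, hsq, one_mul]
  abel

theorem om_conj_i0 [Finite F] (h2 : (2 : F) ≠ 0) : (om : SL2 F) * i0 * om⁻¹ = i0 * j0 := by
  obtain ⟨x, y, hj, hxy⟩ := om_j0_form (F := F)
  rw [mul_inv_eq_iff_eq_mul]
  apply Subtype.ext
  rw [Matrix.SpecialLinearGroup.coe_mul, Matrix.SpecialLinearGroup.coe_mul,
    Matrix.SpecialLinearGroup.coe_mul, om_val h2, om_omM_form' hj, hj, i0_val]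
  ext i j
  fin_cases i <;> fin_cases j <;>
    simp [rot, ref, Matrix.mul_apply, Fin.sum_univ_two] <;> field_simp <;>
    first
      | ring1
      | linear_combination (1 : F) * hxy
      | linear_combination (-1 : F) * hxy
      | linear_combination (2 : F) * hxy
      | linear_combination (-2 : F) * hxy

theorem om_conj_j0 [Finite F] (h2 : (2 : F) ≠ 0) : (om : SL2 F) * j0 * om⁻¹ = i0 := by
  obtain ⟨x, y, hj, hxy⟩ := om_j0_form (F := F)
  rw [mul_inv_eq_iff_eq_mul]
  apply Subtype.ext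
  rw [Matrix.SpecialLinearGroup.coe_mul, Matrix.SpecialLinearGroup.coe_mul,
    om_val h2, om_omM_form' hj, hj, i0_val]
  ext i j
  fin_cases i <;> fin_cases j <;>
    simp [rot, ref, Matrix.mul_apply, Fin.sum_univ_two] <;> field_simp <;>
    first
      | ring1
      | linear_combination (1 : F) * hxy
      | linear_combination (-1 : F) * hxy
      | linear_combination (2 : F) * hxy
      | linear_combination (-2 : F) * hxy

end Cfsg.Agent.Helper58.Sp4
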