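import Mathlib
import Cfsg.Agent.Lib.Helper93.U30

/-!
# U3 server (helper93, S2334): shared matrix algebra for the pieces (U3), (U4).
-/

set_option autoImplicit false

namespace Cfsg.Agent.Helper58.U3

open Matrix Cfsg.Agent.Helper13 Cfsg.Agent.Helper93.U2 Cfsg.Agent.Helper93.U3

section GRP

variable {F : Type*} [Field F] [Fintype F] {q : ℕ} (hF : Fintype.card F = q ^ 2)

/-- `S M = P M P*` -/
noncomputable def h58S {n m : ℕ} (fr : FrameO hF n m) (M : Matrix (Fin m) (Fin m) F) :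
    Matrix (Fin n) (Fin n) F :=
  fr.P * M * cT hF fr.P

/-- `A y = P y w* - w y* P*` -/
noncomputable def h58A {n m : ℕ} (fr : FrameO hF n m) (y : Fin m → F) :
    Matrix (Fin n) (Fin n) F :=
  fr.P * colM y * cT hF fr.w - fr.w * cT hF (colM y) * cT hF fr.P

theorem h58_wP {n m : ℕ} (fr : FrameO hF n m) : cT hF fr.w * fr.P = 0 := by
  have h := congrArg (cT hF) fr.pw
  rw [cT_mul, cT_cT, cT_zero] at h
  exact h

theorem h58_A_mul_P {n m : ℕ} (fr : FrameO hF n m) (y : Fin m → F) :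
    h58A hF fr y * fr.P = 0 := by
  unfold h58A
  rw [Matrix.sub_mul]
  have t1 : fr.P * colM y * cT hF fr.w * fr.P = 0 := by
    rw [Matrix.mul_assoc, h58_wP, Matrix.mul_zero]
  have t2 : fr.w * cT hF (colM y) * cT hF fr.P * fr.P = 0 := by
    rw [Matrix.mul_assoc, fr.pp, Matrix.mul_zero]
  rw [t1, t2, sub_zero]

theorem h58_P_mul_A {n m : ℕ} (fr : FrameO hF n m) (y : Fin m → F) :
    cT hF fr.P * h58A hF fr y = 0 := by
  unfold h58A
  rw [Matrix.mul_sub]
  have t1 : cT hF fr.P * (fr.P * colM y * cT hF fr.w) = 0 := by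
    rw [← Matrix.mul_assoc, ← Matrix.mul_assoc, fr.pp, Matrix.zero_mul, Matrix.zero_mul]
  have t2 : cT hF fr.P * (fr.w * cT hF (colM y) * cT hF fr.P) = 0 := by
    rw [← Matrix.mul_assoc, ← Matrix.mul_assoc, fr.pw, Matrix.zero_mul, Matrix.zero_mul]
  rw [t1, t2, sub_zero]

theorem h58_A_mul_S {n m : ℕ} (fr : FrameO hF n m) (y : Fin m → F)
    (M : Matrix (Fin m) (Fin m) F) : h58A hF fr y * h58S hF fr M = 0 := by
  unfold h58S
  rw [← Matrix.mul_assoc, ← Matrix.mul_assoc, h58_A_mul_P, Matrix.zero_mul, Matrix.zero_mul]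

theorem h58_S_mul_A {n m : ℕ} (fr : FrameO hF n m) (y : Fin m → F)
    (M : Matrix (Fin m) (Fin m) F) : h58S hF fr M * h58A hF fr y = 0 := by
  unfold h58S
  rw [Matrix.mul_assoc, h58_P_mul_A, Matrix.mul_zero]

theorem h58_S_mul_S {n m : ℕ} (fr : FrameO hF n m) (M M' : Matrix (Fin m) (Fin m) F) :
    h58S hF fr M * h58S hF fr M' = 0 := by
  unfold h58S
  calc fr.P * M * cT hF fr.P * (fr.P * M' * cT hF fr.P)
      = fr.P * M * ((cT hF fr.P * fr.P) * (M' * cT hF fr.P)) := by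
        simp only [Matrix.mul_assoc]
    _ = 0 := by rw [fr.pp, Matrix.zero_mul, Matrix.mul_zero]

theorem h58_A_mul_A {n m : ℕ} (fr : FrameO hF n m) (y y' : Fin m → F) :
    h58A hF fr y * h58A hF fr y' = - h58S hF fr (colM y * cT hF (colM y')) := by
  unfold h58A h58S
  rw [Matrix.sub_mul, Matrix.mul_sub, Matrix.mul_sub]
  have t1 : fr.P * colM y * cT hF fr.w * (fr.P * colM y' * cT hF fr.w) = 0 := by
    calc fr.P * colM y * cT hF fr.w * (fr.P * colM y' * cT hF fr.w)
        = fr.P * colM y * ((cT hF fr.w * fr.P) * (colM y' * cT hF fr.w)) := by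
          simp only [Matrix.mul_assoc]
      _ = 0 := by rw [h58_wP, Matrix.zero_mul, Matrix.mul_zero]
  have t2 : fr.P * colM y * cT hF fr.w * (fr.w * cT hF (colM y') * cT hF fr.P)
      = fr.P * (colM y * cT hF (colM y')) * cT hF fr.P := by
    calc fr.P * colM y * cT hF fr.w * (fr.w * cT hF (colM y') * cT hF fr.P)
        = fr.P * (colM y * ((cT hF fr.w * fr.w) * cT hF (colM y'))) * cT hF fr.P := by
          simp only [Matrix.mul_assoc]
      _ = fr.P * (colM y * cT hF (colM y')) * cT hF fr.P := by rw [fr.ww, Matrix.one_mul]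
  have t3 : fr.w * cT hF (colM y) * cT hF fr.P * (fr.P * colM y' * cT hF fr.w) = 0 := by
    calc fr.w * cT hF (colM y) * cT hF fr.P * (fr.P * colM y' * cT hF fr.w)
        = fr.w * cT hF (colM y) * ((cT hF fr.P * fr.P) * (colM y' * cT hF fr.w)) := by
          simp only [Matrix.mul_assoc]
      _ = 0 := by rw [fr.pp, Matrix.zero_mul, Matrix.mul_zero]
  have t4 : fr.w * cT hF (colM y) * cT hF fr.P * (fr.w * cT hF (colM y') * cT hF fr.P) = 0 := by
    calc fr.w * cT hF (colM y) * cT hF fr.P * (fr.w * cT hF (colM y') * cT hF fr.P)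
        = fr.w * cT hF (colM y) * ((cT hF fr.P * fr.w) * (cT hF (colM y') * cT hF fr.P)) := by
          simp only [Matrix.mul_assoc]
      _ = 0 := by rw [fr.pw, Matrix.zero_mul, Matrix.mul_zero]
  rw [t1, t2, t3, t4]
  simp

theorem h58_uMat_eq {n m : ℕ} (fr : FrameO hF n m) (c₀ : F) (y : Fin m → F) :
    uMat hF fr c₀ y
      = 1 + h58A hF fr y + c₀ • h58S hF fr (colM y * cT hF (colM y)) := by
  unfold uMat h58A h58S
  rw [Matrix.mul_assoc fr.P (colM y) (cT hF (colM y))]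

theorem h58_aMatO_eq {n m : ℕ} (fr : FrameO hF n m) (ε : F) (H : Matrix (Fin m) (Fin m) F) :
    aMatO hF fr ε H = 1 + ε • h58S hF fr H := rfl

theorem h58_S_smul {n m : ℕ} (fr : FrameO hF n m) (c : F) (M : Matrix (Fin m) (Fin m) F) :
    h58S hF fr (c • M) = c • h58S hF fr M := by
  unfold h58S
  rw [Matrix.mul_smul, Matrix.smul_mul]

theorem h58_S_sub {n m : ℕ} (fr : FrameO hF n m) (M M' : Matrix (Fin m) (Fin m) F) :
    h58S hF fr (M - M') = h58S hF fr M - h58S hF fr M' := by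
  unfold h58S
  rw [Matrix.mul_sub, Matrix.sub_mul]

/-- the product of two `uMat`'s -/
theorem h58_uMat_mul {n m : ℕ} (fr : FrameO hF n m) (c₀ : F) (y y' : Fin m → F) :
    uMat hF fr c₀ y * uMat hF fr c₀ y'
      = 1 + h58A hF fr y + h58A hF fr y' + c₀ • h58S hF fr (colM y * cT hF (colM y))
        + c₀ • h58S hF fr (colM y' * cT hF (colM y'))
        - h58S hF fr (colM y * cT hF (colM y')) := by
  rw [h58_uMat_eq, h58_uMat_eq]
  simp only [add_mul, mul_add, one_mul, mul_one, Matrix.smul_mul, Matrix.mul_smul,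
    h58_A_mul_A, h58_A_mul_S, h58_S_mul_A, h58_S_mul_S, smul_zero, add_zero]
  abel

end GRP

end Cfsg.Agent.Helper58.U3
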