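import Mathlib
import Cfsg.Agent.Lib.Helper93.U30
import Cfsg.Agent.Lib.Helper58.U3UBase

/-!
# U3 (U4) for helper93's U3 server (S2334): `uMat_mul_uMat`.
-/

set_option autoImplicit false

namespace Cfsg.Agent.Helper58.U3

open Matrix Cfsg.Agent.Helper13 Cfsg.Agent.Helper93.U2 Cfsg.Agent.Helper93.U3

section GRP

variable {F : Type*} [Field F] [Fintype F] {q : ℕ} (hF : Fintype.card F = q ^ 2)

/-- piece U4 -/
theorem uMat_mul_uMat {n m : ℕ} (fr : FrameO hF n m) (c₀ ε : F) (hε : ε ^ q = -ε) (hε0 : ε ≠ 0)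
    (y y' : Fin m → F) :
    uMat hF fr c₀ y * uMat hF fr c₀ y' =
      aMatO hF fr ε (kH hF ε hε y y').1 * (uMat hF fr c₀ y' * uMat hF fr c₀ y) := by
  have hK : ε • h58S hF fr (kH hF ε hε y y').1
      = h58S hF fr (colM y' * cT hF (colM y)) - h58S hF fr (colM y * cT hF (colM y')) := by
    rw [kH_val, h58_S_smul, h58_S_sub, smul_smul, mul_inv_cancel₀ hε0, one_smul]
  rw [h58_aMatO_eq, hK, h58_uMat_mul, h58_uMat_mul]
  simp only [add_mul, sub_mul, mul_add, mul_sub, one_mul, mul_one, Matrix.smul_mul,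
    Matrix.mul_smul, h58_S_mul_A, h58_S_mul_S, smul_zero, add_zero, sub_zero]
  abel

end GRP

end Cfsg.Agent.Helper58.U3
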